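import Cfsg.Agent.Lib.M24Quot.Count

/-!
The automiser is, in suitable coordinates, one of four listed groups.
-/

set_option autoImplicit false
set_option maxRecDepth 100000
set_option linter.unusedSectionVars false
set_option linter.style.haveILetI false

namespace CfsgLib.M24Quot

open Subgroup

/-- the conclusion on the automiser -/
def Out (X : Subgroup P64) : Prop :=
  ∃ g : ℕ × ℕ, mulC g.1 g.2 = idC ∧ mulC g.2 g.1 = idC ∧
    ∃ L, (L = lstD ∨ L = lstG1 ∨ L = lstG2 ∨ L = lstL0) ∧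
      (∀ σ ∈ X, ∃ c ∈ L, code σ = mulC g.1 (mulC c g.2)) ∧
      ∀ c ∈ L, ∃ σ ∈ X, code σ = mulC g.1 (mulC c g.2)

theorem mem_of_memC {c : ℕ} {L : List ℕ} (h : memC c L = true) : c ∈ L := by
  simp only [memC, List.any_eq_true, Nat.beq_eq] at h
  obtain ⟨d, hd, rfl⟩ := h
  exact hd

theorem small_facts : Nat.beq (mulC sA idC) sA = true ∧ Nat.beq (mulC idC sA) sA = true ∧
    Nat.beq (mulC sB idC) sB = true ∧ Nat.beq (mulC idC sB) sB = true ∧
    (lstD.all fun c => memC c ddL) = true ∧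
    ((List.range 8).all fun k => memC (dd k) lstD && memC (dd k) lstG1 && memC (dd k) lstG2 &&
      memC (dd k) lstL0) = true ∧
    ((List.range 8).all fun k => !Nat.beq (mt k k) 0 || Nat.beq k 0 ||
      (List.range 8).any fun m => [1, 2, 6].any fun t => Nat.beq (mt k m) (mt m t)) = true := by
  decide +kernel

theorem one_canon : mulC idC idC = idC := mk_congr fun v hv => by rw [app_idC hv, app_idC hv, id_eq]

theorem mulC_idC_left (a b : ℕ) : mulC idC (mulC a b) = mulC a b :=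
  mk_congr fun v hv => by rw [app_idC (app_lt _ _), app_mulC _ _ hv]

namespace Au

variable {X : Subgroup P64} (a : Au X)
include a

theorem out_of_eq {L : List ℕ} (hL : L = lstD ∨ L = lstG1 ∨ L = lstG2 ∨ L = lstL0)
    (h1 : ∀ σ ∈ X, code σ ∈ L) (h2 : ∀ c ∈ L, ∃ σ ∈ X, code σ = c) : Out X := by
  refine ⟨(idC, idC), one_canon, one_canon, L, hL, fun σ hσ => ⟨code σ, h1 σ hσ, ?_⟩,
    fun c hc => ?_⟩
  · show code σ = mulC idC (mulC (code σ) idC)
    rw [mulC_idC_left, (a.lin σ hσ).canon]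
  · obtain ⟨σ, hσ, rfl⟩ := h2 c hc
    refine ⟨σ, hσ, ?_⟩
    show code σ = mulC idC (mulC (code σ) idC)
    rw [mulC_idC_left, (a.lin σ hσ).canon]

theorem out_of_conj {g : ℕ × ℕ} (hg : gaugeOK g = true) {γ : P64}
    (hcode : ∀ σ ∈ X.comap (MulAut.conj γ).toMonoidHom,
      code (γ * σ * γ⁻¹) = mulC g.1 (mulC (code σ) g.2))
    (h : Out (X.comap (MulAut.conj γ).toMonoidHom)) : Out X := by
  obtain ⟨g1, g2, -⟩ := gaugeOK_spec hg
  obtain ⟨e, e1, e2, L, hL, h1, h2⟩ := h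
  refine ⟨(mulC g.1 e.1, mulC e.2 g.2), ?_, ?_, L, hL, fun σ hσ => ?_, fun c hc => ?_⟩
  · show mulC (mulC g.1 e.1) (mulC e.2 g.2) = idC
    rw [mulC_assoc, ← mulC_assoc e.1, e1, mulC_congr (a := g.1) (a' := g.1) (b' := g.2)
      (fun _ _ => rfl) (fun v hv => by rw [app_mulC _ _ hv, app_idC (app_lt _ _)]), g1]
  · show mulC (mulC e.2 g.2) (mulC g.1 e.1) = idC
    rw [mulC_assoc, ← mulC_assoc g.2, g2, mulC_congr (a := e.2) (a' := e.2) (b' := e.1)
      (fun _ _ => rfl) (fun v hv => by rw [app_mulC _ _ hv, app_idC (app_lt _ _)]), e2]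
  · have hmem : γ⁻¹ * σ * γ ∈ X.comap (MulAut.conj γ).toMonoidHom := by
      simpa [mul_assoc] using hσ
    obtain ⟨c, hc, hce⟩ := h1 _ hmem
    refine ⟨c, hc, ?_⟩
    have h3 := hcode _ hmem
    rw [show γ * (γ⁻¹ * σ * γ) * γ⁻¹ = σ by group] at h3
    rw [h3, hce]
    simp only [mulC_assoc]
  · obtain ⟨τ, hτ, e⟩ := h2 c hc
    refine ⟨γ * τ * γ⁻¹, by simpa using hτ, ?_⟩
    rw [hcode τ hτ, e]
    simp only [mulC_assoc]

/-- the image of a representative in new coordinates -/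
theorem mem_conj {g : ℕ × ℕ} {t : ℕ} (ht : mulC idC t = t)
    {γ : P64} (hcode : ∀ σ ∈ X.comap (MulAut.conj γ).toMonoidHom,
      code (γ * σ * γ⁻¹) = mulC g.1 (mulC (code σ) g.2))
    (hg : gaugeOK g = true) (a' : Au (X.comap (MulAut.conj γ).toMonoidHom))
    {h : P64} (hh : h ∈ X) (e : mulC g.1 t = mulC (code h) g.1) :
    ∃ σ ∈ X.comap (MulAut.conj γ).toMonoidHom, code σ = t := by
  obtain ⟨g1, g2, -⟩ := gaugeOK_spec hg
  have hmem : γ⁻¹ * h * γ ∈ X.comap (MulAut.conj γ).toMonoidHom := by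
    simpa [mul_assoc] using hh
  refine ⟨_, hmem, ?_⟩
  have h3 := hcode _ hmem
  rw [show γ * (γ⁻¹ * h * γ) * γ⁻¹ = h by group] at h3
  have hc := (a'.lin _ hmem).canon
  generalize code (γ⁻¹ * h * γ) = c at h3 hc
  rw [h3] at e
  have e2 : mulC g.2 (mulC g.1 t) = mulC g.2 (mulC (mulC g.1 (mulC c g.2)) g.1) := by rw [e]
  rw [← mulC_assoc, g2, ht] at e2
  rw [e2, mulC_assoc g.1, mulC_assoc c, g2, hc, ← mulC_assoc g.2, g2]
  calc c = mulC c idC := hc.symm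
    _ = mulC idC (mulC c idC) := (mulC_idC_left _ _).symm
    _ = _ := by rw [hc]

/-- The case where only one class of involutions of `Y` can be central. -/
theorem le_of_small {d : ℕ → P64} (hd : Dd X d) {Y : Subgroup P64} (hYX : Y ≤ X)
    (hDY : ∀ k < 8, d k ∈ Y) {ts : List ℕ} (hts : ∀ t ∈ ts, t = 1 ∨ t = 2 ∨ t = 6)
    (hcl : ∀ y ∈ Y, y * y = 1 → y ≠ 1 → ∃ m ∈ Y, ∃ t ∈ ts, m * d t * m⁻¹ = y)
    (hnf : ∀ t ∈ ts, t ≠ 1 → ∀ g ∈ X, g * d t * g⁻¹ ≠ d 1)
    {b : ℕ} (hb : b ∈ ts) (hb1 : b ≠ 1) : X ≤ Y := by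
  have hC : ∀ y ∈ Y, y * y = 1 → y ≠ 1 → ∀ σ ∈ X, σ * y = y * σ → σ ∈ Y := by
    intro y hy hy2 hy1 σ hσ hc
    obtain ⟨m, hm, t, ht, rfl⟩ := hcl y hy hy2 hy1
    refine cent_conj hm hYX (fun τ hτ hτc => ?_) hσ hc
    by_cases ht1 : t = 1
    · subst ht1
      obtain ⟨k, hk, rfl⟩ := a.eq_d_of_comm hd hτ hτc
      exact hDY k hk
    · obtain ⟨k, hk, rfl⟩ := a.cent_of_not_fused hd ((hts t ht).resolve_left ht1)
        (hnf t ht ht1) hτ hτc
      exact hDY k hk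
  have hb8 : b < 8 := by rcases hts b hb with rfl | rfl | rfl <;> norm_num
  have sq : ∀ k, k = 1 ∨ k = 2 ∨ k = 6 → d k * d k = 1 ∧ d k ≠ 1 := by
    intro k hk
    have hk8 : k < 8 := by rcases hk with rfl | rfl | rfl <;> norm_num
    refine ⟨?_, fun h => ?_⟩
    · rw [hd.mul k hk8 k hk8, show mt k k = 0 by rcases hk with rfl | rfl | rfl <;> rfl, hd.zero]
    · have := hd.inj k hk8 0 (by norm_num) (by rw [h, hd.zero])
      omega
  have hinvol : ∀ v ∈ X, v * v = 1 → v ∈ Y := by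
    intro v hv hv2
    by_cases hc : ∃ g ∈ X, g * d 1 * g⁻¹ = v
    · obtain ⟨g, hg, rfl⟩ := hc
      refine mem_of_not_conj hYX hC (hDY b hb8) (sq b (hts b hb)).1 (sq b (hts b hb)).2 hv hv2
        fun g' hg' e => hnf b hb hb1 (g⁻¹ * g') (mul_mem (inv_mem hg) hg') ?_
      calc g⁻¹ * g' * d b * (g⁻¹ * g')⁻¹ = g⁻¹ * (g' * d b * g'⁻¹) * g := by group
        _ = d 1 := by rw [e]; group
    · push Not at hc
      exact mem_of_not_conj hYX hC (hDY 1 (by norm_num)) (sq 1 (Or.inl rfl)).1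
        (sq 1 (Or.inl rfl)).2 hv hv2 hc
  intro σ hσ
  obtain ⟨h2, h1⟩ := sq 1 (Or.inl rfl)
  have hmem := hinvol (σ * d 1 * σ⁻¹) (mul_mem (mul_mem hσ (hd.mem 1 (by norm_num))) (inv_mem hσ))
    (by rw [show σ * d 1 * σ⁻¹ * (σ * d 1 * σ⁻¹) = σ * (d 1 * d 1) * σ⁻¹ by group, h2]; group)
  obtain ⟨m, hm, t, ht, e⟩ := hcl _ hmem
    (by rw [show σ * d 1 * σ⁻¹ * (σ * d 1 * σ⁻¹) = σ * (d 1 * d 1) * σ⁻¹ by group, h2]; group)
    (fun h => h1 (by rw [mul_inv_eq_one] at h; simpa using h))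
  by_cases ht1 : t = 1
  · subst ht1
    have hc : m⁻¹ * σ * d 1 = d 1 * (m⁻¹ * σ) := by
      calc m⁻¹ * σ * d 1 = m⁻¹ * (σ * d 1 * σ⁻¹) * σ := by group
        _ = _ := by rw [← e]; group
    obtain ⟨k, hk, ek⟩ := a.eq_d_of_comm hd (mul_mem (inv_mem (hYX hm)) hσ) hc
    have : σ = m * d k := by rw [← ek]; group
    rw [this]; exact mul_mem hm (hDY k hk)
  · refine absurd ?_ (hnf t ht ht1 (σ⁻¹ * m) (mul_mem (inv_mem hσ) (hYX hm)))
    calc σ⁻¹ * m * d t * (σ⁻¹ * m)⁻¹ = σ⁻¹ * (m * d t * m⁻¹) * σ := by group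
      _ = d 1 := by rw [e]; group

/-- the classes of involutions in a listed group -/
theorem classes {d : ℕ → P64} (hd : Dd X d) {L ts : List ℕ} {Y : Subgroup P64} (hYX : Y ≤ X)
    (hY : ∀ σ, σ ∈ Y ↔ σ ∈ X ∧ code σ ∈ L) (hreal : ∀ c ∈ L, ∃ σ ∈ X, code σ = c)
    (hts : ∀ t ∈ ts, t < 8)
    (h : (L.all fun y => !invB y || conjB L (ts.map dd) y) = true) :
    ∀ y ∈ Y, y * y = 1 → y ≠ 1 → ∃ m ∈ Y, ∃ t ∈ ts, m * d t * m⁻¹ = y := by
  intro y hy hy2 hy1
  simp only [List.all_eq_true, Bool.or_eq_true, Bool.not_eq_true', conjB, List.any_eq_true,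
    List.mem_map, Nat.beq_eq] at h
  obtain ⟨hyX, hyL⟩ := (hY y).1 hy
  rcases h _ hyL with h1 | ⟨m, hm, -, ⟨t, ht, rfl⟩, e⟩
  · exfalso
    have : invB (code y) = true := by
      simp only [invB, Bool.and_eq_true, Bool.not_eq_true', Nat.beq_eq]
      refine ⟨Bool.eq_false_iff.2 fun h2 => hy1 (a.ext hyX (one_mem X) ?_), ?_⟩
      · rw [code_one]; exact Nat.beq_eq.mp h2
      · rw [← a.code_mul hyX hyX, hy2, code_one]
    rw [this] at h1; exact Bool.noConfusion h1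
  · obtain ⟨μ, hμ, rfl⟩ := hreal m hm
    refine ⟨μ, (hY μ).2 ⟨hμ, hm⟩, t, ht, ?_⟩
    rw [mul_inv_eq_iff_eq_mul]
    refine a.ext (mul_mem hμ (hd.mem t (hts t ht))) (mul_mem hyX hμ) ?_
    rw [a.code_mul hμ (hd.mem t (hts t ht)), a.code_mul hyX hμ, hd.code_eq t (hts t ht), e]

theorem gens_real {d : ℕ → P64} (hd : Dd X d) {gs : List ℕ}
    (h : ∀ g ∈ gs, g = dd 2 ∨ g = dd 6 ∨ ∃ σ ∈ X, code σ = g) :
    ∀ g ∈ gs, ∃ σ ∈ X, code σ = g := fun g hg => by
  rcases h g hg with rfl | rfl | h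
  exacts [⟨_, hd.mem 2 (by norm_num), hd.code_eq 2 (by norm_num)⟩,
    ⟨_, hd.mem 6 (by norm_num), hd.code_eq 6 (by norm_num)⟩, h]

theorem d_mem_lists {d : ℕ → P64} (hd : Dd X d) {k : ℕ} (hk : k < 8) :
    code (d k) ∈ lstD ∧ code (d k) ∈ lstG1 ∧ code (d k) ∈ lstG2 ∧ code (d k) ∈ lstL0 := by
  have h := small_facts.2.2.2.2.2.1
  simp only [List.all_eq_true, List.mem_range, Bool.and_eq_true] at h
  rw [hd.code_eq k hk]
  exact ⟨mem_of_memC (h k hk).1.1.1, mem_of_memC (h k hk).1.1.2, mem_of_memC (h k hk).1.2,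
    mem_of_memC (h k hk).2⟩

/-- Both four-groups are fused: the group of order 168. -/
theorem out_both {τA τB : P64} (hA : τA ∈ X) (eA : code τA = sA) (hB : τB ∈ X)
    (eB : code τB = sB) : Out X := by
  obtain ⟨d, hd⟩ := a.exists_dd
  obtain ⟨Y, hYX, hY, hreal⟩ := a.exists_grp grpL0_ok (gs := [dd 2, dd 6, sA, sB]) (a.gens_real hd
    (fun g hg => by
      simp only [List.mem_cons, List.not_mem_nil, or_false] at hg
      rcases hg with rfl | rfl | rfl | rfl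
      exacts [Or.inl rfl, Or.inr (Or.inl rfl), Or.inr (Or.inr ⟨τA, hA, eA⟩),
        Or.inr (Or.inr ⟨τB, hB, eB⟩)]))
  have hDY : ∀ k < 8, d k ∈ Y := fun k hk => (hY _).2 ⟨hd.mem k hk, (a.d_mem_lists hd hk).2.2.2⟩
  have hcl := a.classes hd hYX hY hreal (ts := [1]) (by simp) (by simpa using invol_L0)
  have hC : ∀ y ∈ Y, y * y = 1 → y ≠ 1 → ∀ σ ∈ X, σ * y = y * σ → σ ∈ Y := by
    intro y hy hy2 hy1 σ hσ hc
    obtain ⟨m, hm, t, ht, rfl⟩ := hcl y hy hy2 hy1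
    obtain rfl : t = 1 := by simpa using ht
    refine cent_conj hm hYX (fun τ hτ hτc => ?_) hσ hc
    obtain ⟨k, hk, rfl⟩ := a.eq_d_of_comm hd hτ hτc
    exact hDY k hk
  have hz2 : d 1 * d 1 = 1 := by
    rw [hd.mul 1 (by norm_num) 1 (by norm_num)]; exact hd.zero
  have hz1 : d 1 ≠ 1 := fun h => by
    have := hd.inj 1 (by norm_num) 0 (by norm_num) (by rw [h, hd.zero]); omega
  have hconj : ∀ v ∈ X, v * v = 1 → v ≠ 1 → ∃ g ∈ X, g * d 1 * g⁻¹ = v := by
    intro v hv hv2 hv1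
    by_contra hc
    push Not at hc
    obtain ⟨m, hm, t, ht, e⟩ := hcl v
      (mem_of_not_conj hYX hC (hDY 1 (by norm_num)) hz2 hz1 hv hv2 hc) hv2 hv1
    obtain rfl : t = 1 := by simpa using ht
    exact hc m (hYX hm) e
  obtain ⟨h168, hnd, h21⟩ := count_L0
  have hbij : Nat.card Y = 168 := by
    classical
    rw [← h168, ← List.toFinset_card_of_nodup hnd, ← Nat.card_eq_finsetCard]
    refine Nat.card_eq_of_bijective
      (fun σ : Y => (⟨code σ.1, List.mem_toFinset.2 ((hY _).1 σ.2).2⟩ : ↥lstL0.toFinset)) ⟨?_, ?_⟩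
    · intro σ τ h
      exact Subtype.ext (a.ext (hYX σ.2) (hYX τ.2) (congrArg Subtype.val h))
    · rintro ⟨c, hc⟩
      obtain ⟨σ, hσ, e⟩ := hreal c (List.mem_toFinset.1 hc)
      exact ⟨⟨σ, (hY σ).2 ⟨hσ, e ▸ List.mem_toFinset.1 hc⟩⟩, Subtype.ext e⟩
  have hinv : Nat.card {y : Y // y * y = 1 ∧ y ≠ 1} = 21 := by
    classical
    rw [← h21, ← List.toFinset_card_of_nodup (hnd.filter _), ← Nat.card_eq_finsetCard]
    have key : ∀ σ : Y, invB (code σ.1) = true ↔ σ * σ = 1 ∧ σ ≠ 1 := fun σ => by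
      simp only [invB, Bool.and_eq_true, Bool.not_eq_true', Nat.beq_eq]
      rw [← a.code_mul (hYX σ.2) (hYX σ.2), ← code_one, and_comm]
      refine and_congr ⟨fun h => Subtype.ext
        (a.ext (mul_mem (hYX σ.2) (hYX σ.2)) (one_mem X) h), fun h => congrArg (fun x : Y => code x.1) h⟩
        ⟨fun h h' => ?_, fun h => Bool.eq_false_iff.2 fun h' =>
          h (Subtype.ext (a.ext (hYX σ.2) (one_mem X) (Nat.beq_eq.mp h')))⟩
      rw [h', OneMemClass.coe_one, Nat.beq_refl] at h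
      exact Bool.noConfusion h
    refine Nat.card_eq_of_bijective
      (fun σ : {y : Y // y * y = 1 ∧ y ≠ 1} => (⟨code σ.1.1, List.mem_toFinset.2
        (List.mem_filter.2 ⟨((hY _).1 σ.1.2).2, (key σ.1).2 σ.2⟩)⟩ :
          ↥(lstL0.filter invB).toFinset)) ⟨?_, ?_⟩
    · intro σ τ h
      exact Subtype.ext (Subtype.ext (a.ext (hYX σ.1.2) (hYX τ.1.2) (congrArg Subtype.val h)))
    · rintro ⟨c, hc⟩
      obtain ⟨hcL, hci⟩ := List.mem_filter.1 (List.mem_toFinset.1 hc)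
      obtain ⟨σ, hσ, rfl⟩ := hreal c hcL
      exact ⟨⟨⟨σ, (hY σ).2 ⟨hσ, hcL⟩⟩, (key ⟨σ, _⟩).1 hci⟩, rfl⟩
  have hCz : Nat.card {σ : X // (σ : P64) * d 1 = d 1 * σ} = 8 := by
    rw [← Nat.card_fin 8]
    refine (Nat.card_eq_of_bijective (fun k : Fin 8 => (⟨⟨d k, hd.mem k k.2⟩, by
      show d k * d 1 = d 1 * d k
      rw [hd.mul k k.2 1 (by norm_num), hd.mul 1 (by norm_num) k k.2]
      congr 1
      have h : ∀ l : Fin 8, mt l 1 = mt 1 l := by decide
      exact h k⟩ : {σ : X // (σ : P64) * d 1 = d 1 * σ})) ⟨?_, ?_⟩).symm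
    · intro k l h
      exact Fin.ext (hd.inj k k.2 l l.2 (congrArg (fun σ : {σ : X // (σ : P64) * d 1 = d 1 * σ} =>
        (σ.1 : P64)) h))
    · rintro ⟨⟨σ, hσ⟩, hc⟩
      obtain ⟨k, hk, rfl⟩ := a.eq_d_of_comm hd hσ hc
      exact ⟨⟨k, hk⟩, rfl⟩
  have h37 : ∀ x ∈ Y, ∀ y ∈ Y, orderOf x = 3 → orderOf y = 7 → x * y ≠ y * x := by
    intro x hx y hy hx3 hy7 he
    have h := no21_L0
    simp only [List.all_eq_true, List.mem_filter, Bool.not_eq_true', and_imp] at h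
    have hxX := hYX hx
    have hyX := hYX hy
    have o3 : ord3 (code x) = true := by
      simp only [ord3, Bool.and_eq_true, Bool.not_eq_true', Nat.beq_eq]
      refine ⟨Bool.eq_false_iff.2 fun h => ?_, ?_⟩
      · rw [a.ext hxX (one_mem X) (by rw [code_one]; exact Nat.beq_eq.mp h), orderOf_one] at hx3
        omega
      · rw [← a.code_mul hxX hxX, ← a.code_mul hxX (mul_mem hxX hxX), ← code_one]
        congr 1
        rw [← pow_orderOf_eq_one x, hx3]; simp only [pow_succ, pow_zero, one_mul, mul_assoc]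
    have o7 : ord7 (code y) = true := by
      simp only [ord7, Bool.and_eq_true, Bool.not_eq_true', Nat.beq_eq]
      have m2 := mul_mem hyX hyX
      have m3 := mul_mem hyX m2
      refine ⟨Bool.eq_false_iff.2 fun h => ?_, ?_⟩
      · rw [a.ext hyX (one_mem X) (by rw [code_one]; exact Nat.beq_eq.mp h), orderOf_one] at hy7
        omega
      · rw [← a.code_mul hyX hyX, ← a.code_mul hyX m2, ← a.code_mul m3 m3,
          ← a.code_mul hyX (mul_mem m3 m3), ← code_one]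
        congr 1
        rw [← pow_orderOf_eq_one y, hy7]; simp only [pow_succ, pow_zero, one_mul, mul_assoc]
    have := h (code x) ((hY x).1 hx).2 o3 (code y) ((hY y).1 hy).2 o7
    rw [← a.code_mul hxX hyX, ← a.code_mul hyX hxX, he, Nat.beq_refl] at this
    exact Bool.noConfusion this
  have hXY := le_of_count hYX hbij hinv h37 (hDY 1 (by norm_num)) hz2 hz1 hconj hC hCz
  exact a.out_of_eq (Or.inr (Or.inr (Or.inr rfl))) (fun σ hσ => ((hY σ).1 (hXY hσ)).2) hreal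

/-- The first four-group is fused. -/
theorem out_A {d : ℕ → P64} (hd : Dd X d) {g : P64} (hg : g ∈ X)
    (hfus : g * d 2 * g⁻¹ = d 1) : Out X := by
  obtain ⟨h, hh, h1, hb, h3, hc⟩ := a.exists_three hd (Or.inl ⟨rfl, rfl⟩) hg hfus
  have hmem := mem_of_memC ((a.mem_cand hd hh h1 hb h3 hc).1 ⟨rfl, rfl⟩)
  obtain ⟨hlen, hga⟩ := gaugeA_ok
  obtain ⟨i, hi, ei⟩ := List.mem_iff_getElem.1 hmem
  simp only [List.all_eq_true] at hga
  have hz : i < (candA.zip gaugeA).length := by rw [List.length_zip]; omega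
  have hgt := hga _ (List.getElem_mem hz)
  rw [List.getElem_zip] at hgt
  simp only [gaugeTo, Bool.and_eq_true, Nat.beq_eq] at hgt
  obtain ⟨hgok, hgto⟩ := hgt
  rw [ei] at hgto
  obtain ⟨γ, -, -, -, -, a₁, hcode⟩ := a.exists_conjugate hgok
  refine a.out_of_conj hgok hcode ?_
  obtain ⟨τA, hτA, eτA⟩ := a.mem_conj (Nat.beq_eq.mp small_facts.2.1) hcode hgok a₁ hh hgto
  obtain ⟨d₁, hd₁⟩ := a₁.exists_dd
  by_cases hf6 : ∃ g ∈ X.comap (MulAut.conj γ).toMonoidHom, g * d₁ 6 * g⁻¹ = d₁ 1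
  · obtain ⟨g', hg', hfus'⟩ := hf6
    obtain ⟨k, hk, k1, kb, k3, kc⟩ := a₁.exists_three hd₁ (Or.inr ⟨rfl, rfl⟩) hg' hfus'
    have hmem' := mem_of_memC ((a₁.mem_cand hd₁ hk k1 kb k3 kc).2 ⟨rfl, rfl⟩)
    obtain ⟨hlen', hgc⟩ := gaugeC_ok
    obtain ⟨j, hj, ej⟩ := List.mem_iff_getElem.1 hmem'
    simp only [List.all_eq_true] at hgc
    have hz' : j < (candB.zip gaugeC).length := by rw [List.length_zip]; omega
    have hgt' := hgc _ (List.getElem_mem hz')
    rw [List.getElem_zip] at hgt'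
    simp only [ej] at hgt'
    revert hgt'
    generalize gaugeC[j]'(by omega) = cs
    intro hgt'
    cases cs with
    | inl g₂ =>
      simp only [caseC, gaugeTo, Bool.and_eq_true, Nat.beq_eq, List.any_eq_true] at hgt'
      obtain ⟨⟨hg₂, hg₂B⟩, l, hl, hlA⟩ := hgt'
      obtain ⟨γ₂, -, -, -, -, a₂, hcode₂⟩ := a₁.exists_conjugate hg₂
      refine a₁.out_of_conj hg₂ hcode₂ ?_
      obtain ⟨Y, -, -, hreal⟩ := a₁.exists_grp grpG1_ok (gs := [dd 2, dd 6, sA]) (a₁.gens_real hd₁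
        (fun g hg => by
          simp only [List.mem_cons, List.not_mem_nil, or_false] at hg
          rcases hg with rfl | rfl | rfl
          exacts [Or.inl rfl, Or.inr (Or.inl rfl), Or.inr (Or.inr ⟨τA, hτA, eτA⟩)]))
      obtain ⟨lσ, hlσ, el⟩ := hreal l hl
      obtain ⟨σA, hσA, eσA⟩ := a₁.mem_conj (Nat.beq_eq.mp small_facts.2.1) hcode₂ hg₂ a₂ hlσ
        (el ▸ hlA)
      obtain ⟨σB, hσB, eσB⟩ := a₁.mem_conj (Nat.beq_eq.mp small_facts.2.2.2.1) hcode₂ hg₂ a₂ hk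
        hg₂B
      exact a₂.out_both hσA eσA hσB eσB
    | inr w =>
      exfalso
      simp only [caseC, Bool.and_eq_true, Bool.not_eq_true', List.all_eq_true, Nat.beq_eq,
        Nat.blt_eq] at hgt'
      obtain ⟨⟨hcm, hnot⟩, hw⟩ := hgt'
      have hgen : ∀ i < 4, ∃ σ ∈ X.comap (MulAut.conj γ).toMonoidHom,
          code σ = [dd 2, dd 6, sA, code k].getD i idC := by
        intro i hi
        interval_cases i
        exacts [⟨_, hd₁.mem 2 (by norm_num), hd₁.code_eq 2 (by norm_num)⟩,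
          ⟨_, hd₁.mem 6 (by norm_num), hd₁.code_eq 6 (by norm_num)⟩, ⟨τA, hτA, eτA⟩, ⟨k, hk, rfl⟩]
      have hword : ∀ (l : List ℕ), (∀ i ∈ l, i < 4) → ∀ σ ∈ X.comap (MulAut.conj γ).toMonoidHom,
          ∃ τ ∈ X.comap (MulAut.conj γ).toMonoidHom,
            code τ = l.foldl (fun c i => mulC c ([dd 2, dd 6, sA, code k].getD i idC)) (code σ) := by
        intro l
        induction l with
        | nil => exact fun _ σ hσ => ⟨σ, hσ, rfl⟩
        | cons i l ih =>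
          intro hl σ hσ
          obtain ⟨τ, hτ, eτ⟩ := hgen i (hl i (List.mem_cons_self ..))
          obtain ⟨ρ, hρ, eρ⟩ := ih (fun j hj => hl j (List.mem_cons_of_mem _ hj)) _ (mul_mem hσ hτ)
          exact ⟨ρ, hρ, by rw [eρ, a₁.code_mul hσ hτ, eτ]; rfl⟩
      obtain ⟨ρ, hρ, eρ⟩ := hword w hw 1 (one_mem _)
      rw [code_one] at eρ
      have eρ' : code ρ = wordC [dd 2, dd 6, sA, code k] w := eρ
      rw [← eρ'] at hcm hnot
      obtain ⟨n, hn, en⟩ := a₁.isD_of_comm hρ hcm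
      rw [en, Bool.eq_false_iff] at hnot
      refine hnot ?_
      simp only [memC, List.any_eq_true, Nat.beq_eq]
      refine ⟨dd n, ?_, rfl⟩
      unfold dd
      rw [List.getD_eq_getElem _ _ (by rw [dd_ok.2.2]; exact hn)]
      exact List.getElem_mem _
  · push Not at hf6
    obtain ⟨Y, hYX, hY, hreal⟩ := a₁.exists_grp grpG1_ok (gs := [dd 2, dd 6, sA]) (a₁.gens_real hd₁
      (fun g hg => by
        simp only [List.mem_cons, List.not_mem_nil, or_false] at hg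
        rcases hg with rfl | rfl | rfl
        exacts [Or.inl rfl, Or.inr (Or.inl rfl), Or.inr (Or.inr ⟨τA, hτA, eτA⟩)]))
    have hle := a₁.le_of_small hd₁ hYX
      (fun k hk => (hY _).2 ⟨hd₁.mem k hk, (a₁.d_mem_lists hd₁ hk).2.1⟩) (ts := [1, 6])
      (by simp) (a₁.classes hd₁ hYX hY hreal (by simp) (by simpa using invol_G1))
      (fun t ht ht1 => by
        obtain rfl : t = 6 := by
          simp only [List.mem_cons, List.not_mem_nil, or_false] at ht; omega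
        exact hf6) (b := 6) (by simp) (by norm_num)
    exact a₁.out_of_eq (Or.inr (Or.inl rfl)) (fun σ hσ => ((hY σ).1 (hle hσ)).2) hreal

/-- The automiser is one of the four groups. -/
theorem out : Out X := by
  obtain ⟨d, hd⟩ := a.exists_dd
  by_cases hf2 : ∃ g ∈ X, g * d 2 * g⁻¹ = d 1
  · obtain ⟨g, hg, h⟩ := hf2
    exact a.out_A hd hg h
  by_cases hf6 : ∃ g ∈ X, g * d 6 * g⁻¹ = d 1
  · obtain ⟨g, hg, hfus⟩ := hf6
    obtain ⟨h, hh, h1, hb, h3, hc⟩ := a.exists_three hd (Or.inr ⟨rfl, rfl⟩) hg hfus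
    have hmem := mem_of_memC ((a.mem_cand hd hh h1 hb h3 hc).2 ⟨rfl, rfl⟩)
    obtain ⟨hlen, hga⟩ := gaugeB_ok
    obtain ⟨i, hi, ei⟩ := List.mem_iff_getElem.1 hmem
    simp only [List.all_eq_true] at hga
    have hz : i < (candB.zip gaugeB).length := by rw [List.length_zip]; omega
    have hgt := hga _ (List.getElem_mem hz)
    rw [List.getElem_zip] at hgt
    simp only [gaugeTo, Bool.and_eq_true, Nat.beq_eq] at hgt
    obtain ⟨hgok, hgto⟩ := hgt
    rw [ei] at hgto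
    obtain ⟨γ, -, -, -, -, a₁, hcode⟩ := a.exists_conjugate hgok
    refine a.out_of_conj hgok hcode ?_
    obtain ⟨τB, hτB, eτB⟩ := a.mem_conj (Nat.beq_eq.mp small_facts.2.2.2.1) hcode hgok a₁ hh hgto
    obtain ⟨d₁, hd₁⟩ := a₁.exists_dd
    by_cases hf2' : ∃ g ∈ X.comap (MulAut.conj γ).toMonoidHom, g * d₁ 2 * g⁻¹ = d₁ 1
    · obtain ⟨g', hg', h'⟩ := hf2'
      exact a₁.out_A hd₁ hg' h'
    push Not at hf2'
    obtain ⟨Y, hYX, hY, hreal⟩ := a₁.exists_grp grpG2_ok (gs := [dd 2, dd 6, sB]) (a₁.gens_real hd₁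
      (fun g hg => by
        simp only [List.mem_cons, List.not_mem_nil, or_false] at hg
        rcases hg with rfl | rfl | rfl
        exacts [Or.inl rfl, Or.inr (Or.inl rfl), Or.inr (Or.inr ⟨τB, hτB, eτB⟩)]))
    have hle := a₁.le_of_small hd₁ hYX
      (fun k hk => (hY _).2 ⟨hd₁.mem k hk, (a₁.d_mem_lists hd₁ hk).2.2.1⟩) (ts := [1, 2])
      (by simp) (a₁.classes hd₁ hYX hY hreal (by simp) (by simpa using invol_G2))
      (fun t ht ht1 => by
        obtain rfl : t = 2 := by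
          simp only [List.mem_cons, List.not_mem_nil, or_false] at ht; omega
        exact hf2') (b := 2) (by simp) (by norm_num)
    exact a₁.out_of_eq (Or.inr (Or.inr (Or.inl rfl))) (fun σ hσ => ((hY σ).1 (hle hσ)).2) hreal
  push Not at hf2 hf6
  obtain ⟨D, hDX, -, hD, -⟩ := a.exists_DX
  have hcl : ∀ y ∈ D, y * y = 1 → y ≠ 1 → ∃ m ∈ D, ∃ t ∈ [1, 2, 6], m * d t * m⁻¹ = y := by
    intro y hy hy2 hy1
    obtain ⟨k, hk, rfl⟩ := hd.isD y ((hD y).1 hy).1 ((hD y).1 hy).2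
    have h := small_facts.2.2.2.2.2.2
    simp only [List.all_eq_true, List.mem_range, Bool.or_eq_true, Bool.not_eq_true',
      List.any_eq_true, Nat.beq_eq] at h
    rcases h k hk with (h' | rfl) | ⟨m, hm, t, ht, e⟩
    · rw [hd.inj _ (dd_mul hk hk).1 0 (by norm_num) (by rw [← hd.mul k hk k hk, hy2, hd.zero]),
        Nat.beq_refl] at h'
      exact Bool.noConfusion h'
    · exact absurd hd.zero hy1
    · have ht8 : t < 8 := by
        simp only [List.mem_cons, List.not_mem_nil, or_false] at ht; omega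
      refine ⟨d m, (hD _).2 ⟨hd.mem m hm, m, hm, hd.code_eq m hm⟩, t, ht, ?_⟩
      rw [mul_inv_eq_iff_eq_mul, hd.mul m hm t ht8, hd.mul k hk m hm, e]
  have hle := a.le_of_small hd hDX (fun k hk => (hD _).2 ⟨hd.mem k hk, k, hk, hd.code_eq k hk⟩)
    (ts := [1, 2, 6]) (by simp) hcl
    (fun t ht ht1 => by
      simp only [List.mem_cons, List.not_mem_nil, or_false] at ht
      rcases ht with rfl | rfl | rfl
      exacts [absurd rfl ht1, hf2, hf6]) (b := 2) (by simp) (by norm_num)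
  refine a.out_of_eq (Or.inl rfl) (fun σ hσ => ?_) (fun c hc => ?_)
  · obtain ⟨k, hk, e⟩ := ((hD σ).1 (hle hσ)).2
    rw [e, ← hd.code_eq k hk]; exact (a.d_mem_lists hd hk).1
  · have h := small_facts.2.2.2.2.1
    simp only [List.all_eq_true] at h
    obtain ⟨k, hk, e⟩ := List.mem_iff_getElem.1 (mem_of_memC (h c hc))
    have hk8 : k < 8 := dd_ok.2.2 ▸ hk
    exact ⟨d k, hd.mem k hk8, by
      rw [hd.code_eq k hk8, dd, List.getD_eq_getElem _ _ hk, e]⟩

end Au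

end CfsgLib.M24Quot
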