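import Cfsg.Prelude.Def_Transfer
import Cfsg.Prelude.Def_Spor_Mathieu
import Cfsg.Agent.Lib.LocalEven.M24SylTwoQuot
import Cfsg.Agent.Lib.StrongTwoClasses.Tools
import Cfsg.Agent.S3171

/-!
# The central extension step

If every core-free group with Sylow 2-subgroup of type `P/Z(P)`, `P` a Sylow 2-subgroup of `M₂₄`, has
its unique abelian subgroup of order 64 normal, then in a core-free group with Sylow 2-subgroup of
type `P` and central `Z(P)` the extraspecial normal subgroup of order `2^7` is normal.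
-/

set_option autoImplicit false
set_option linter.style.haveILetI false

namespace CfsgLib.M24Quot

open Cfsg Subgroup
open scoped commutatorElement

universe u

theorem natCard_sylow_and_center (P : Sylow 2 ↥Cfsg.M24) :
    Nat.card ↥(P : Subgroup ↥Cfsg.M24) = 1024 ∧
      Nat.card (center ↥(P : Subgroup ↥Cfsg.M24)) = 2 := by
  haveI : Fact (Nat.Prime 2) := ⟨Nat.prime_two⟩
  open CfsgLib.LocalEven.M24Syl CfsgLib.Spor in
  have hc0 : Nat.card ↥(T.subgroupOf M24) = 2 ^ 10 := by
    rw [Nat.card_congr (Subgroup.subgroupOfEquivOfLe (genGroup_le _)).toEquiv,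
      natCard_genGroup syl2_listed]
    norm_num
  open CfsgLib.LocalEven.M24Syl CfsgLib.Spor in
  let P0 : Sylow 2 ↥Cfsg.M24 := (IsPGroup.of_card hc0).toSylow (by
    have h := (T.subgroupOf M24).card_mul_index
    rw [hc0, natCard_M24] at h
    omega)
  open CfsgLib.LocalEven.M24Syl CfsgLib.Spor in
  let φ : ↥(P : Subgroup ↥Cfsg.M24) ≃* ↥T :=
    (Sylow.equiv P P0).trans (Subgroup.subgroupOfEquivOfLe (genGroup_le _))
  open CfsgLib.LocalEven.M24Syl CfsgLib.Spor in
  have hT : Nat.card ↥T = 1024 := natCard_genGroup syl2_listed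
  refine ⟨(Nat.card_congr φ.toEquiv).trans hT, ?_⟩
  rw [Nat.card_congr (Subgroup.centerCongr φ).toEquiv]
  open CfsgLib.LocalEven.M24Syl CfsgLib.Spor in
  have h := Subgroup.card_eq_card_quotient_mul_card_subgroup (Subgroup.center ↥T)
  open CfsgLib.LocalEven.M24Syl CfsgLib.Spor in
  rw [show Nat.card (↥T ⧸ center ↥T) = 512 from natCard_Q, hT] at h
  omega

theorem map_center_congr {A B : Type*} [Group A] [Group B] (e : A ≃* B) :
    (center A).map e.toMonoidHom = center B := by
  ext x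
  rw [Subgroup.mem_map, Subgroup.mem_center_iff]
  constructor
  · rintro ⟨y, hy, rfl⟩ g
    rw [Subgroup.mem_center_iff] at hy
    obtain ⟨g, rfl⟩ := e.surjective g
    exact (map_mul e g y).symm.trans ((congrArg e (hy g)).trans (map_mul e y g))
  · intro h
    exact ⟨e.symm x, Subgroup.mem_center_iff.2 fun g => e.injective (by simpa using h (e g)),
      e.apply_symm_apply x⟩

/-- In a group of the type of `P/Z(P)` abelian subgroups of order 64 coincide. -/
theorem abelian_sixtyfour_unique {G : Type u} [Group G] {S : Subgroup G} (P : Sylow 2 ↥Cfsg.M24)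
    (hS : Nonempty (↥S ≃* (↥(P : Subgroup ↥Cfsg.M24) ⧸ center ↥(P : Subgroup ↥Cfsg.M24))))
    {A B : Subgroup G} (hA : A ≤ S) (hAc : IsMulCommutative ↥A) (hA64 : Nat.card ↥A = 64)
    (hB : B ≤ S) (hBc : IsMulCommutative ↥B) (hB64 : Nat.card ↥B = 64) : B = A := by
  obtain ⟨e⟩ := hS
  have hu := (Cfsg.Agent.S3171.result P).2.2
  have key : ∀ C : Subgroup G, C ≤ S → IsMulCommutative ↥C →
      IsMulCommutative ↥((C.subgroupOf S).map e.toMonoidHom) ∧
        Nat.card ↥((C.subgroupOf S).map e.toMonoidHom) = Nat.card ↥C := by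
    intro C hC hCc
    refine ⟨⟨⟨?_⟩⟩, ?_⟩
    · rintro ⟨_, x, hx, rfl⟩ ⟨_, y, hy, rfl⟩
      refine Subtype.ext ?_
      have h0 : (x : G) * y = y * x :=
        congrArg (fun w : ↥C => (w : G)) (hCc.is_comm.comm (⟨(x : G), hx⟩ : ↥C) ⟨(y : G), hy⟩)
      have h : x * y = y * x := Subtype.ext h0
      exact (map_mul e x y).symm.trans ((congrArg e h).trans (map_mul e y x))
    · rw [Subgroup.card_map_of_injective (f := e.toMonoidHom) e.injective]
      exact Nat.card_congr (subgroupOfEquivOfLe hC).toEquiv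
  have h := hu _ _ (key B hB hBc).1 ((key B hB hBc).2.trans hB64) (key A hA hAc).1
    ((key A hA hAc).2.trans hA64)
  have h2 := congrArg (Subgroup.map S.subtype) (Subgroup.map_injective (f := e.toMonoidHom) e.injective h)
  rwa [map_subgroupOf_eq_of_le hB, map_subgroupOf_eq_of_le hA] at h2

/-- The passage from the quotient type to the type of a Sylow 2-subgroup of `M₂₄`. -/
theorem normal_of_quot
    (base : ∀ {G : Type u} [Group G] [Finite G], Cfsg.oddCore G = ⊥ → ∀ (S : Sylow 2 G)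
      (P : Sylow 2 ↥Cfsg.M24),
      Nonempty (↥(S : Subgroup G) ≃* (↥(P : Subgroup ↥Cfsg.M24) ⧸ Subgroup.center ↥(P : Subgroup ↥Cfsg.M24))) →
      ∀ A : Subgroup G, A ≤ (S : Subgroup G) → IsMulCommutative ↥A → Nat.card ↥A = 64 →
      (∀ B : Subgroup G, B ≤ (S : Subgroup G) → IsMulCommutative ↥B → Nat.card ↥B = 64 → B = A) →
      A.Normal)
    {H : Type u} [Group H] [Finite H]
    (hO : Cfsg.oddCore H = ⊥) (T : Sylow 2 H) (P : Sylow 2 ↥Cfsg.M24)
    (hT : Nonempty (↥(T : Subgroup H) ≃* ↥(P : Subgroup ↥Cfsg.M24)))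
    (hZ : ∀ z ∈ (T : Subgroup H), (∀ t ∈ (T : Subgroup H), z * t = t * z) → z ∈ Subgroup.center H)
    (E : Subgroup H) (hE : E ≤ (T : Subgroup H)) (hEn : (E.subgroupOf (T : Subgroup H)).Normal)
    (hEx : Cfsg.IsExtraspecial 2 ↥E) (hE7 : Nat.card ↥E = 2 ^ 7)
    (_huniq : ∀ E' : Subgroup H, E' ≤ (T : Subgroup H) → (E'.subgroupOf (T : Subgroup H)).Normal →
      Cfsg.IsExtraspecial 2 ↥E' → Nat.card ↥E' = 2 ^ 7 → E' = E) :
    E.Normal := by
  haveI : Fact (Nat.Prime 2) := ⟨Nat.prime_two⟩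
  obtain ⟨e⟩ := hT
  set Z : Subgroup H := (center ↥(T : Subgroup H)).map (T : Subgroup H).subtype with hZdef
  have hZc : Z ≤ center H := by
    rintro _ ⟨z, hz, rfl⟩
    exact hZ _ z.2 fun t ht => (congrArg Subtype.val (mem_center_iff.1 hz ⟨t, ht⟩)).symm
  have hZcard : Nat.card Z = 2 := by
    rw [hZdef, card_map_of_injective (T : Subgroup H).subtype_injective,
      Nat.card_congr (Subgroup.centerCongr e).toEquiv]
    exact (natCard_sylow_and_center P).2
  haveI : Z.Normal := ⟨fun z hz g => by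
    rwa [mem_center_iff.1 (hZc hz) g, mul_inv_cancel_right]⟩
  have hf := QuotientGroup.mk'_surjective Z
  have hker : (QuotientGroup.mk' Z).ker = Z := QuotientGroup.ker_mk' Z
  have hZp : IsPGroup 2 Z := IsPGroup.of_card (n := 1) (by rw [hZcard]; norm_num)
  have hOq : Cfsg.oddCore (H ⧸ Z) = ⊥ := by
    refine eq_bot_iff.2 fun q hq => ?_
    obtain ⟨x, rfl⟩ := hf q
    obtain ⟨o, ho, hox⟩ := StrongTwoClasses.exists_core_lift (QuotientGroup.mk' Z) hf
      (by rw [hker]; exact hZp) (by rw [hker]; exact hZc) hq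
    rw [hO, mem_bot] at ho
    rw [mem_bot, ← hox, ho, map_one]
  -- the type of the image of `T`
  let S : Sylow 2 (H ⧸ Z) := T.mapSurjective hf
  have hScoe : (S : Subgroup (H ⧸ Z)) = (T : Subgroup H).map (QuotientGroup.mk' Z) := rfl
  have hgker : ((QuotientGroup.mk' Z).subgroupMap (T : Subgroup H)).ker =
      center ↥(T : Subgroup H) := by
    ext t
    rw [MonoidHom.mem_ker]
    constructor
    · intro h
      have h' : (t : H) ∈ Z := by
        have := congrArg Subtype.val h
        rwa [← hker, MonoidHom.mem_ker]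
      obtain ⟨z, hz, hzt⟩ := h'
      rwa [show z = t from Subtype.ext hzt] at hz
    · intro h
      refine Subtype.ext ?_
      have h' : (t : H) ∈ (QuotientGroup.mk' Z).ker := by rw [hker]; exact ⟨t, h, rfl⟩
      exact MonoidHom.mem_ker.1 h'
  have hS : Nonempty (↥(S : Subgroup (H ⧸ Z)) ≃*
      (↥(P : Subgroup ↥Cfsg.M24) ⧸ center ↥(P : Subgroup ↥Cfsg.M24))) := by
    refine ⟨(MulEquiv.subgroupCongr hScoe).trans ?_⟩
    exact ((QuotientGroup.quotientMulEquivOfEq hgker.symm).trans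
      (QuotientGroup.quotientKerEquivOfSurjective _
        ((QuotientGroup.mk' Z).subgroupMap_surjective (T : Subgroup H)))).symm.trans
      (QuotientGroup.congr _ _ e (map_center_congr e))
  -- the centre of `E` is `Z`
  haveI := hEn
  have hEc2 : Nat.card (center ↥E) = 2 := hEx.2
  have hEcent : (center ↥E).map E.subtype ≤ Z := by
    rintro _ ⟨z, hz, rfl⟩
    refine ⟨⟨z, hE z.2⟩, ?_, rfl⟩
    rcases eq_or_ne z 1 with rfl | hz1
    · exact one_mem _
    refine mem_center_iff.2 fun t => Subtype.ext ?_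
    have hconj : ∀ w ∈ E, ∀ s ∈ (T : Subgroup H), s * w * s⁻¹ ∈ E := fun w hw s hs =>
      hEn.conj_mem ⟨w, hE hw⟩ hw ⟨s, hs⟩
    set w : ↥E := ⟨(t : H) * z * (t : H)⁻¹, hconj _ z.2 _ t.2⟩ with hw
    have hwc : w ∈ center ↥E := by
      refine mem_center_iff.2 fun y => Subtype.ext ?_
      have hy := mem_center_iff.1 hz ⟨(t : H)⁻¹ * y * (t : H), by
        simpa using hconj _ y.2 _ (inv_mem t.2)⟩
      have hy' : (t : H)⁻¹ * y * t * z = z * ((t : H)⁻¹ * y * t) := congrArg Subtype.val hy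
      change (y : H) * (t * z * (t : H)⁻¹) = t * z * (t : H)⁻¹ * y
      calc (y : H) * (t * z * (t : H)⁻¹) = t * ((t : H)⁻¹ * y * t * z) * (t : H)⁻¹ := by group
        _ = t * (z * ((t : H)⁻¹ * y * t)) * (t : H)⁻¹ := by rw [hy']
        _ = t * z * (t : H)⁻¹ * y := by group
    have hw1 : w ≠ 1 := by
      intro h
      have h' : (t : H) * z * (t : H)⁻¹ = 1 := congrArg Subtype.val h
      refine hz1 (Subtype.ext ?_)
      simpa [mul_inv_eq_one] using h'
    have hwz : w = z := by
      haveI : Finite (center ↥E) := inferInstance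
      obtain ⟨a, -, ha⟩ := (Nat.card_eq_two_iff' (1 : center ↥E)).1 hEc2
      have e1 := ha ⟨z, hz⟩ (fun h => hz1 (congrArg Subtype.val h))
      have e2 := ha ⟨w, hwc⟩ (fun h => hw1 (congrArg Subtype.val h))
      exact congrArg Subtype.val (e2.trans e1.symm)
    have h : (t : H) * z * (t : H)⁻¹ = z := congrArg Subtype.val hwz
    change (t : H) * z = z * t
    rwa [mul_inv_eq_iff_eq_mul] at h
  have hEcard : Nat.card ↥((center ↥E).map E.subtype) = 2 := by
    rw [card_map_of_injective E.subtype_injective, hEc2]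
  have hEZ : (center ↥E).map E.subtype = Z :=
    eq_of_le_of_card_ge hEcent (by rw [hEcard, hZcard])
  have hZE : Z ≤ E := hEZ ▸ map_subtype_le _
  -- the image of `E`
  set A : Subgroup (H ⧸ Z) := E.map (QuotientGroup.mk' Z) with hA
  have hA64 : Nat.card A = 64 := by
    have h1 : Nat.card A = Z.relIndex E := by
      rw [← relIndex_bot_left, hA, ← relIndex_comap, MonoidHom.comap_bot, hker]
    have h2 := relIndex_mul_relIndex ⊥ Z E bot_le hZE
    rw [relIndex_bot_left, relIndex_bot_left, hZcard, hE7] at h2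
    rw [h1]; omega
  have hAc : IsMulCommutative A := ⟨⟨by
    rintro ⟨_, x, hx, rfl⟩ ⟨_, y, hy, rfl⟩
    refine Subtype.ext ?_
    have hc : ⁅(⟨x, hx⟩ : ↥E), ⟨y, hy⟩⁆ ∈ center ↥E := by
      rw [← hEx.1.2.2]
      exact commutator_mem_commutator (mem_top _) (mem_top _)
    have hc' : ⁅x, y⁆ ∈ (QuotientGroup.mk' Z).ker := by
      rw [hker, ← hEZ]
      exact ⟨_, hc, rfl⟩
    have h' := MonoidHom.mem_ker.1 hc'
    rw [map_commutatorElement, commutatorElement_eq_one_iff_mul_comm] at h'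
    exact h'⟩⟩
  have hAS : A ≤ (S : Subgroup (H ⧸ Z)) := by rw [hScoe]; exact map_mono hE
  have hAn : A.Normal := base hOq S P hS A hAS hAc hA64 fun B hB hBc hB64 =>
    abelian_sixtyfour_unique P hS hAS hAc hA64 hB hBc hB64
  have : E = A.comap (QuotientGroup.mk' Z) := by
    rw [hA, comap_map_eq, hker, sup_eq_left.2 hZE]
  rw [this]
  exact hAn.comap _

end CfsgLib.M24Quot
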