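import Cfsg.Agent.Lib.M24Quot.Checks

/-!
A map intertwining the module structures is given by the tables of contributions.
-/

set_option autoImplicit false
set_option maxRecDepth 100000

namespace CfsgLib.M24Quot

theorem and63_xor (a b : ℕ) : (a ^^^ b) &&& 63 = (a &&& 63) ^^^ (b &&& 63) :=
  Nat.and_xor_distrib_right

theorem app_xor_code (a b v : ℕ) : app (a ^^^ b) v = app a v ^^^ app b v := by
  have h : ∀ j, sel (a ^^^ b) v j = sel a v j ^^^ sel b v j := by
    intro j
    unfold sel
    cases v.testBit j
    · simp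
    · simp only [if_true, Nat.shiftRight_xor_distrib, and63_xor]
  simp only [app, h]
  ac_rfl

theorem app_mk_unit {f : ℕ → ℕ} (hf : ∀ v < 64, f v < 64) {j : ℕ} (hj : j < 6) :
    app (mk f) (2 ^ j) = f (2 ^ j) := by
  obtain ⟨e0, e1, e2, e3, e4, e5⟩ := field_mk hf
  simp only [app, sel, Nat.testBit_two_pow, decide_eq_true_eq, e0, e1, e2, e3, e4, e5]
  interval_cases j <;> simp

theorem app_eq_of_units {c : ℕ} {f : ℕ → ℕ} (h0 : f 0 = 0)
    (hadd : ∀ v < 64, ∀ w < 64, f (v ^^^ w) = f v ^^^ f w)
    (h : ∀ j < 6, app c (2 ^ j) = f (2 ^ j)) : ∀ v < 64, app c v = f v := by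
  intro v hv
  have hb : ∀ (j : ℕ), j < 6 → ∀ b : Bool,
      app c (if b then 2 ^ j else 0) = f (if b then 2 ^ j else 0) := by
    intro j hj b
    cases b
    · simp [app_zero, h0]
    · simpa using h j hj
  have hl : ∀ (j : ℕ), j < 6 → ∀ b : Bool, (if b then 2 ^ j else 0) < 2 ^ 6 := fun j hj b => by
    cases b
    · simp
    · simpa using Nat.pow_lt_pow_right (show 1 < 2 by norm_num) hj
  have step : ∀ x y, x < 2 ^ 6 → y < 2 ^ 6 → app c x = f x → app c y = f y →
      app c (x ^^^ y) = f (x ^^^ y) := fun x y hx hy e e' => by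
    rw [app_xor, e, e', hadd x hx y hy]
  rw [bits_eq v hv]
  refine step _ _ ?_ (hl 5 (by norm_num) _) (step _ _ ?_ (hl 4 (by norm_num) _)
    (step _ _ ?_ (hl 3 (by norm_num) _) (step _ _ ?_ (hl 2 (by norm_num) _)
    (step _ _ (hl 0 (by norm_num) _) (hl 1 (by norm_num) _) (hb 0 (by norm_num) _)
    (hb 1 (by norm_num) _)) (hb 2 (by norm_num) _)) (hb 3 (by norm_num) _))
    (hb 4 (by norm_num) _)) (hb 5 (by norm_num) _)
  all_goals repeat' first
    | exact hl 0 (by norm_num) _
    | exact hl 1 (by norm_num) _
    | exact hl 2 (by norm_num) _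
    | exact hl 3 (by norm_num) _
    | exact hl 4 (by norm_num) _
    | exact hl 5 (by norm_num) _
    | apply Nat.xor_lt_two_pow

theorem xors_lt {l : List ℕ} (h : ∀ x ∈ l, x < 64) : xors l < 64 := by
  induction l with
  | nil => simp [xors]
  | cons x l ih =>
    exact Nat.xor_lt_two_pow (n := 6) (h x (List.mem_cons_self ..))
      (ih fun y hy => h y (List.mem_cons_of_mem _ hy))

theorem map_xors (f : ℕ → ℕ) (h0 : f 0 = 0)
    (hadd : ∀ v < 64, ∀ w < 64, f (v ^^^ w) = f v ^^^ f w) :
    ∀ l : List ℕ, (∀ x ∈ l, x < 64) → f (xors l) = xors (l.map f)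
  | [], _ => h0
  | x :: l, h => by
    show f (x ^^^ xors l) = f x ^^^ xors (l.map f)
    rw [hadd x (h x (List.mem_cons_self ..)) _
      (xors_lt fun y hy => h y (List.mem_cons_of_mem _ hy)),
      map_xors f h0 hadd l fun y hy => h y (List.mem_cons_of_mem _ hy)]

theorem part_unit (cmb : List (List (ℕ × ℕ))) (p : ℕ → ℕ) (i y : ℕ) {j : ℕ} (hj : j < 6) :
    app (part cmb p i y) (2 ^ j) =
      xors (((cmb.getD j []).filter fun t => Nat.beq t.2 i).map fun t => app (dd (p t.1)) y) := by
  rw [part, app_mk_unit (fun v _ => xors_lt fun x hx => ?_) hj, Nat.log2_two_pow]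
  obtain ⟨t, -, rfl⟩ := List.mem_map.1 hx
  exact app_lt _ _

theorem xors_split (g : ℕ × ℕ → ℕ) : ∀ l : List (ℕ × ℕ), ∀ i : ℕ,
    xors (l.map g) = xors ((l.filter fun t => Nat.beq t.2 i).map g) ^^^
      xors ((l.filter fun t => !Nat.beq t.2 i).map g)
  | [], _ => by simp [xors]
  | t :: l, i => by
    have ih := xors_split g l i
    cases h : Nat.beq t.2 i
    · simp only [List.filter_cons, h, Bool.not_false, if_true, List.map_cons]
      simp only [xors, List.foldr_cons, Bool.false_eq_true, if_false] at ih ⊢
      rw [ih]; ac_rfl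
    · simp only [List.filter_cons, h, Bool.not_true, if_true, List.map_cons]
      simp only [xors, List.foldr_cons, Bool.false_eq_true, if_false] at ih ⊢
      rw [ih]; ac_rfl

/-- An intertwining map is the sum of the contributions of the generators. -/
theorem eq_parts {cmb : List (List (ℕ × ℕ))} {es : List ℕ} (hes : ∀ e ∈ es, e < 64)
    (hc : cmbOK cmb es = true) {p : ℕ → ℕ} {f : ℕ → ℕ} (h0 : f 0 = 0)
    (hadd : ∀ v < 64, ∀ w < 64, f (v ^^^ w) = f v ^^^ f w)
    (hint : ∀ j < 6, ∀ t ∈ cmb.getD j [], ∀ v < 64, f (app (dd t.1) v) = app (dd (p t.1)) (f v)) :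
    ∀ v < 64, f v = app (xors ((List.range es.length).map fun i => part cmb p i (f (es.getD i 0)))) v := by
  simp only [cmbOK, List.all_eq_true, List.mem_range, Bool.and_eq_true, Nat.beq_eq, Nat.blt_eq] at hc
  refine fun v hv => (app_eq_of_units h0 hadd (fun j hj => ?_) v hv).symm
  obtain ⟨he, hlt⟩ := hc j hj
  rw [he, map_xors f h0 hadd _ (fun x hx => by
    obtain ⟨t, -, rfl⟩ := List.mem_map.1 hx; exact app_lt _ _), ← he, List.map_map,
    List.map_congr_left (g := fun t : ℕ × ℕ => app (dd (p t.1)) (f (es.getD t.2 0))) (fun t ht => by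
      refine hint j hj t ht _ ?_
      rw [List.getD_eq_getElem _ _ (hlt t ht).2]
      exact hes _ (List.getElem_mem (hlt t ht).2))]
  have key : ∀ (n : ℕ) (l : List (ℕ × ℕ)), (∀ t ∈ l, t.2 < n) →
      app (xors ((List.range n).map fun i => part cmb p i (f (es.getD i 0)))) (2 ^ j) =
        xors ((List.range n).map fun i => xors (((cmb.getD j []).filter fun t => Nat.beq t.2 i).map
          fun t => app (dd (p t.1)) (f (es.getD t.2 0)))) ∧
      xors ((List.range n).map fun i => xors ((l.filter fun t => Nat.beq t.2 i).map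
          fun t => app (dd (p t.1)) (f (es.getD t.2 0)))) =
        xors (l.map fun t => app (dd (p t.1)) (f (es.getD t.2 0))) := by
    intro n
    induction n with
    | zero =>
      intro l hl
      cases l with
      | nil => simp [xors, app, sel]
      | cons t l => exact absurd (hl t (List.mem_cons_self ..)) (Nat.not_lt_zero _)
    | succ n ih =>
      intro l hl
      have xa : ∀ (u : List ℕ) (x : ℕ), xors (u ++ [x]) = xors u ^^^ x := by
        intro u x
        induction u with
        | nil => simp [xors]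
        | cons y u ih =>
          show y ^^^ xors (u ++ [x]) = y ^^^ xors u ^^^ x
          rw [ih, Nat.xor_assoc]
      simp only [List.range_succ, List.map_append, List.map_cons, List.map_nil, xa]
      refine ⟨?_, ?_⟩
      · rw [app_xor_code, (ih [] (by simp)).1, part_unit _ _ _ _ hj]
        congr 2
        refine List.map_congr_left fun t ht => ?_
        rw [Nat.beq_eq.mp (List.mem_filter.1 ht).2]
      · rw [xors_split _ l n, ← (ih (l.filter fun t => !Nat.beq t.2 n) fun t ht => ?_).2]
        · rw [Nat.xor_comm]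
          congr 2
          refine List.map_congr_left fun i hi => ?_
          congr 2
          rw [List.filter_filter]
          refine List.filter_congr fun t _ => ?_
          cases h : Nat.beq t.2 i
          · simp
          · cases h' : Nat.beq t.2 n
            · simp
            · exfalso
              have := List.mem_range.1 hi
              have := Nat.beq_eq.mp h
              have := Nat.beq_eq.mp h'
              omega
        · obtain ⟨h1, h2⟩ := List.mem_filter.1 ht
          have h3 := hl t h1
          have : t.2 ≠ n := fun e => by rw [e, Nat.beq_refl] at h2; exact Bool.noConfusion h2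
          omega
  obtain ⟨h1, h2⟩ := key es.length (cmb.getD j []) (fun t ht => (hlt t ht).2)
  rw [h1, h2]

end CfsgLib.M24Quot
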