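import Cfsg.Agent.Lib.M24Quot.Perms
import Cfsg.Agent.Lib.M24Quot.Interp

/-!
The centralizers of the involutions of the first group in the automiser.
-/

set_option autoImplicit false
set_option maxRecDepth 100000
set_option linter.unusedSectionVars false
set_option linter.style.haveILetI false

namespace CfsgLib.M24Quot

open Subgroup

/-- trivial on the factors of the series of `a` -/
structure Ch (a c : ℕ) : Prop where
  bot : ∀ v < 64, app c (dlt a v) = dlt a v
  top : ∀ v < 64, app a (dlt c v) = dlt c v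
  mid : ∀ v < 64, app a v = v → ∃ u < 64, dlt a u = dlt c v

theorem dl_lt (c : ℕ) {v : ℕ} (hv : v < 64) : dlt c v < 64 :=
  Nat.xor_lt_two_pow (n := 6) (app_lt c v) hv

theorem dl_xor (c v w : ℕ) : dlt c (v ^^^ w) = dlt c v ^^^ dlt c w := by
  simp only [dlt, app_xor]; ac_rfl

theorem app_eq_xor (c v : ℕ) : app c v = v ^^^ dlt c v := by
  rw [dlt, Nat.xor_comm (app c v), ← Nat.xor_assoc, Nat.xor_self, Nat.zero_xor]

theorem xor_rr (x y : ℕ) : x ^^^ y ^^^ y = x := by
  rw [Nat.xor_assoc, Nat.xor_self, Nat.xor_zero]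

theorem Ch.mul {a b c : ℕ} (ha : ∀ v < 64, app a (app a v) = v) (hb : Ch a b) (hc : Ch a c) :
    Ch a (mulC b c) := by
  have ha' : ∀ u < 64, app a (dlt a u) = dlt a u := fun u hu => by
    rw [dlt, app_xor, ha u hu, Nat.xor_comm]
  have e : ∀ v < 64, dlt (mulC b c) v = dlt b (app c v) ^^^ dlt c v := fun v hv => by
    simp only [dlt, app_mulC _ _ hv]
    rw [← Nat.xor_assoc, xor_rr]
  refine ⟨fun v hv => ?_, fun v hv => ?_, fun v hv h => ?_⟩
  · rw [app_mulC _ _ (dl_lt _ hv), hc.bot v hv, hb.bot v hv]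
  · rw [e v hv, app_xor, hb.top _ (app_lt _ _), hc.top v hv]
  · obtain ⟨u, hu, eu⟩ := hc.mid v hv h
    have hfix : app a (app c v) = app c v := by
      rw [app_eq_xor c v, app_xor, h, ← eu, ha' u hu]
    obtain ⟨u', hu', eu'⟩ := hb.mid _ (app_lt _ _) hfix
    exact ⟨u' ^^^ u, Nat.xor_lt_two_pow (n := 6) hu' hu, by rw [dl_xor, eu', eu, e v hv]⟩

theorem Ch.one {a : ℕ} : Ch a idC := by
  have e : ∀ v < 64, dlt idC v = 0 := fun v hv => by rw [dlt, app_idC hv, Nat.xor_self]
  exact ⟨fun v hv => app_idC (dl_lt _ hv), fun v hv => by rw [e v hv, app_zero],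
    fun v hv _ => ⟨0, by norm_num, by rw [e v hv, dlt, app_zero, Nat.xor_self]⟩⟩

theorem Ch.pow_four {a c : ℕ} (hc : Ch a c) :
    mulC (mulC c c) (mulC c c) = idC := by
  have sq : ∀ d, ∀ v < 64, dlt (mulC d d) v = dlt d (dlt d v) := fun d v hv => by
    simp only [dlt, app_mulC _ _ hv, app_xor]
    rw [← Nat.xor_assoc, xor_rr]
  refine mk_congr fun v hv => ?_
  rw [id_eq, ← app_mulC _ _ hv, app_eq_xor, sq _ v hv]
  have hN := dl_lt c hv
  rw [sq c v hv]
  obtain ⟨u, hu, eu⟩ := hc.mid _ hN (hc.top v hv)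
  rw [← eu, dlt, app_mulC _ _ (dl_lt _ hu), hc.bot u hu, hc.bot u hu, Nat.xor_self, Nat.xor_zero]

theorem Ch.of_chB {a c : ℕ} (h : chB a c = true) : Ch a c := by
  simp only [chB, fixB, List.all_eq_true, List.mem_range, Bool.and_eq_true, Bool.or_eq_true,
    Bool.not_eq_true', List.any_eq_true, Nat.beq_eq] at h
  refine ⟨fun v hv => (h v hv).1.1, fun v hv => (h v hv).1.2, fun v hv hfix => ?_⟩
  rcases (h v hv).2 with h1 | h1
  · rw [hfix, Nat.beq_refl] at h1; exact Bool.noConfusion h1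
  · exact h1

namespace Au

variable {X : Subgroup P64} (a : Au X)
include a

theorem app_code_mul {σ τ : P64} (hσ : σ ∈ X) (hτ : τ ∈ X) {v : ℕ} (hv : v < 64) :
    app (code (σ * τ)) v = app (code σ) (app (code τ) v) := by
  rw [a.code_mul hσ hτ, app_mulC _ _ hv]

theorem app_code_inv {σ : P64} (hσ : σ ∈ X) {v : ℕ} (hv : v < 64) :
    app (code σ) (app (code σ⁻¹) v) = v := by
  rw [← a.app_code_mul hσ (inv_mem hσ) hv, mul_inv_cancel, code_one, app_idC hv]

/-- The subgroup of `X` trivial on the factors of the series of an involution. -/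
theorem exists_chainGroup {k : ℕ} (hk : k < 8) (hkk : mt k k = 0) :
    ∃ N : Subgroup P64, N ≤ X ∧ IsPGroup 2 N ∧ (∀ σ, σ ∈ N ↔ σ ∈ X ∧ Ch (dd k) (code σ)) ∧
      ∀ σ ∈ X, mulC (code σ) (dd k) = mulC (dd k) (code σ) → ∀ τ ∈ N, σ * τ * σ⁻¹ ∈ N := by
  have hinv : ∀ v < 64, app (dd k) (app (dd k) v) = v := fun v hv => by
    rw [← app_mulC _ _ hv, (dd_mul hk hk).2.1, hkk, dd_zero', app_idC hv]
  have h4 : ∀ σ ∈ X, Ch (dd k) (code σ) → σ ^ 4 = 1 := fun σ hσ h => by
    refine a.ext (pow_mem hσ 4) (one_mem X) ?_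
    rw [show σ ^ 4 = σ * σ * (σ * σ) by simp only [pow_succ, pow_zero, one_mul, mul_assoc],
      a.code_mul (mul_mem hσ hσ) (mul_mem hσ hσ), a.code_mul hσ hσ, h.pow_four, code_one]
  let C : Submonoid P64 :=
    { carrier := {σ | σ ∈ X ∧ Ch (dd k) (code σ)}
      one_mem' := ⟨one_mem X, by rw [code_one]; exact Ch.one⟩
      mul_mem' := fun h h' => ⟨mul_mem h.1 h'.1, by
        rw [a.code_mul h.1 h'.1]; exact Ch.mul hinv h.2 h'.2⟩ }
  let N : Subgroup P64 :=
    { C with
      inv_mem' := fun {σ} h => by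
        have h1 : σ⁻¹ = σ ^ 3 := inv_eq_of_mul_eq_one_right (by
          rw [← pow_succ', h4 σ h.1 h.2])
        show σ⁻¹ ∈ C
        rw [h1]; exact pow_mem (show σ ∈ C from h) 3 }
  refine ⟨N, fun σ h => h.1, fun σ => ⟨2, Subtype.ext (by
    rw [SubmonoidClass.coe_pow]; exact h4 _ σ.2.1 σ.2.2)⟩, fun σ => Iff.rfl,
    fun σ hσ hcm τ hτ => ⟨mul_mem (mul_mem hσ hτ.1) (inv_mem hσ), ?_⟩⟩
  set c := code σ
  set ci := code σ⁻¹
  have hc : ∀ v < 64, app c (app (dd k) v) = app (dd k) (app c v) := fun v hv => by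
    rw [← app_mulC _ _ hv, hcm, app_mulC _ _ hv]
  have hci : ∀ v < 64, app ci (app (dd k) v) = app (dd k) (app ci v) := fun v hv => by
    have h1 : app ci (app c (app (dd k) (app ci v))) = app ci (app (dd k) v) := by
      rw [hc _ (app_lt _ _), a.app_code_inv hσ hv]
    have h2 := a.app_code_inv (inv_mem hσ) (app_lt (dd k) (app ci v))
    rw [inv_inv] at h2
    rw [← h1, h2]
  have hcci : ∀ v < 64, app c (app ci v) = v := fun v hv => a.app_code_inv hσ hv
  have hcd : ∀ (d w : ℕ), app c (dlt d w) = app c (app d w) ^^^ app c w := fun d w => app_xor _ _ _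
  have he : ∀ v < 64, app (code (σ * τ * σ⁻¹)) v = app c (app (code τ) (app ci v)) := fun v hv => by
    rw [a.app_code_mul (mul_mem hσ hτ.1) (inv_mem hσ) hv, a.app_code_mul hσ hτ.1 (app_lt _ _)]
  have hed : ∀ v < 64, dlt (code (σ * τ * σ⁻¹)) v = app c (dlt (code τ) (app ci v)) := fun v hv => by
    rw [hcd, hcci v hv, dlt, he v hv]
  refine ⟨fun v hv => ?_, fun v hv => ?_, fun v hv hfix => ?_⟩
  · have e : app ci (dlt (dd k) v) = dlt (dd k) (app ci v) := by
      rw [dlt, app_xor, hci v hv]; rfl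
    rw [he _ (dl_lt _ hv), e, hτ.2.bot _ (app_lt _ _), ← e, hcci _ (dl_lt _ hv)]
  · rw [hed v hv, ← hc _ (dl_lt _ (app_lt _ _)), hτ.2.top _ (app_lt _ _)]
  · obtain ⟨u, hu, eu⟩ := hτ.2.mid (app ci v) (app_lt _ _) (by rw [← hci v hv, hfix])
    refine ⟨app c u, app_lt _ _, ?_⟩
    rw [hed v hv, ← eu, hcd, dlt, hc u hu]

theorem code_conj {σ : P64} (hσ : σ ∈ X) {τ ρ : P64} (hτ : τ ∈ X) (hρ : ρ ∈ X)
    (h : mulC (code σ) (code τ) = mulC (code ρ) (code σ)) : σ * τ * σ⁻¹ = ρ := by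
  rw [mul_inv_eq_iff_eq_mul]
  exact a.ext (mul_mem hσ hτ) (mul_mem hρ hσ) (by rw [a.code_mul hσ hτ, a.code_mul hρ hσ, h])

/-- The centralizer of the central involution. -/
theorem isD_of_comm {σ : P64} (hσ : σ ∈ X)
    (hcm : mulC (code σ) (dd 1) = mulC (dd 1) (code σ)) : IsD σ := by
  classical
  haveI : Fact (Nat.Prime 2) := ⟨Nat.prime_two⟩
  obtain ⟨D, hDX, hD2, hD, -⟩ := a.exists_DX
  obtain ⟨N, hNX, hN2, hN, hNc⟩ := a.exists_chainGroup (k := 1) (by norm_num) rfl
  have hch := chain_ok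
  simp only [List.all_eq_true, List.mem_range, Bool.and_eq_true, Bool.or_eq_true,
    Bool.not_eq_true', List.mem_cons, List.not_mem_nil, or_false, Nat.beq_eq] at hch
  have hcomm1 : ((List.range 8).all fun l => Nat.beq (mt 1 l) (mt l 1)) = true := by decide +kernel
  simp only [List.all_eq_true, List.mem_range, Nat.beq_eq] at hcomm1
  have hDN : ∀ τ ∈ X, IsD τ → τ ∈ N := by
    rintro τ hτ ⟨l, hl, e⟩
    refine (hN τ).2 ⟨hτ, e ▸ Ch.of_chB ?_⟩
    rcases (hch 1 (Or.inl rfl)).2 l hl with h | h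
    · rw [hcomm1 l hl, Nat.beq_refl] at h; exact Bool.noConfusion h
    · exact h
  have hND : ∀ τ ∈ N, IsD τ := fun τ hτ => a.max N hNX hN2 hDN τ hτ
  choose d hd hde using a.mem
  have hconj : ∀ k, ∀ h : k < 8, ∃ l < 8, code (σ * d k h * σ⁻¹) = dd l := fun k h =>
    hND _ (hNc σ hσ hcm _ (hDN _ (hd k h) ⟨k, h, hde k h⟩))
  choose p hp hpe using hconj
  set q : ℕ → ℕ := fun k => if h : k < 8 then p k h else 0 with hq
  have hq8 : ∀ k < 8, q k < 8 := fun k h => by rw [hq]; simp only [dif_pos h]; exact hp k h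
  have hqe : ∀ k, ∀ h : k < 8, code (σ * d k h * σ⁻¹) = dd (q k) := fun k h => by
    rw [hq]; simp only [dif_pos h]; exact hpe k h
  have hmem : ∀ k, ∀ h : k < 8, σ * d k h * σ⁻¹ ∈ X := fun k h =>
    mul_mem (mul_mem hσ (hd k h)) (inv_mem hσ)
  have qmul : ∀ k < 8, ∀ l < 8, q (mt k l) = mt (q k) (q l) := by
    intro k hk l hl
    have hm := (dd_mul hk hl).1
    refine ((dd_mul (hq8 _ hm) (dd_mul (hq8 k hk) (hq8 l hl)).1).2.2 ?_)
    rw [← (dd_mul (hq8 k hk) (hq8 l hl)).2.1, ← hqe k hk, ← hqe l hl, ← hqe _ hm,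
      ← a.code_mul (hmem k hk) (hmem l hl)]
    congr 1
    have : d (mt k l) hm = d k hk * d l hl := a.ext (hd _ hm) (mul_mem (hd k hk) (hd l hl)) (by
      rw [hde, a.code_mul (hd k hk) (hd l hl), hde, hde, (dd_mul hk hl).2.1])
    rw [this]; group
  have qinj : ∀ k < 8, ∀ l < 8, q k = q l → k = l := by
    intro k hk l hl e
    have : d k hk = d l hl := by
      have h1 : σ * d k hk * σ⁻¹ = σ * d l hl * σ⁻¹ :=
        a.ext (hmem k hk) (hmem l hl) (by rw [hqe, hqe, e])
      simpa using h1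
    exact (dd_mul hk hl).2.2 (by rw [← hde k hk, ← hde l hl, this])
  have q0 : q 0 = 0 := by
    refine (dd_mul (hq8 0 (by norm_num)) (by norm_num : 0 < 8)).2.2 ?_
    rw [← hqe 0 (by norm_num), dd_zero', ← code_one]
    congr 1
    rw [a.ext (hd 0 (by norm_num)) (one_mem X) (by rw [hde, code_one, dd_zero'])]
    group
  have qphi : ∀ k < 8, q k = phi (q 2) (q 6) k := by
    intro k hk
    have h5 : q 5 = mt (q 2) (q 6) := qmul 2 (by norm_num) 6 (by norm_num)
    have h4 : q 4 = mt (q 6) (q 2) := qmul 6 (by norm_num) 2 (by norm_num)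
    have h1 : q 1 = mt (mt (q 2) (q 6)) (mt (q 2) (q 6)) := by
      rw [← h5]; exact qmul 5 (by norm_num) 5 (by norm_num)
    have h3 : q 3 = mt (q 2) (mt (mt (q 2) (q 6)) (mt (q 2) (q 6))) := by
      rw [← h1]; exact qmul 2 (by norm_num) 1 (by norm_num)
    have h7 : q 7 = mt (q 6) (mt (mt (q 2) (q 6)) (mt (q 2) (q 6))) := by
      rw [← h1]; exact qmul 6 (by norm_num) 1 (by norm_num)
    interval_cases k <;> simp only [phi, List.getD_cons_zero, List.getD_cons_succ] <;>
      first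
        | exact q0
        | exact h1
        | exact h3
        | exact h4
        | exact h5
        | exact h7
        | rfl
  have hper : ∀ k, k = 2 ∨ k = 6 → q^[8] k = k := by
    have h := phi_ok.2
    simp only [List.all_eq_true, List.mem_range, Bool.or_eq_true, Bool.not_eq_true',
      List.mem_cons, List.not_mem_nil, or_false, Nat.beq_eq] at h
    rcases h (q 2) (hq8 2 (by norm_num)) (q 6) (hq8 6 (by norm_num)) with h1 | h1
    · exfalso
      rw [← Bool.not_eq_true] at h1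
      apply h1
      simp only [List.all_eq_true, List.mem_range, Bool.and_eq_true, Bool.or_eq_true,
        Bool.not_eq_true', Nat.beq_eq]
      intro k hk l hl
      rw [← qphi k hk, ← qphi l hl, ← qphi _ (dd_mul hk hl).1]
      refine ⟨qmul k hk l hl, ?_⟩
      by_cases e : k = l
      · exact Or.inr e
      · exact Or.inl (Bool.eq_false_iff.2 fun h' => e (qinj k hk l hl (Nat.beq_eq.mp h')))
    · intro k hk
      have hit : ∀ n, q^[n] k = (phi (q 2) (q 6))^[n] k ∧ q^[n] k < 8 := by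
        intro n
        induction n with
        | zero => exact ⟨rfl, by rcases hk with rfl | rfl <;> norm_num⟩
        | succ n ih =>
          rw [Function.iterate_succ_apply', Function.iterate_succ_apply', ← ih.1]
          exact ⟨qphi _ ih.2, hq8 _ ih.2⟩
      rw [(hit 8).1]
      exact h1 k hk
  -- the eighth power centralises the group
  set τ := σ ^ 8 with hτ
  have hτX : τ ∈ X := pow_mem hσ 8
  have hτk : ∀ k, (k = 2 ∨ k = 6) → ∀ h : k < 8, τ * d k h * τ⁻¹ = d k h := by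
    intro k hk h
    have : ∀ n, ∃ hn : q^[n] k < 8, σ ^ n * d k h * (σ ^ n)⁻¹ = d (q^[n] k) hn := by
      intro n
      induction n with
      | zero => exact ⟨h, by simp⟩
      | succ n ih =>
        obtain ⟨hn, e⟩ := ih
        have hn' : q^[n + 1] k < 8 := by
          rw [Function.iterate_succ_apply']; exact hq8 _ hn
        refine ⟨hn', ?_⟩
        have e2 : σ * d (q^[n] k) hn * σ⁻¹ = d (q^[n + 1] k) hn' :=
          a.ext (hmem _ hn) (hd _ _) (by rw [hqe, hde, Function.iterate_succ_apply'])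
        rw [← e2, ← e, pow_succ']; group
    obtain ⟨h8, e⟩ := this 8
    rw [hτ, e]
    exact a.ext (hd _ _) (hd _ _) (by rw [hde, hde, hper k hk])
  set f : ℕ → ℕ := fun v => fn τ v with hf
  have hint2 : ∀ k, (k = 2 ∨ k = 6) → ∀ v < 64, f (app (dd k) v) = app (dd k) (f v) := by
    intro k hk v hv
    have hk8 : k < 8 := by rcases hk with rfl | rfl <;> norm_num
    have e := mul_inv_eq_iff_eq_mul.1 (hτk k hk hk8)
    have h1 : fn (τ * d k hk8) v = fn (d k hk8 * τ) v := by rw [e]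
    rw [fn_mul, fn_mul, a.lin _ (hd k hk8) v hv, a.lin _ (hd k hk8) _ (fn_lt _ _), hde] at h1
    exact h1
  have happ : ∀ k < 8, ∀ l < 8, ∀ v < 64, app (dd (mt k l)) v = app (dd k) (app (dd l) v) :=
    fun k hk l hl v hv => by rw [← (dd_mul hk hl).2.1, app_mulC _ _ hv]
  have hint : ∀ k < 8, ∀ v < 64, f (app (dd k) v) = app (dd k) (f v) := by
    have hm : ∀ k < 8, ∀ l < 8, (∀ v < 64, f (app (dd k) v) = app (dd k) (f v)) →
        (∀ v < 64, f (app (dd l) v) = app (dd l) (f v)) →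
        ∀ v < 64, f (app (dd (mt k l)) v) = app (dd (mt k l)) (f v) := by
      intro k hk l hl h h' v hv
      rw [happ k hk l hl v hv, h _ (app_lt _ _), h' v hv, ← happ k hk l hl _ (fn_lt _ _)]
    have g2 := hint2 2 (Or.inl rfl)
    have g6 := hint2 6 (Or.inr rfl)
    have g5 := hm 2 (by norm_num) 6 (by norm_num) g2 g6
    have g4 := hm 6 (by norm_num) 2 (by norm_num) g6 g2
    have g1 := hm 5 (by norm_num) 5 (by norm_num) g5 g5
    have g0 : ∀ v < 64, f (app (dd 0) v) = app (dd 0) (f v) := fun v hv => by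
      rw [dd_zero', app_idC hv, app_idC (fn_lt τ v)]
    intro k hk
    interval_cases k
    exacts [g0, g1, g2, hm 2 (by norm_num) 1 (by norm_num) g2 g1, g4, g5, g6,
      hm 6 (by norm_num) 1 (by norm_num) g6 g1]
  obtain ⟨hcmb, hfix1, hfix2, htab0, htab1⟩ := srchD_data
  have hc' := hcmb
  simp only [cmbOK, List.all_eq_true, List.mem_range, Bool.and_eq_true, Nat.beq_eq, Nat.blt_eq] at hc'
  have hadd : ∀ v < 64, ∀ w < 64, f (v ^^^ w) = f v ^^^ f w := fun v hv w hw =>
    (a.lin τ hτX).add hv hw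
  have hf0 : f 0 = 0 := by rw [hf]; exact ((a.lin τ hτX) 0 (by norm_num)).trans (app_zero _)
  have hpart := eq_parts (es := [16, 18]) (by intro e he; fin_cases he <;> norm_num) hcmb
    (p := id) hf0 hadd (fun j hj t ht v hv => hint t.1 ((hc' j hj).2 t ht).1 v hv)
  simp only [List.length_cons, List.length_nil, List.range_succ, List.range_zero,
    List.nil_append, List.map_append, List.map_cons, List.map_nil, List.cons_append,
    List.getD_cons_zero, List.getD_cons_succ, xors, List.foldr_cons, List.foldr_nil,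
    Nat.xor_zero] at hpart
  simp only [tabOK, List.all_eq_true, List.mem_range, Bool.or_eq_true, List.any_cons,
    List.any_nil, Bool.or_false, Bool.not_eq_true', memC, List.any_eq_true, Nat.beq_eq,
    fixB] at htab0 htab1
  have hy : ∀ k, ∀ e < 64, k < 8 → app (dd k) e = e → app (dd k) (f e) = f e := fun k e he hk h => by
    rw [← hint k hk e he, h]
  obtain ⟨t₀, ht₀, et₀⟩ := (htab0 (f 16) (fn_lt _ _)).resolve_left (by
    rw [hy 3 16 (by norm_num) (by norm_num) (Nat.beq_eq.mp hfix1), Nat.beq_refl]; simp)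
  obtain ⟨t₁, ht₁, et₁⟩ := (htab1 (f 18) (fn_lt _ _)).resolve_left (by
    rw [hy 6 18 (by norm_num) (by norm_num) (Nat.beq_eq.mp hfix2), Nat.beq_refl]; simp)
  rw [← et₀, ← et₁] at hpart
  have hs := srchD
  simp only [List.all_eq_true, testD, Bool.or_eq_true, List.any_eq_true, Bool.and_eq_true,
    Bool.not_eq_true', List.mem_range, Nat.beq_eq] at hs
  have hcode : code τ = mulC (t₀ ^^^ t₁) idC :=
    mk_congr fun v hv => by rw [app_idC hv, ← hpart v hv]
  have hτ4 : τ ^ 4 = 1 := by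
    refine a.ext (pow_mem hτX 4) (one_mem X) ?_
    rw [show τ ^ 4 = τ * τ * (τ * τ) by simp only [pow_succ, pow_zero, one_mul, mul_assoc],
      a.code_mul (mul_mem hτX hτX) (mul_mem hτX hτX), a.code_mul hτX hτX, code_one, hcode]
    rcases hs t₀ ht₀ t₁ ht₁ with h | ⟨v, hv, hv0, hv1⟩
    · refine Eq.trans ?_ h
      refine mk_congr fun v hv => ?_
      simp only [app_mulC _ _ (app_lt _ _), app_mulC _ _ hv, app_idC (app_lt _ _), app_idC hv]
    · exfalso
      rw [← hpart v hv] at hv1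
      have : (⟨v % 64, Nat.mod_lt _ (by norm_num)⟩ : Fin 64) = ⟨0 % 64, Nat.mod_lt _ (by norm_num)⟩ :=
        τ.injective (Fin.ext (show fn τ v = fn τ 0 from hv1.trans hf0.symm))
      have := congrArg Fin.val this
      simp only [Nat.mod_eq_of_lt hv] at this
      rw [this, Nat.beq_refl] at hv0
      exact Bool.noConfusion hv0
  -- hence `σ` generates a 2-group with the first group
  have hσn : zpowers σ ≤ normalizer (D : Set P64) := zpowers_le.2
    (CfsgLib.StrongTwoClasses.mem_normalizer_of_forall fun ρ hρ => by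
      obtain ⟨hρX, k, hk, e⟩ := (hD ρ).1 hρ
      have : ρ = d k hk := a.ext hρX (hd k hk) (by rw [e, hde])
      subst this
      exact (hD _).2 ⟨hmem k hk, q k, hq8 k hk, hqe k hk⟩)
  have hσ32 : IsPGroup 2 ↥(zpowers σ) :=
    CfsgLib.StrongTwoClasses.isPGroup_zpowers_two (n := 5) (by
      rw [show (2 : ℕ) ^ 5 = 8 * 4 by norm_num, pow_mul, ← hτ, hτ4])
  exact a.max (zpowers σ ⊔ D) (sup_le (zpowers_le.2 hσ) hDX)
    (hσ32.to_sup_of_normal_right' hD2 hσn)
    (fun ρ hρ h => mem_sup_right ((hD ρ).2 ⟨hρ, h⟩)) σ (mem_sup_left (mem_zpowers σ))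

end Au

end CfsgLib.M24Quot
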