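import Mathlib
import Cfsg.Agent.Lib.StrongTwoClasses.Tools

/-!
Subgroups acting trivially on the factors of a series of an elementary abelian subgroup.
-/

set_option autoImplicit false
set_option linter.unusedSectionVars false
set_option linter.style.haveILetI false

namespace CfsgLib.M24Quot

open Subgroup CfsgLib.StrongTwoClasses

universe u

variable {G : Type u} [Group G] [Finite G]

theorem mem_setNormalizer {Y : Set G} {n : G} (h : ∀ y ∈ Y, n * y * n⁻¹ ∈ Y) :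
    n ∈ normalizer Y := by
  have he : (fun y => n * y * n⁻¹) '' Y = Y := by
    refine Set.eq_of_subset_of_ncard_le (Set.image_subset_iff.2 h) ?_ (Set.toFinite _)
    exact le_of_eq (Set.ncard_image_of_injective Y (MulAut.conj n).injective).symm
  intro y
  refine ⟨h y, fun hy => ?_⟩
  rw [← he] at hy
  obtain ⟨z, hz, e⟩ := hy
  obtain rfl : z = y := (MulAut.conj n).injective e
  exact hz

/-- commutator -/
def cmu (n e : G) : G := n * e * n⁻¹ * e⁻¹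

theorem cmu_mul (n m e : G) : cmu (n * m) e = n * cmu m e * n⁻¹ * cmu n e := by
  unfold cmu; group

theorem conj_eq (n e : G) : n * e * n⁻¹ = cmu n e * e := by unfold cmu; group

/-- The elements trivial on the factors of the series. -/
theorem exists_chain (F L₁ L₂ L₃ : Subgroup G) (h12 : L₁ ≤ L₂) (h23 : L₂ ≤ L₃) (h3 : L₃ ≤ F) :
    ∃ N : Subgroup G, ∀ n, n ∈ N ↔ (∀ e ∈ F, cmu n e ∈ L₃) ∧ (∀ e ∈ L₃, cmu n e ∈ L₂) ∧
      (∀ e ∈ L₂, cmu n e ∈ L₁) ∧ ∀ e ∈ L₁, cmu n e = 1 := by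
  let C : Submonoid G :=
    { carrier := {n | (∀ e ∈ F, cmu n e ∈ L₃) ∧ (∀ e ∈ L₃, cmu n e ∈ L₂) ∧
        (∀ e ∈ L₂, cmu n e ∈ L₁) ∧ ∀ e ∈ L₁, cmu n e = 1}
      one_mem' := by simp [cmu]
      mul_mem' := by
        rintro n m ⟨n3, n2, n1, n0⟩ ⟨m3, m2, m1, m0⟩
        refine ⟨fun e he => ?_, fun e he => ?_, fun e he => ?_, fun e he => ?_⟩ <;>
          rw [cmu_mul, conj_eq]
        · exact mul_mem (mul_mem (h23 (n2 _ (m3 e he))) (m3 e he)) (n3 e he)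
        · exact mul_mem (mul_mem (h12 (n1 _ (m2 e he))) (m2 e he)) (n2 e he)
        · rw [n0 _ (m1 e he), one_mul]; exact mul_mem (m1 e he) (n1 e he)
        · rw [m0 e he, n0 e he]; simp [cmu] }
  refine ⟨{ C with inv_mem' := ?_ }, fun n => Iff.rfl⟩
  intro n hn
  have h1 : n⁻¹ = n ^ (orderOf n - 1) := inv_eq_of_mul_eq_one_right (by
    rw [← pow_succ', Nat.sub_add_cancel (orderOf_pos n), pow_orderOf_eq_one])
  show n⁻¹ ∈ C
  rw [h1]; exact pow_mem hn _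

theorem chain_pow_four {F L₁ L₂ L₃ : Subgroup G} (h12 : L₁ ≤ L₂) (h23 : L₂ ≤ L₃) (h3 : L₃ ≤ F)
    (hsq : ∀ e ∈ F, e * e = 1) {n : G}
    (hn : (∀ e ∈ F, cmu n e ∈ L₃) ∧ (∀ e ∈ L₃, cmu n e ∈ L₂) ∧
      (∀ e ∈ L₂, cmu n e ∈ L₁) ∧ ∀ e ∈ L₁, cmu n e = 1) : n ^ 4 ∈ centralizer (F : Set G) := by
  obtain ⟨n3, n2, n1, n0⟩ := hn
  have sqm : ∀ {m d : G}, d ∈ F → ∀ e, cmu m e = d → cmu (m * m) e = cmu m d := by
    intro m d hd e he
    rw [cmu_mul, he, conj_eq, mul_assoc, hsq d hd, mul_one]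
  have s3 : ∀ e ∈ F, cmu (n * n) e ∈ L₂ := fun e he => by
    rw [sqm (h3 (n3 e he)) e rfl]; exact n2 _ (n3 e he)
  have s1 : ∀ e ∈ L₂, cmu (n * n) e = 1 := fun e he => by
    rw [sqm (h3 (h23 (h12 (n1 e he)))) e rfl]; exact n0 _ (n1 e he)
  refine mem_centralizer_iff.2 fun e he => ?_
  have h4 : cmu (n ^ 4) e = 1 := by
    rw [show n ^ 4 = n * n * (n * n) by simp only [pow_succ, pow_zero, one_mul, mul_assoc], sqm (h3 (h23 (s3 e he))) e rfl]
    exact s1 _ (s3 e he)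
  have h5 := conj_eq (n ^ 4) e
  rw [h4, one_mul, mul_inv_eq_iff_eq_mul] at h5
  exact h5.symm

/-- A subgroup of the normalizer of `F` with image of exponent four is a 2-subgroup times the
centralizer. -/
theorem two_image {A F N : Subgroup G} (hA : IsPGroup 2 A) (hAN : A ≤ N)
    (hNF : N ≤ normalizer (F : Set G)) (h4 : ∀ n ∈ N, n ^ 4 ∈ centralizer (F : Set G)) :
    ∃ T : Subgroup G, A ≤ T ∧ T ≤ N ∧ IsPGroup 2 T ∧ ¬ 2 ∣ T.relIndex N ∧
      ∀ n ∈ N, ∃ t ∈ T, ∃ c ∈ centralizer (F : Set G), n = t * c := by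
  haveI : Fact (Nat.Prime 2) := ⟨Nat.prime_two⟩
  obtain ⟨T, hAT, hTN, hT, hmax⟩ := exists_twoGroup_ge hA hAN
  refine ⟨T, hAT, hTN, hT, hmax, ?_⟩
  set C := centralizer (F : Set G) ⊓ N with hC
  have hconj : ∀ n ∈ N, ∀ c ∈ C, n * c * n⁻¹ ∈ C := by
    intro n hn c hc
    refine ⟨mem_centralizer_iff.2 fun e he => ?_, N.mul_mem (N.mul_mem hn hc.2) (N.inv_mem hn)⟩
    have h1 : n⁻¹ * e * n ∈ F := by simpa using (mem_normalizer_iff.1 (inv_mem (hNF hn)) e).1 he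
    calc e * (n * c * n⁻¹) = n * ((n⁻¹ * e * n) * c) * n⁻¹ := by group
      _ = n * (c * (n⁻¹ * e * n)) * n⁻¹ := by rw [mem_centralizer_iff.1 hc.1 _ h1]
      _ = n * c * n⁻¹ * e := by group
  have hTC : T ≤ normalizer (C : Set G) := fun t ht =>
    mem_normalizer_of_forall fun c hc => hconj t (hTN ht) c hc
  haveI : (C.subgroupOf N).Normal := ⟨fun c hc n => mem_subgroupOf.2 (hconj n n.2 c hc)⟩
  have hP : IsPGroup 2 (↥N ⧸ C.subgroupOf N) := fun q => by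
    obtain ⟨n, rfl⟩ := QuotientGroup.mk_surjective q
    refine ⟨2, ?_⟩
    rw [← QuotientGroup.mk_pow, QuotientGroup.eq_one_iff, mem_subgroupOf]
    exact ⟨h4 n n.2, pow_mem n.2 4⟩
  obtain ⟨i, hi⟩ := IsPGroup.iff_card.1 hP
  have h1 : (T ⊔ C).relIndex N ∣ C.relIndex N := relIndex_dvd_of_le_left N le_sup_right
  rw [show C.relIndex N = 2 ^ i from (index_eq_card _).trans hi] at h1
  have h2 : (T ⊔ C).relIndex N ∣ T.relIndex N := relIndex_dvd_of_le_left N le_sup_left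
  obtain ⟨j, -, hj⟩ := (Nat.dvd_prime_pow Nat.prime_two).1 h1
  have hone : (T ⊔ C).relIndex N = 1 := by
    rcases j with _ | j
    · simpa using hj
    · exact absurd ((dvd_pow_self 2 (Nat.succ_ne_zero j)).trans (hj ▸ h2)) hmax
  intro n hn
  obtain ⟨t, ht, c, hc, rfl⟩ :=
    (CfsgLib.Coprime.mem_sup_iff_of_le_normalizer hTC).1 (relIndex_eq_one.1 hone hn)
  exact ⟨t, ht, c, hc.1, rfl⟩

end CfsgLib.M24Quot
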