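import Cfsg.Agent.Lib.M24Quot.Data

/-!
Finite checks.
-/

set_option autoImplicit false
set_option maxRecDepth 100000

namespace CfsgLib.M24Quot

theorem dd_ok : ((List.range 8).all fun k => Nat.beq (mulC (dd k) idC) (dd k) &&
    ((List.range 8).all fun l => Nat.blt (mt k l) 8 &&
      Nat.beq (mulC (dd k) (dd l)) (dd (mt k l)) && (!Nat.beq (dd k) (dd l) || Nat.beq k l)) &&
    (List.range 8).any fun l => Nat.beq (mt k l) 0 && Nat.beq (mt l k) 0) = true ∧
    Nat.beq (dd 0) idC = true ∧ ddL.length = 8 := by
  decide +kernel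

theorem geo_fix : ((List.range 8).all fun k => Nat.beq k 0 || !Nat.beq (mt k k) 0 ||
    (List.range 8).all fun l => Nat.beq l 0 || Nat.beq l k ||
      (List.range 64).any fun v => fixB (dd k) v && !fixB (dd l) v) = true := by
  decide +kernel

theorem geo_cent : ((List.range 8).all fun k => !Nat.beq (mt k k) 0 ||
    (List.range 8).all fun l => !Nat.beq (mt k l) (mt l k) ||
      (List.range 64).all fun v => fixB (dd l) (dlt (dd k) v)) = true := by
  decide +kernel

theorem geo_img : ((List.range 8).all fun k => !Nat.beq (mt k k) 0 ||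
    ((List.range 64).all fun v =>
      Nat.beq (dlt (dd k) v) 0 || Nat.beq (dlt (dd k) v) (wGen k).1 ||
      Nat.beq (dlt (dd k) v) (wGen k).2 || Nat.beq (dlt (dd k) v) ((wGen k).1 ^^^ (wGen k).2)) &&
    ((List.range 64).any fun v => Nat.beq (dlt (dd k) v) (wGen k).1) &&
    (List.range 64).any fun v => Nat.beq (dlt (dd k) v) (wGen k).2) = true := by
  decide +kernel

theorem geo_card : ((List.range 8).all fun k => Nat.beq k 0 || !Nat.beq (mt k k) 0 ||
    (Nat.ble ((List.range 64).filter fun v => fixB (dd k) v).length 16 &&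
      (List.range 8).all fun l => Nat.beq l 0 || Nat.beq l k || !Nat.beq (mt l l) 0 ||
        !Nat.beq (mt k l) (mt l k) ||
        Nat.ble ((List.range 64).filter fun v => fixB (dd k) v && fixB (dd l) v).length 8)) = true := by
  decide +kernel

theorem chain_ok : ([1, 2, 6].all fun a => Nat.beq (mt a a) 0 && (List.range 8).all fun l =>
    !Nat.beq (mt a l) (mt l a) || chB (dd a) (dd l)) = true := by
  decide +kernel

theorem phi_ok : ((List.range 8).all fun k => Nat.beq (phi 2 6 k) k) = true ∧
    ((List.range 8).all fun p => (List.range 8).all fun q =>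
    (!((List.range 8).all fun k => (List.range 8).all fun l =>
      Nat.beq (phi p q (mt k l)) (mt (phi p q k) (phi p q l)) &&
      (!Nat.beq (phi p q k) (phi p q l) || Nat.beq k l))) ||
    [2, 6].all fun k => Nat.beq ((phi p q)^[8] k) k) = true := by
  decide +kernel

theorem srchD_data : cmbOK cmbD [16, 18] = true ∧ fixB (dd 3) 16 = true ∧ fixB (dd 6) 18 = true ∧
    tabOK cmbD id 0 [3] tabD0 = true ∧ tabOK cmbD id 1 [6] tabD1 = true := by
  decide +kernel

theorem srchA_data : cmbOK cmbA [2, 16, 32] = true ∧ fixB (dd 3) 16 = true ∧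
    fixB (dd 2) 32 = true ∧ cmbA.all (fun l => l.all fun t => Nat.blt t.1 4) = true ∧
    tabOK cmbA cycA 0 [] tabA0 = true ∧ tabOK cmbA cycA 1 [1] tabA1 = true ∧
    tabOK cmbA cycA 2 [3] tabA2 = true := by
  decide +kernel

theorem srchB_data : cmbOK cmbB [2, 4, 18] = true ∧ fixB (dd 1) 4 = true ∧
    fixB (dd 6) 18 = true ∧ cmbB.all (fun l => l.all fun t => [0, 1, 6, 7].any (Nat.beq t.1)) = true ∧
    tabOK cmbB cycB 0 [] tabB0 = true ∧ tabOK cmbB cycB 1 [6] tabB1 = true ∧
    tabOK cmbB cycB 2 [7] tabB2 = true := by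
  decide +kernel

theorem srchD : (tabD0.all fun a => tabD1.all fun b => testD (a ^^^ b)) = true := by
  decide +kernel

theorem gaugeA_ok : gaugeA.length = candA.length ∧
    ((candA.zip gaugeA).all fun p => gaugeTo sA p.1 p.2) = true := by
  decide +kernel

theorem gaugeB_ok : gaugeB.length = candB.length ∧
    ((candB.zip gaugeB).all fun p => gaugeTo sB p.1 p.2) = true := by
  decide +kernel

theorem gaugeC_ok : gaugeC.length = candB.length ∧
    ((candB.zip gaugeC).all fun p => caseC p.1 p.2) = true := by
  decide +kernel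

theorem grpD_ok : grpOK [dd 2, dd 6] lstD parD = true := by decide +kernel

theorem grpG1_ok : grpOK [dd 2, dd 6, sA] lstG1 parG1 = true := by decide +kernel

theorem grpG2_ok : grpOK [dd 2, dd 6, sB] lstG2 parG2 = true := by decide +kernel

theorem grpL0_ok : grpOK [dd 2, dd 6, sA, sB] lstL0 parL0 = true := by decide +kernel

theorem invol_G1 : (lstG1.all fun y => !invB y || conjB lstG1 [dd 1, dd 6] y) = true := by
  decide +kernel

theorem invol_G2 : (lstG2.all fun y => !invB y || conjB lstG2 [dd 1, dd 2] y) = true := by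
  decide +kernel

theorem invol_L0 : (lstL0.all fun y => !invB y || conjB lstL0 [dd 1] y) = true := by
  decide +kernel

theorem count_L0 : lstL0.length = 168 ∧ lstL0.Nodup ∧ (lstL0.filter invB).length = 21 := by
  decide +kernel

theorem no21_L0 : (let a := lstL0.filter ord3; let b := lstL0.filter ord7
    a.all fun x => b.all fun y => !Nat.beq (mulC x y) (mulC y x)) = true := by
  decide +kernel

end CfsgLib.M24Quot
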