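import Cfsg.Agent.Lib.M24Quot.Frame
import Cfsg.Agent.Lib.M24Quot.Chain
import Cfsg.Agent.Lib.StrongTwoClasses.Quot

/-!
The abelian subgroup of order 64 is closed under fusion into 2-groups containing it.
-/

set_option autoImplicit false
set_option linter.unusedSectionVars false
set_option linter.style.haveILetI false
set_option maxHeartbeats 1000000

namespace CfsgLib.M24Quot

open Subgroup CfsgLib.StrongTwoClasses

universe u

variable {G : Type u} [Group G] [Finite G]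

theorem beqT {a b : ℕ} (h : a = b) : Nat.beq a b = true := h ▸ Nat.beq_refl a

theorem dlt_lt {c v : ℕ} (hv : v < 64) : dlt c v < 64 :=
  Nat.xor_lt_two_pow (n := 6) (app_lt c v) hv

theorem dlt_xor (c v w : ℕ) : dlt c (v ^^^ w) = dlt c v ^^^ dlt c w := by
  simp only [dlt, app_xor]; ac_rfl

namespace Fr

variable {A : Subgroup G} {S : Sylow 2 G} {E : ℕ → G} (f : Fr A S E)
include f

theorem index_comm {k l : ℕ} (hk : k < 8) (hl : l < 8) {s t : G}
    (hs : ∀ v < 64, s * E v * s⁻¹ = E (app (dd k) v))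
    (ht : ∀ v < 64, t * E v * t⁻¹ = E (app (dd l) v)) (hst : s * t = t * s) :
    mt k l = mt l k :=
  f.index_unique (mt_lt hk hl) (mt_lt hl hk) (f.index_mul hk hl hs ht)
    (fun v hv => by rw [hst]; exact f.index_mul hl hk ht hs v hv)

theorem index_sq {k : ℕ} (hk : k < 8) {s : G}
    (hs : ∀ v < 64, s * E v * s⁻¹ = E (app (dd k) v)) (hss : s * s = 1) : mt k k = 0 :=
  f.index_unique (mt_lt hk hk) (by norm_num) (f.index_mul hk hk hs hs)
    (fun v hv => by rw [hss, app_dd_zero hv]; group)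

theorem cmu_coord {k : ℕ} {s : G} (hs : ∀ v < 64, s * E v * s⁻¹ = E (app (dd k) v)) {v : ℕ}
    (hv : v < 64) : cmu (E v) s = E (dlt (dd k) v) := by
  rw [dlt, f.e_add _ (app_lt _ _) v hv, ← hs v hv, cmu]
  have h1 : s * E v * s⁻¹ ∈ A := by rw [hs v hv]; exact f.e_mem (app_lt _ _)
  rw [f.comm h1 (f.e_mem hv), f.inv_eq (f.e_mem hv)]
  group

end Fr

/-- The index two extension of `A` by `x`. -/
theorem mem_ext {A : Subgroup G} {x : G} (hx2 : x * x = 1)
    (hxn : ∀ a ∈ A, x * a * x⁻¹ ∈ A) {y : G} :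
    y ∈ A ⊔ zpowers x ↔ y ∈ A ∨ ∃ a ∈ A, y = x * a := by
  constructor
  · intro hy
    rw [sup_comm, CfsgLib.Coprime.mem_sup_iff_of_le_normalizer
      (zpowers_le.2 (mem_normalizer_of_forall hxn))] at hy
    obtain ⟨i, hi, a, ha, rfl⟩ := hy
    rcases mem_zpowers_of_sq hx2 hi with rfl | rfl
    · exact Or.inl (by rwa [one_mul])
    · exact Or.inr ⟨a, ha, rfl⟩
  · rintro (h | ⟨a, ha, rfl⟩)
    · exact mem_sup_left h
    · exact mul_mem (mem_sup_right (mem_zpowers x)) (mem_sup_left ha)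

namespace Fr

variable {A : Subgroup G} {S : Sylow 2 G} {E : ℕ → G} (f : Fr A S E)
include f

/-- An involution outside `A` has no conjugate in `A`. -/
theorem not_fused {x : G} (hx : x ∈ (S : Subgroup G)) (hxA : x ∉ A) {a₀ g : G} (ha₀ : a₀ ∈ A)
    (hg : g * a₀ * g⁻¹ = x) : False := by
  classical
  haveI : Fact (Nat.Prime 2) := ⟨Nat.prime_two⟩
  have hx2 : x * x = 1 := by
    calc x * x = g * (a₀ * a₀) * g⁻¹ := by rw [← hg]; group
      _ = 1 := by rw [f.sq ha₀]; group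
  have hxi : x⁻¹ = x := inv_eq_of_mul_eq_one_right hx2
  have xx : ∀ y : G, x * (x * y) = y := fun y => by rw [← mul_assoc, hx2, one_mul]
  obtain ⟨k, hk, hkx, hk0⟩ := f.act x hx
  have hk0' : k ≠ 0 := fun h => hxA (hk0.1 h)
  have hkk : mt k k = 0 := f.index_sq hk hkx hx2
  have hxn : ∀ a ∈ A, x * a * x⁻¹ ∈ A := fun a ha => f.conj_mem hx ha
  have hxn' : ∀ a ∈ A, x * a * x ∈ A := fun a ha => by simpa [hxi] using hxn a ha
  set B := A ⊓ centralizer ({x} : Set G) with hB
  have hBc : ∀ {b : G}, b ∈ B → b * x = x * b := fun hb =>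
    mem_centralizer_singleton_iff.1 hb.2
  set M := A ⊔ zpowers x with hM
  have hMmem : ∀ {y : G}, y ∈ M ↔ y ∈ A ∨ ∃ a ∈ A, y = x * a := mem_ext hx2 hxn
  have hMS : M ≤ (S : Subgroup G) := sup_le f.le (zpowers_le.2 hx)
  have hM2 : IsPGroup 2 M := S.2.to_le hMS
  have hAM : A ≤ M := le_sup_left
  have hxM : x ∈ M := mem_sup_right (mem_zpowers x)
  have hMB : M ≤ centralizer (B : Set G) := by
    refine sup_le (fun a ha => mem_centralizer_iff.2 fun b hb => f.comm hb.1 ha) ?_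
    exact zpowers_le.2 (mem_centralizer_iff.2 fun b hb => hBc hb)
  -- `M` is a maximal 2-subgroup of the centralizer of `B`
  have hMmax : ¬ 2 ∣ M.relIndex (centralizer (B : Set G)) := by
    obtain ⟨T, hMT, hTB, hT, hmax⟩ := exists_twoGroup_ge hM2 hMB
    obtain ⟨S', E', f', hT'⟩ := f.exists_ge hT (hAM.trans hMT)
    suffices T ≤ M by rwa [le_antisymm hMT this]
    intro t ht
    obtain ⟨l, hl, hlt, hl0⟩ := f'.act t (hT' ht)
    obtain ⟨k', hk', hkx', hk0x⟩ := f'.act x (hT' (hMT hxM))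
    have hk'0 : k' ≠ 0 := fun h => hxA (hk0x.1 h)
    have hkk' : mt k' k' = 0 := f'.index_sq hk' hkx' hx2
    have hgeo := geo_fix
    simp only [List.all_eq_true, List.any_eq_true, List.mem_range, Bool.or_eq_true,
      Bool.and_eq_true, Bool.not_eq_true', Nat.beq_eq, fixB] at hgeo
    rcases hgeo k' hk' with (h | h) | h
    · exact absurd h hk'0
    · rw [hkk', Nat.beq_refl] at h; exact Bool.noConfusion h
    · rcases h l hl with (h | h) | ⟨v, hv, h1, h2⟩
      · exact hAM (hl0.1 h)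
      · subst h
        have h3 : x * t ∈ A := by
          obtain ⟨m, hm, hmv, hm0⟩ := f'.act (x * t) (mul_mem (hT' (hMT hxM)) (hT' ht))
          refine hm0.1 ?_
          rw [← hkk']
          exact f'.index_unique hm (mt_lt hk' hk') hmv (f'.index_mul hk' hk' hkx' hlt)
        have : x * (x * t) ∈ M := mul_mem hxM (hAM h3)
        rwa [xx] at this
      · have hvB : E' v ∈ B := by
          refine mem_inf.2 ⟨f'.e_mem hv, mem_centralizer_singleton_iff.2 ?_⟩
          have := hkx' v hv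
          rw [h1, mul_inv_eq_iff_eq_mul] at this
          exact this.symm
        have h4 : t * E' v * t⁻¹ = E' v := by
          rw [← mem_centralizer_iff.1 (hTB ht) _ hvB, mul_inv_cancel_right]
        rw [hlt v hv] at h4
        rw [f'.e_inj _ (app_lt _ _) v hv h4, Nat.beq_refl] at h2
        exact Bool.noConfusion h2
  -- the commutators of `x` with `A`
  have hwB : ∀ a ∈ A, cmu a x ∈ B := by
    intro a ha
    have e : cmu a x = a * (x * a * x) := by rw [cmu, f.inv_eq ha, hxi]; group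
    rw [e]
    refine mem_inf.2 ⟨mul_mem ha (hxn' a ha), mem_centralizer_singleton_iff.2 ?_⟩
    calc a * (x * a * x) * x = a * (x * a) := by simp only [mul_assoc, hx2, mul_one]
      _ = x * (x * a * x * a) := by simp only [mul_assoc, xx]
      _ = x * (a * (x * a * x)) := by rw [f.comm (hxn' a ha) ha]
  have hcx : ∀ a ∈ A, a * x * a⁻¹ = x * cmu a x := fun a ha => by
    rw [← hBc (hwB a ha), cmu, inv_mul_cancel_right]
  -- no element of `A` is fused to `x` inside the centralizer of `B`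
  have hnf : ∀ c ∈ centralizer (B : Set G), ∀ a ∈ A, c * a * c⁻¹ ≠ x := by
    intro c hc a ha hca
    set Y : Set G := {y | ∃ b ∈ B, y = a * b} with hY
    set K := centralizer (B : Set G) ⊓ normalizer Y with hK
    have hcb : ∀ b ∈ B, c * b = b * c := fun b hb => (mem_centralizer_iff.1 hc b hb).symm
    have hMY : M ≤ K := by
      refine le_inf hMB (sup_le (fun a' ha' => mem_setNormalizer ?_)
        (zpowers_le.2 (mem_setNormalizer ?_)))
      · rintro _ ⟨b, hb, rfl⟩
        exact ⟨b, hb, by rw [f.comm ha' (mul_mem ha hb.1), mul_inv_cancel_right]⟩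
      · rintro _ ⟨b, hb, rfl⟩
        refine ⟨cmu a x * b, mul_mem (hwB a ha) hb, ?_⟩
        calc x * (a * b) * x⁻¹ = x * a * (b * x) := by rw [hxi]; group
          _ = a * (a * x * a * x * b) := by
            rw [hBc hb]; simp only [← mul_assoc, f.sq ha, one_mul]
          _ = a * (cmu a x * b) := by rw [cmu, f.inv_eq ha, hxi]
    have hVK : M.map (MulAut.conj c⁻¹).toMonoidHom ≤ K := by
      rintro _ ⟨m, hm, rfl⟩
      simp only [MulEquiv.coe_toMonoidHom, MulAut.conj_apply, inv_inv]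
      refine mem_inf.2 ⟨mul_mem (mul_mem (inv_mem hc) (hMB hm)) hc, mem_setNormalizer ?_⟩
      rintro _ ⟨b, hb, rfl⟩
      have e : c⁻¹ * m * c * (a * b) * (c⁻¹ * m * c)⁻¹ = c⁻¹ * (m * (x * b) * m⁻¹) * c := by
        have : c * (a * b) * c⁻¹ = x * b := by
          calc c * (a * b) * c⁻¹ = (c * a * c⁻¹) * (c * b * c⁻¹) := by group
            _ = x * b := by rw [hca, hcb b hb, mul_inv_cancel_right]
        rw [← this]; group
      rw [e]
      obtain ⟨b', hb', e'⟩ : ∃ b' ∈ B, m * (x * b) * m⁻¹ = x * b' := by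
        rcases hMmem.1 hm with hm | ⟨a', ha', rfl⟩
        · refine ⟨cmu m x * b, mul_mem (hwB m hm) hb, ?_⟩
          calc m * (x * b) * m⁻¹ = (m * x * m⁻¹) * (m * b * m⁻¹) := by group
            _ = x * (cmu m x * b) := by
              rw [hcx m hm, f.comm hm hb.1, mul_inv_cancel_right, mul_assoc]
        · refine ⟨cmu a' x * b, mul_mem (hwB a' ha') hb, ?_⟩
          have hw := mul_mem (hwB a' ha') hb
          calc x * a' * (x * b) * (x * a')⁻¹
              = x * ((a' * x * a'⁻¹) * (a' * b * a'⁻¹)) * x⁻¹ := by group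
            _ = cmu a' x * b * x := by
              rw [hcx a' ha', f.comm ha' hb.1, mul_inv_cancel_right, hxi]; simp only [mul_assoc, xx]
            _ = x * (cmu a' x * b) := hBc hw
      refine ⟨b', hb', ?_⟩
      rw [e']
      calc c⁻¹ * (x * b') * c = c⁻¹ * x * (b' * c) := by group
        _ = c⁻¹ * x * c * b' := by rw [← hcb b' hb']; group
        _ = a * b' := by rw [← hca]; group
    obtain ⟨kk, hkK, hkV⟩ := CfsgLib.Transfer.exists_conj_le_of_isPGroup hM2 hMY
      (fun h => hMmax (h.trans (Dvd.intro _ (relIndex_mul_relIndex _ _ _ hMY inf_le_left))))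
      (hM2.map (MulAut.conj c⁻¹).toMonoidHom) hVK
    set n := kk⁻¹ * c⁻¹ with hn
    have hnM : ∀ m ∈ M, n * m * n⁻¹ ∈ M := fun m hm => by
      have := hkV _ ⟨m, hm, rfl⟩
      simpa [hn, mul_assoc] using this
    have hnA : A.map (MulAut.conj n).toMonoidHom = A := by
      refine f.uniq_of hM2 hAM ?_ ?_ ((card_map_of_injective (MulAut.conj n).injective).trans f.card_eq)
      · rintro _ ⟨m, hm, rfl⟩; exact hnM m (hAM hm)
      · refine ⟨⟨?_⟩⟩
        rintro ⟨_, y, hy, rfl⟩ ⟨_, z, hz, rfl⟩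
        refine Subtype.ext ?_
        show MulAut.conj n y * MulAut.conj n z = MulAut.conj n z * MulAut.conj n y
        rw [← map_mul, f.comm hy hz, map_mul]
    obtain ⟨b, hb, hkb⟩ : ∃ b ∈ B, kk⁻¹ * a * kk = a * b := by
      have := ((inv_mem hkK.2 : kk⁻¹ ∈ normalizer Y) a).1 ⟨1, one_mem _, (mul_one a).symm⟩
      simpa only [inv_inv, hY, Set.mem_ofPred_eq] using this
    have hnx : n * x * n⁻¹ ∈ A := by
      have : n * x * n⁻¹ = kk⁻¹ * a * kk := by rw [hn, ← hca]; group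
      rw [this, hkb]; exact mul_mem ha hb.1
    rw [← hnA] at hnx
    obtain ⟨y, hy, he⟩ := hnx
    obtain rfl : y = x := (MulAut.conj n).injective (by simpa using he)
    exact hxA hy
  -- the group `F` of order 32
  set F := M ⊓ centralizer ({x} : Set G) with hF
  have hFmem : ∀ {y : G}, y ∈ F → y ∈ B ∨ ∃ b ∈ B, y = x * b := by
    intro y hy
    rcases hMmem.1 hy.1 with h | ⟨a, ha, rfl⟩
    · exact Or.inl (mem_inf.2 ⟨h, hy.2⟩)
    · refine Or.inr ⟨a, mem_inf.2 ⟨ha, mem_centralizer_singleton_iff.2 ?_⟩, rfl⟩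
      have := mem_centralizer_singleton_iff.1 hy.2
      rw [mul_assoc] at this
      exact mul_left_cancel this
  have hxF : x ∈ F := mem_inf.2 ⟨hxM, mem_centralizer_singleton_iff.2 rfl⟩
  have hBF : B ≤ F := fun b hb => mem_inf.2 ⟨hAM hb.1, hb.2⟩
  have hFc : ∀ y ∈ F, ∀ z ∈ F, y * z = z * y := by
    have aux : ∀ b ∈ B, ∀ z ∈ F, b * z = z * b := by
      intro b hb z hz
      rcases hFmem hz with h | ⟨b', hb', rfl⟩
      · exact f.comm hb.1 h.1
      · rw [← mul_assoc, hBc hb, mul_assoc, f.comm hb.1 hb'.1, ← mul_assoc]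
    intro y hy z hz
    rcases hFmem hy with h | ⟨b, hb, rfl⟩
    · exact aux y h z hz
    · rw [mul_assoc, aux b hb z hz, ← mul_assoc,
        ← mem_centralizer_singleton_iff.1 hz.2, mul_assoc]
  have hFsq : ∀ y ∈ F, y * y = 1 := by
    intro y hy
    rcases hFmem hy with h | ⟨b, hb, rfl⟩
    · exact f.sq h.1
    · calc x * b * (x * b) = x * (b * x) * b := by group
        _ = 1 := by rw [hBc hb, xx, f.sq hb.1]
  have hF2 : IsPGroup 2 F := hM2.to_le inf_le_left
  have hcentF : ∀ T : Subgroup G, IsPGroup 2 T → T ≤ centralizer (F : Set G) → T ≤ F := by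
    intro T hT hTF
    have hTF' : T ⊔ F ≤ centralizer (F : Set G) :=
      sup_le hTF fun y hy => mem_centralizer_iff.2 fun z hz => hFc z hz y hy
    have hTn : T ≤ normalizer (F : Set G) := fun t ht => mem_normalizer_of_forall fun y hy => by
      rw [← mem_centralizer_iff.1 (hTF ht) y hy, mul_inv_cancel_right]; exact hy
    have hT' : IsPGroup 2 ↥(T ⊔ F) := hT.to_sup_of_normal_right' hF2 hTn
    obtain ⟨c, hc, hcM⟩ := CfsgLib.Transfer.exists_conj_le_of_isPGroup hM2 hMB hMmax hT'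
      (hTF'.trans (centralizer_le hBF))
    have hcb : ∀ b ∈ B, c * b = b * c := fun b hb => (mem_centralizer_iff.1 hc b hb).symm
    have hxT : x ∈ T ⊔ F := mem_sup_right hxF
    obtain ⟨b, hb, hyb⟩ : ∃ b ∈ B, c⁻¹ * x * c = x * b := by
      rcases hMmem.1 (hcM x hxT) with h | ⟨a, ha, e⟩
      · exact absurd (show c * (c⁻¹ * x * c) * c⁻¹ = x by group) (hnf c hc _ h)
      · refine ⟨a, mem_inf.2 ⟨ha, mem_centralizer_singleton_iff.2 ?_⟩, e⟩
        have h1 : x * a * (x * a) = 1 := by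
          rw [← e]; calc c⁻¹ * x * c * (c⁻¹ * x * c) = c⁻¹ * (x * x) * c := by group
            _ = 1 := by rw [hx2]; group
        calc a * x = x * (x * a * (x * a)) * a⁻¹ := by simp only [← mul_assoc, hx2, one_mul]; group
          _ = x * a := by rw [h1, mul_one, f.inv_eq ha]
    intro t ht
    have hm := hcM t (mem_sup_left ht)
    have hcom : (c⁻¹ * t * c) * (x * b) = (x * b) * (c⁻¹ * t * c) := by
      rw [← hyb]
      calc c⁻¹ * t * c * (c⁻¹ * x * c) = c⁻¹ * (t * x) * c := by group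
        _ = c⁻¹ * (x * t) * c := by rw [mem_centralizer_iff.1 (hTF ht) x hxF]
        _ = _ := by group
    have hAx : ∀ a ∈ A, a * (x * b) = (x * b) * a → a ∈ B := fun a ha h =>
      mem_inf.2 ⟨ha, mem_centralizer_singleton_iff.2 (by
        rw [mul_assoc x, f.comm hb.1 ha, ← mul_assoc, ← mul_assoc] at h
        exact mul_right_cancel h)⟩
    rcases hMmem.1 hm with h | ⟨a, ha, e⟩
    · have := hAx _ h hcom
      have e2 : t = c⁻¹ * t * c := by
        have h2 := hcb _ this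
        calc t = c * (c⁻¹ * t * c) * c⁻¹ := by group
          _ = c⁻¹ * t * c * c * c⁻¹ := by rw [h2]
          _ = _ := by group
      rw [e2]; exact hBF this
    · have haB : a ∈ B := by
        refine hAx a ha ?_
        rw [e] at hcom
        have h3 : x * b = b * x := (hBc hb).symm
        calc a * (x * b) = x * (x * a * (x * b)) := by simp only [mul_assoc, xx]
          _ = x * (x * b * (x * a)) := by rw [hcom]
          _ = (x * b) * a := by
            rw [show x * b * (x * a) = x * (b * x) * a by group, hBc hb, xx, ← mul_assoc]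
      have e3 : c * x * c⁻¹ = x * b := by
        have h2 : c * (x * b) * c⁻¹ = x := by rw [← hyb]; group
        calc c * x * c⁻¹ = (c * (x * b) * c⁻¹) * (c * b⁻¹ * c⁻¹) := by group
          _ = x * b := by rw [h2, f.inv_eq hb.1, hcb b hb, mul_inv_cancel_right]
      have e4 : t = x * (b * a) := by
        calc t = c * (c⁻¹ * t * c) * c⁻¹ := by group
          _ = (c * x * c⁻¹) * (c * a * c⁻¹) := by rw [e]; group
          _ = _ := by rw [e3, hcb a haB, mul_inv_cancel_right, mul_assoc]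
      rw [e4]; exact mul_mem hxF (hBF (mul_mem hb haB))
  -- a conjugate of `A` containing `x`, normalised by `F`
  obtain ⟨A₁, S₁, E₁, f₁, P, hP, hA₁P, hFP, hxA₁, hFS, g₁, hg₁⟩ :
      ∃ (A₁ : Subgroup G) (S₁ : Sylow 2 G) (E₁ : ℕ → G), Fr A₁ S₁ E₁ ∧
        ∃ P : Subgroup G, IsPGroup 2 P ∧ A₁ ≤ P ∧ F ≤ P ∧ x ∈ A₁ ∧ F ≤ (S₁ : Subgroup G) ∧
        ∃ g₁ : G, A₁ = A.map (MulAut.conj g₁).toMonoidHom := by
    obtain ⟨P, hFP, hPC, hP, hPmax⟩ := exists_twoGroup_ge hF2 (inf_le_right : F ≤ centralizer {x})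
    have hVC : A.map (MulAut.conj g).toMonoidHom ≤ centralizer ({x} : Set G) := by
      rintro _ ⟨a, ha, rfl⟩
      rw [mem_centralizer_singleton_iff, ← hg]
      show g * a * g⁻¹ * (g * a₀ * g⁻¹) = g * a₀ * g⁻¹ * (g * a * g⁻¹)
      calc g * a * g⁻¹ * (g * a₀ * g⁻¹) = g * (a * a₀) * g⁻¹ := by group
        _ = g * (a₀ * a) * g⁻¹ := by rw [f.comm ha ha₀]
        _ = _ := by group
    obtain ⟨c, hc, hcP⟩ :=
      CfsgLib.Transfer.exists_conj_le_of_isPGroup hP hPC hPmax (f.isPGroup.map _) hVC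
    have hle : A.map (MulAut.conj (c⁻¹ * g)).toMonoidHom ≤ P := by
      rintro _ ⟨a, ha, rfl⟩
      have := hcP _ ⟨a, ha, rfl⟩
      simpa [mul_assoc] using this
    obtain ⟨S₁, E₁, f₁, hPS⟩ := (f.conj (c⁻¹ * g)).exists_ge hP hle
    refine ⟨_, S₁, E₁, f₁, P, hP, hle, hFP, ?_, hFP.trans hPS, c⁻¹ * g, rfl⟩
    refine ⟨a₀, ha₀, ?_⟩
    show c⁻¹ * g * a₀ * (c⁻¹ * g)⁻¹ = x
    calc c⁻¹ * g * a₀ * (c⁻¹ * g)⁻¹ = c⁻¹ * (g * a₀ * g⁻¹) * c := by group
      _ = x := by rw [hg, mul_assoc, ← mem_centralizer_singleton_iff.1 hc, inv_mul_cancel_left]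
  -- commutators of `A₁` with `F`
  have hcm1 : ∀ a ∈ A₁, ∀ e ∈ F, cmu a e ∈ A₁ ⊓ F := by
    intro a ha e he
    have h1 : cmu a e ∈ A₁ := by
      have h2 := mul_mem ha (f₁.conj_mem (hFS he) (inv_mem ha))
      simpa [cmu, mul_assoc] using h2
    refine mem_inf.2 ⟨h1, ?_⟩
    refine hcentF (P ⊓ centralizer (F : Set G)) (hP.to_le inf_le_left) inf_le_right
      (mem_inf.2 ⟨hA₁P h1, mem_centralizer_iff.2 fun e' he' => ?_⟩)
    obtain ⟨v, hv, rfl⟩ := (f₁.e_range _).1 ha
    obtain ⟨i, hi, hie, -⟩ := f₁.act e (hFS he)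
    obtain ⟨j, hj, hje, -⟩ := f₁.act e' (hFS he')
    rw [f₁.cmu_coord hie hv]
    have hgeo := geo_cent
    simp only [List.all_eq_true, List.mem_range, Bool.or_eq_true, Bool.not_eq_true',
      Nat.beq_eq, fixB] at hgeo
    rcases hgeo i hi with h | h
    · rw [f₁.index_sq hi hie (hFsq e he), Nat.beq_refl] at h; exact Bool.noConfusion h
    rcases h j hj with h | h
    · rw [f₁.index_comm hi hj hie hje (hFc e he e' he'), Nat.beq_refl] at h
      exact Bool.noConfusion h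
    have h4 := hje _ (dlt_lt (c := dd i) hv)
    rw [h v hv, mul_inv_eq_iff_eq_mul] at h4
    exact h4
  -- the commutator subgroup of `A` with `x`
  have hWmul : ∀ a ∈ A, ∀ b ∈ A, cmu (a * b) x = cmu a x * cmu b x := by
    intro a ha b hb
    rw [cmu_mul, f.comm ha (hwB b hb).1, mul_inv_cancel_right,
      f.comm (hwB b hb).1 (hwB a ha).1]
  let W : Subgroup G :=
    { carrier := {w | ∃ a ∈ A, w = cmu a x}
      one_mem' := ⟨1, one_mem _, by simp [cmu]⟩
      mul_mem' := by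
        rintro _ _ ⟨a, ha, rfl⟩ ⟨b, hb, rfl⟩
        exact ⟨a * b, mul_mem ha hb, (hWmul a ha b hb).symm⟩
      inv_mem' := by
        rintro _ ⟨a, ha, rfl⟩
        exact ⟨a, ha, f.inv_eq (hwB a ha).1⟩ }
  have hWB : W ≤ B := by rintro _ ⟨a, ha, rfl⟩; exact hwB a ha
  have hAF : ∀ a ∈ A, ∀ e ∈ F, cmu a e ∈ W := by
    intro a ha e he
    rcases hFmem he with h | ⟨b, hb, rfl⟩
    · rw [cmu, f.comm ha h.1, mul_inv_cancel_right, mul_inv_cancel]; exact one_mem W
    · refine ⟨a, ha, ?_⟩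
      calc cmu a (x * b) = (a * x * a⁻¹) * (a * b * a⁻¹) * b⁻¹ * x⁻¹ := by unfold cmu; group
        _ = cmu a x := by rw [f.comm ha hb.1, mul_inv_cancel_right, cmu]; group
  have hAB : ∀ a ∈ A, ∀ e ∈ B, cmu a e = 1 := fun a ha e he => by
    rw [cmu, f.comm ha he.1, mul_inv_cancel_right, mul_inv_cancel]
  set K := B ⊓ A₁ with hK
  -- the consequence of a series
  have key : ∀ L₁ L₂ L₃ : Subgroup G, L₁ ≤ L₂ → L₂ ≤ L₃ → L₃ ≤ F → L₁ ≤ B → L₂ ≤ B ⊔ zpowers x →
      ∀ n : G, ((∀ e ∈ F, cmu n e ∈ L₃) ∧ (∀ e ∈ L₃, cmu n e ∈ L₂) ∧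
        (∀ e ∈ L₂, cmu n e ∈ L₁) ∧ ∀ e ∈ L₁, cmu n e = 1) →
      (∀ a ∈ A, (∀ e ∈ F, cmu a e ∈ L₃) ∧ (∀ e ∈ L₃, cmu a e ∈ L₂) ∧
        (∀ e ∈ L₂, cmu a e ∈ L₁) ∧ ∀ e ∈ L₁, cmu a e = 1) →
      ∃ N : Subgroup G, A ≤ N ∧ n ∈ N ∧
        (∀ y, y ∈ N ↔ (∀ e ∈ F, cmu y e ∈ L₃) ∧ (∀ e ∈ L₃, cmu y e ∈ L₂) ∧
          (∀ e ∈ L₂, cmu y e ∈ L₁) ∧ ∀ e ∈ L₁, cmu y e = 1) ∧
        ∃ T : Subgroup G, A ≤ T ∧ IsPGroup 2 T ∧ T ≤ N ∧ ¬ 2 ∣ T.relIndex N ∧
          (∀ y ∈ N, ∃ t ∈ T, ∃ c ∈ centralizer (F : Set G), y = t * c) ∧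
          ∀ w ∈ W, n * w * n⁻¹ = w := by
    intro L₁ L₂ L₃ h12 h23 h3 _ _ n hn hA
    obtain ⟨N, hN⟩ := exists_chain F L₁ L₂ L₃ h12 h23 h3
    have hNF : N ≤ normalizer (F : Set G) := fun y hy => mem_normalizer_of_forall fun e he => by
      rw [conj_eq]; exact mul_mem (h3 (((hN y).1 hy).1 e he)) he
    have hAN : A ≤ N := fun a ha => (hN a).2 (hA a ha)
    obtain ⟨T, hAT, hTN, hT, hTmax, hdec⟩ := two_image f.isPGroup hAN hNF
      (fun y hy => chain_pow_four h12 h23 h3 hFsq ((hN y).1 hy))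
    refine ⟨N, hAN, (hN n).2 hn, hN, T, hAT, hT, hTN, hTmax, hdec, ?_⟩
    obtain ⟨t, ht, c, hc, rfl⟩ := hdec n ((hN n).2 hn)
    intro w hw
    have h1 : c * w * c⁻¹ = w := by
      rw [← mem_centralizer_iff.1 hc w (hBF (hWB hw)), mul_inv_cancel_right]
    have e : t * c * w * (t * c)⁻¹ = t * (c * w * c⁻¹) * t⁻¹ := by group
    rw [e, h1]
    have htA : t ∈ normalizer (A : Set G) := f.le_normalizer hT hAT ht
    obtain ⟨b, hb, htx⟩ : ∃ b ∈ B, t * x * t⁻¹ = x * b := by
      rcases hFmem ((mem_normalizer_iff.1 (hNF (hTN ht)) x).1 hxF) with h | h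
      · exact absurd ((mem_normalizer_iff.1 htA x).2 h.1) hxA
      · exact h
    have htn : T ⊔ F ≤ normalizer (A : Set G) := by
      refine sup_le (fun t ht => f.le_normalizer hT hAT ht) fun e he => ?_
      exact mem_normalizer_of_forall fun a ha => f.conj_mem (hMS he.1) ha
    have hTF : IsPGroup 2 ↥(T ⊔ F) :=
      hT.to_sup_of_normal_right' hF2 (hTN.trans hNF)
    obtain ⟨S₂, E₂, f₂, hS₂⟩ := f.exists_ge hTF (hAT.trans le_sup_left)
    obtain ⟨l, hl, hlt, -⟩ := f₂.act t (hS₂ (mem_sup_left ht))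
    obtain ⟨j, hj, hjx, -⟩ := f₂.act x (hS₂ (mem_sup_right hxF))
    have hxb : ∀ v < 64, (x * b) * E₂ v * (x * b)⁻¹ = E₂ (app (dd j) v) := fun v hv => by
      rw [← hjx v hv]
      calc x * b * E₂ v * (x * b)⁻¹ = x * (b * E₂ v * b⁻¹) * x⁻¹ := by group
        _ = x * E₂ v * x⁻¹ := by rw [f.comm hb.1 (f₂.e_mem hv), mul_inv_cancel_right]
    have hcomm : mt l j = mt j l := f₂.index_unique (mt_lt hl hj) (mt_lt hj hl)
      (f₂.index_mul hl hj hlt hjx) (fun v hv => by
        have : t * x = x * b * t := by rw [← htx, inv_mul_cancel_right]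
        rw [this]; exact f₂.index_mul hj hl hxb hlt v hv)
    obtain ⟨a, ha, rfl⟩ := hw
    obtain ⟨v, hv, rfl⟩ := (f₂.e_range _).1 ha
    rw [f₂.cmu_coord hjx hv, hlt _ (dlt_lt hv)]
    have hgeo := geo_cent
    simp only [List.all_eq_true, List.mem_range, Bool.or_eq_true, Bool.not_eq_true',
      Nat.beq_eq, fixB] at hgeo
    rcases hgeo j hj with h | h
    · rw [f₂.index_sq hj hjx hx2, Nat.beq_refl] at h; exact Bool.noConfusion h
    rcases h l hl with h | h
    · rw [hcomm, Nat.beq_refl] at h; exact Bool.noConfusion h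
    rw [h v hv]
  by_cases hW : W ≤ A₁
  · -- all of `A₁` stabilises a series together with `A`
    set L₂ := A₁ ⊓ F with hL₂
    have hWK : W ≤ K := le_inf hWB hW
    have hKL : K ≤ L₂ := le_inf inf_le_right (inf_le_left.trans hBF)
    have hL2B : L₂ ≤ B ⊔ zpowers x := fun e he => by
      rcases hFmem he.2 with h | ⟨b, hb, rfl⟩
      · exact mem_sup_left h
      · exact mul_mem (mem_sup_right (mem_zpowers x)) (mem_sup_left hb)
    have hA₁1 : ∀ a ∈ A₁, ∀ e ∈ L₂, cmu a e = 1 := fun a ha e he => by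
      rw [cmu, f₁.comm ha he.1, mul_inv_cancel_right, mul_inv_cancel]
    obtain ⟨N, hAN, -, hN, T, hAT, hT, hTN, hTmax, hdec, -⟩ := key K L₂ L₂ hKL le_rfl inf_le_right
      inf_le_left hL2B 1
      (by simp [cmu])
      (fun a ha => ⟨fun e he => hKL (hWK (hAF a ha e he)),
        fun e he => hKL (hWK (hAF a ha e he.2)), fun e he => hWK (hAF a ha e he.2),
        fun e he => hAB a ha e he.1⟩)
    have hA₁N : A₁ ≤ N := fun a ha => (hN a).2
      ⟨fun e he => hcm1 a ha e he, fun e he => by rw [hA₁1 a ha e he]; exact one_mem L₂,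
        fun e he => by rw [hA₁1 a ha e he]; exact one_mem K, fun e he => hA₁1 a ha e (hKL he)⟩
    obtain ⟨n, hn, hnT⟩ :=
      CfsgLib.Transfer.exists_conj_le_of_isPGroup hT hTN hTmax f₁.isPGroup hA₁N
    have hnA : A₁.map (MulAut.conj n⁻¹).toMonoidHom = A := by
      refine f.uniq_of hT hAT ?_ ?_
        ((card_map_of_injective (MulAut.conj n⁻¹).injective).trans f₁.card_eq)
      · rintro _ ⟨a, ha, rfl⟩
        simpa [mul_assoc] using hnT a ha
      · refine ⟨⟨?_⟩⟩
        rintro ⟨_, y, hy, rfl⟩ ⟨_, z, hz, rfl⟩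
        refine Subtype.ext ?_
        show MulAut.conj n⁻¹ y * MulAut.conj n⁻¹ z = MulAut.conj n⁻¹ z * MulAut.conj n⁻¹ y
        rw [← map_mul, f₁.comm hy hz, map_mul]
    obtain ⟨t, ht, c, hc, hnc⟩ := hdec n⁻¹ (inv_mem hn)
    have hmem : n⁻¹ * x * n ∈ A := by
      rw [← hnA]; exact ⟨x, hxA₁, by simp⟩
    have e : n⁻¹ * x * n = t * x * t⁻¹ := by
      calc n⁻¹ * x * n = n⁻¹ * x * n⁻¹⁻¹ := by group
        _ = t * (c * x * c⁻¹) * t⁻¹ := by rw [hnc]; group
        _ = _ := by rw [← mem_centralizer_iff.1 hc x hxF, mul_inv_cancel_right]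
    rw [e] at hmem
    exact hxA ((mem_normalizer_iff.1 (f.le_normalizer hT hAT ht) x).2 hmem)
  · -- an element of `A₁` moving `W` into `B` stabilises a series together with `A`
    obtain ⟨w₁, hw₁, w₂, hw₂, hWgen⟩ : ∃ w₁ ∈ W, ∃ w₂ ∈ W, ∀ w ∈ W,
        w = 1 ∨ w = w₁ ∨ w = w₂ ∨ w = w₁ * w₂ := by
      have hgeo := geo_img
      simp only [List.all_eq_true, List.any_eq_true, List.mem_range, Bool.or_eq_true,
        Bool.and_eq_true, Bool.not_eq_true', Nat.beq_eq] at hgeo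
      rcases hgeo k hk with h | ⟨⟨h1, v₁, hv₁, e₁⟩, v₂, hv₂, e₂⟩
      · rw [hkk, Nat.beq_refl] at h; exact Bool.noConfusion h
      refine ⟨_, ⟨E v₁, f.e_mem hv₁, rfl⟩, _, ⟨E v₂, f.e_mem hv₂, rfl⟩, ?_⟩
      rw [f.cmu_coord hkx hv₁, f.cmu_coord hkx hv₂, e₁, e₂]
      rintro _ ⟨a, ha, rfl⟩
      obtain ⟨v, hv, rfl⟩ := (f.e_range _).1 ha
      rw [f.cmu_coord hkx hv]
      have hl₁ : (wGen k).1 < 64 := e₁ ▸ dlt_lt hv₁
      have hl₂ : (wGen k).2 < 64 := e₂ ▸ dlt_lt hv₂
      rcases h1 v hv with ((h | h) | h) | h <;> rw [h]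
      · exact Or.inl f.e_zero
      · exact Or.inr (Or.inl rfl)
      · exact Or.inr (Or.inr (Or.inl rfl))
      · exact Or.inr (Or.inr (Or.inr (f.e_add _ hl₁ _ hl₂)))
    obtain ⟨wa, hwa, wb, hwb, hgen, hwaA⟩ : ∃ wa ∈ W, ∃ wb ∈ W,
        (∀ w ∈ W, w = 1 ∨ w = wa ∨ w = wb ∨ w = wa * wb) ∧ wa ∉ A₁ := by
      by_cases h1 : w₁ ∈ A₁
      · refine ⟨w₂, hw₂, w₁, hw₁, fun w hw => ?_, fun h2 => hW fun w hw => ?_⟩
        · have := hWgen w hw
          rw [f.comm (hWB hw₂).1 (hWB hw₁).1]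
          tauto
        · rcases hWgen w hw with rfl | rfl | rfl | rfl
          exacts [one_mem _, h1, h2, mul_mem h1 h2]
      · exact ⟨w₁, hw₁, w₂, hw₂, hWgen, h1⟩
    obtain ⟨i, hi, hia, hi0⟩ := f₁.act wa (hFS (hBF (hWB hwa)))
    obtain ⟨j, hj, hjb, -⟩ := f₁.act wb (hFS (hBF (hWB hwb)))
    have hi0' : i ≠ 0 := fun h => hwaA (hi0.1 h)
    have hii := f₁.index_sq hi hia (hFsq _ (hBF (hWB hwa)))
    have hjj := f₁.index_sq hj hjb (hFsq _ (hBF (hWB hwb)))
    have hij := f₁.index_comm hi hj hia hjb (hFc _ (hBF (hWB hwa)) _ (hBF (hWB hwb)))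
    have hcard := geo_card
    simp only [List.all_eq_true, List.mem_range, Bool.or_eq_true, Bool.and_eq_true,
      Bool.not_eq_true', Nat.beq_eq, Nat.ble_eq] at hcard
    have hc16 : ((List.range 64).filter fun v => fixB (dd i) v).length ≤ 16 ∧
        ((j = 0 ∨ j = i) ∨
          ((List.range 64).filter fun v => fixB (dd i) v && fixB (dd j) v).length ≤ 8) := by
      rcases hcard i hi with (h | h) | ⟨h16, h8⟩
      · exact absurd h hi0'
      · rw [hii, Nat.beq_refl] at h; exact Bool.noConfusion h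
      refine ⟨h16, ?_⟩
      rcases h8 j hj with (((h | h) | h) | h) | h
      · exact Or.inl (Or.inl h)
      · exact Or.inl (Or.inr h)
      · rw [hjj, Nat.beq_refl] at h; exact Bool.noConfusion h
      · rw [hij, Nat.beq_refl] at h; exact Bool.noConfusion h
      · exact Or.inr h
    have hBdiff : ∀ y z : G, y ∈ F → z ∈ F → (y ∈ B ↔ z ∈ B) → y * z ∈ B := by
      intro y z hy hz h
      by_cases hyB : y ∈ B
      · exact mul_mem hyB (h.1 hyB)
      · rcases hFmem hy with h1 | ⟨b, hb, rfl⟩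
        · exact absurd h1 hyB
        rcases hFmem hz with h1 | ⟨b', hb', rfl⟩
        · exact absurd (h.2 h1) hyB
        have : x * b * (x * b') = b * b' := by
          rw [show x * b * (x * b') = x * (b * x) * b' by group, hBc hb, xx]
        rw [this]; exact mul_mem hb hb'
    have hmemF : ∀ {l : ℕ} {w : G}, w ∈ F →
        (∀ v < 64, w * E₁ v * w⁻¹ = E₁ (app (dd l) v)) →
        ∀ v < 64, E₁ (dlt (dd l) v) ∈ F := fun hw hl v hv => by
      rw [← f₁.cmu_coord hl hv]; exact (hcm1 _ (f₁.e_mem hv) _ hw).2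
    let χa : ℕ → Bool := fun v => decide (E₁ (dlt (dd i) v) ∈ B)
    let χb : ℕ → Bool := fun v => decide (E₁ (dlt (dd j) v) ∈ B)
    have hdiff : ∀ {l : ℕ} {w : G}, w ∈ F →
        (∀ v < 64, w * E₁ v * w⁻¹ = E₁ (app (dd l) v)) → ∀ v < 64, ∀ v' < 64,
        decide (E₁ (dlt (dd l) v) ∈ B) = decide (E₁ (dlt (dd l) v') ∈ B) →
        E₁ (dlt (dd l) (v ^^^ v')) ∈ B := fun hw hl v hv v' hv' h => by
      rw [dlt_xor, f₁.e_add _ (dlt_lt hv) _ (dlt_lt hv')]
      exact hBdiff _ _ (hmemF hw hl v hv) (hmemF hw hl v' hv') (by simpa using h)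
    obtain ⟨v, hv, hva, hvb, hvne⟩ : ∃ v < 64, E₁ (dlt (dd i) v) ∈ B ∧ E₁ (dlt (dd j) v) ∈ B ∧
        (app (dd i) v ≠ v ∨ app (dd j) v ≠ v) := by
      by_contra hno
      push Not at hno
      rcases hc16 with ⟨h16, hji | h8⟩
      · have hb' : ∀ v < 64, E₁ (dlt (dd i) v) ∈ B → E₁ (dlt (dd j) v) ∈ B := fun v hv h => by
          rcases hji with rfl | rfl
          · rw [dlt, app_dd_zero hv, Nat.xor_self, f₁.e_zero]; exact one_mem B
          · exact h
        obtain ⟨β, -, hβ⟩ := Finset.exists_lt_card_fiber_of_mul_lt_card_of_maps_to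
          (s := Finset.range 64) (t := (Finset.univ : Finset Bool)) (f := χa) (n := 16)
          (fun _ _ => Finset.mem_univ _) (by simp)
        obtain ⟨v₀, hv₀⟩ := Finset.card_pos.1 (by omega : 0 < ((Finset.range 64).filter
          fun v => χa v = β).card)
        simp only [Finset.mem_filter, Finset.mem_range] at hv₀
        have hsub : ((Finset.range 64).filter fun v => χa v = β).card ≤ 16 := by
          refine le_trans (Finset.card_le_card_of_injOn (fun v => v ^^^ v₀) (fun v hv => ?_)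
            (fun v _ w _ h => ?_)) (le_trans (List.toFinset_card_le _) h16)
          · simp only [Finset.coe_filter, Finset.mem_range, Set.mem_ofPred_eq] at hv
            simp only [List.coe_toFinset, Set.mem_ofPred_eq, List.mem_filter, List.mem_range]
            have hlt : v ^^^ v₀ < 64 := Nat.xor_lt_two_pow (n := 6) hv.1 hv₀.1
            have h1 := hdiff (hBF (hWB hwa)) hia v hv.1 v₀ hv₀.1 (hv.2.trans hv₀.2.symm)
            exact ⟨hlt, beqT ((hno _ hlt h1 (hb' _ hlt h1)).1)⟩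
          · have := congrArg (· ^^^ v₀) h
            simpa [Nat.xor_assoc] using this
        omega
      · obtain ⟨β, -, hβ⟩ := Finset.exists_lt_card_fiber_of_mul_lt_card_of_maps_to
          (s := Finset.range 64) (t := (Finset.univ : Finset (Bool × Bool)))
          (f := fun v => (χa v, χb v)) (n := 8) (fun _ _ => Finset.mem_univ _) (by simp)
        obtain ⟨v₀, hv₀⟩ := Finset.card_pos.1 (by omega : 0 < ((Finset.range 64).filter
          fun v => (χa v, χb v) = β).card)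
        simp only [Finset.mem_filter, Finset.mem_range] at hv₀
        have hsub : ((Finset.range 64).filter fun v => (χa v, χb v) = β).card ≤ 8 := by
          refine le_trans (Finset.card_le_card_of_injOn (fun v => v ^^^ v₀) (fun v hv => ?_)
            (fun v _ w _ h => ?_)) (le_trans (List.toFinset_card_le _) h8)
          · simp only [Finset.coe_filter, Finset.mem_range, Set.mem_ofPred_eq] at hv
            simp only [List.coe_toFinset, Set.mem_ofPred_eq, List.mem_filter, List.mem_range,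
              Bool.and_eq_true]
            have hlt : v ^^^ v₀ < 64 := Nat.xor_lt_two_pow (n := 6) hv.1 hv₀.1
            have h0 := hv.2.trans hv₀.2.symm
            have h1 := hdiff (hBF (hWB hwa)) hia v hv.1 v₀ hv₀.1 (congrArg Prod.fst h0)
            have h2 := hdiff (hBF (hWB hwb)) hjb v hv.1 v₀ hv₀.1 (congrArg Prod.snd h0)
            exact ⟨hlt, beqT (hno _ hlt h1 h2).1, beqT (hno _ hlt h1 h2).2⟩
          · have := congrArg (· ^^^ v₀) h
            simpa [Nat.xor_assoc] using this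
        omega
    set a := E₁ v with hadef
    have ha : a ∈ A₁ := f₁.e_mem hv
    have hca : cmu a wa ∈ B := by rw [f₁.cmu_coord hia hv]; exact hva
    have hcb : cmu a wb ∈ B := by rw [f₁.cmu_coord hjb hv]; exact hvb
    have hmul : ∀ y z : G, y ∈ F → z ∈ F → cmu a (y * z) = cmu a y * cmu a z := by
      intro y z hy hz
      have h1 : cmu a z ∈ F := (hcm1 a ha z hz).2
      calc cmu a (y * z) = cmu a y * (y * cmu a z * y⁻¹) := by unfold cmu; group
        _ = _ := by rw [hFc y hy _ h1, mul_inv_cancel_right]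
    have hKc : ∀ e ∈ A₁, cmu a e = 1 := fun e he => by
      rw [cmu, f₁.comm ha he, mul_inv_cancel_right, mul_inv_cancel]
    -- the set of elements of `F` with commutator in a subgroup
    have hsub : ∀ L : Subgroup G, ∃ D : Subgroup G, ∀ e, e ∈ D ↔ e ∈ F ∧ cmu a e ∈ L := by
      intro L
      refine ⟨
        { carrier := {e | e ∈ F ∧ cmu a e ∈ L}
          one_mem' := ?_
          mul_mem' := ?_
          inv_mem' := ?_ }, fun e => Iff.rfl⟩
      · rintro y z ⟨hy, hy'⟩ ⟨hz, hz'⟩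
        exact ⟨mul_mem hy hz, by rw [hmul y z hy hz]; exact mul_mem hy' hz'⟩
      · exact ⟨one_mem _, by simp [cmu]⟩
      · rintro y ⟨hy, hy'⟩
        rw [Set.mem_ofPred_eq, inv_eq_of_mul_eq_one_right (hFsq y hy)]
        exact ⟨hy, hy'⟩
    set L₂ := K ⊔ W with hL₂
    set L₃ := L₂ ⊔ (A₁ ⊓ F) with hL₃
    have hKF : K ≤ F := inf_le_left.trans hBF
    have hL2B : L₂ ≤ B := sup_le inf_le_left hWB
    have hL3F : L₃ ≤ F := sup_le (hL2B.trans hBF) inf_le_right
    have haW : ∀ w ∈ W, cmu a w ∈ K := by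
      intro w hw
      have h1 : cmu a wa ∈ K := mem_inf.2 ⟨hca, (hcm1 a ha wa (hBF (hWB hwa))).1⟩
      have h2 : cmu a wb ∈ K := mem_inf.2 ⟨hcb, (hcm1 a ha wb (hBF (hWB hwb))).1⟩
      rcases hgen w hw with rfl | rfl | rfl | rfl
      · simp [cmu]
      · exact h1
      · exact h2
      · rw [hmul _ _ (hBF (hWB hwa)) (hBF (hWB hwb))]; exact mul_mem h1 h2
    have ha2 : ∀ e ∈ L₂, cmu a e ∈ K := by
      obtain ⟨D, hD⟩ := hsub K
      have : L₂ ≤ D := sup_le (fun e he => (hD e).2 ⟨hKF he, by rw [hKc e he.2]; exact one_mem K⟩)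
        (fun e he => (hD e).2 ⟨hBF (hWB he), haW e he⟩)
      exact fun e he => ((hD e).1 (this he)).2
    have ha3 : ∀ e ∈ L₃, cmu a e ∈ L₂ := by
      obtain ⟨D, hD⟩ := hsub L₂
      have : L₃ ≤ D := sup_le
        (fun e he => (hD e).2 ⟨hBF (hL2B he), mem_sup_left (ha2 e he)⟩)
        (fun e he => (hD e).2 ⟨he.2, by rw [hKc e he.1]; exact one_mem L₂⟩)
      exact fun e he => ((hD e).1 (this he)).2
    obtain ⟨N, -, -, -, T, -, -, -, -, -, hfix⟩ := key K L₂ L₃ le_sup_left le_sup_left hL3F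
      inf_le_left (hL2B.trans le_sup_left) a
      ⟨fun e he => mem_sup_right (hcm1 a ha e he), ha3, ha2, fun e he => hKc e he.2⟩
      (fun a' ha' => ⟨fun e he => mem_sup_left (mem_sup_right (hAF a' ha' e he)),
        fun e he => mem_sup_right (hAF a' ha' e (hL3F he)),
        fun e he => by rw [hAB a' ha' e (hL2B he)]; exact one_mem K,
        fun e he => hAB a' ha' e he.1⟩)
    have hfix' : ∀ {l : ℕ} {w : G}, w ∈ W →
        (∀ v < 64, w * E₁ v * w⁻¹ = E₁ (app (dd l) v)) → app (dd l) v = v := by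
      intro l w hw hl
      refine f₁.e_inj _ (app_lt _ _) v hv ?_
      have h1 : a * w = w * a := mul_inv_eq_iff_eq_mul.1 (hfix w hw)
      rw [← hl v hv, ← hadef, ← h1, mul_inv_cancel_right]
    rcases hvne with h | h
    · exact h (hfix' hwa hia)
    · exact h (hfix' hwb hjb)

/-- `A` is closed. -/
theorem closed : ClosedTwo A := by
  intro P hP hAP a ha g hga
  by_contra hx
  obtain ⟨S', E', f', hP'⟩ := f.exists_ge hP hAP
  exact f'.not_fused (hP' hga) hx ha rfl

end Fr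

end CfsgLib.M24Quot
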