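import Mathlib

/-!
Linear maps of a six-dimensional binary space, coded by numbers (six bits per column), and the
decidable recursion used for groups with a closed elementary abelian 2-subgroup.
-/

set_option autoImplicit false

namespace CfsgLib.M24Quot

/-- column `j`, if bit `j` of `v` is set -/
def sel (c v j : ℕ) : ℕ := if v.testBit j then (c >>> (6 * j)) &&& 63 else 0

/-- image of a vector -/
def app (c v : ℕ) : ℕ :=
  sel c v 0 ^^^ sel c v 1 ^^^ sel c v 2 ^^^ sel c v 3 ^^^ sel c v 4 ^^^ sel c v 5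

/-- code of a map with given columns -/
def mk (f : ℕ → ℕ) : ℕ :=
  f 1 + 64 * (f 2 + 64 * (f 4 + 64 * (f 8 + 64 * (f 16 + 64 * f 32))))

/-- composition -/
def mulC (a b : ℕ) : ℕ := mk fun v => app a (app b v)

/-- the identity -/
def idC : ℕ := mk id

theorem sel_xor (c v w j : ℕ) : sel c (v ^^^ w) j = sel c v j ^^^ sel c w j := by
  unfold sel
  rw [Nat.testBit_xor]
  cases v.testBit j <;> cases w.testBit j <;> simp

theorem app_xor (c v w : ℕ) : app c (v ^^^ w) = app c v ^^^ app c w := by
  simp only [app, sel_xor]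
  ac_rfl

theorem sel_lt (c v j : ℕ) : sel c v j < 2 ^ 6 := by
  unfold sel
  split
  · exact Nat.and_lt_two_pow _ (by norm_num)
  · norm_num

theorem app_lt (c v : ℕ) : app c v < 64 :=
  Nat.xor_lt_two_pow (Nat.xor_lt_two_pow (Nat.xor_lt_two_pow (Nat.xor_lt_two_pow
    (Nat.xor_lt_two_pow (sel_lt _ _ _) (sel_lt _ _ _)) (sel_lt _ _ _)) (sel_lt _ _ _))
    (sel_lt _ _ _)) (sel_lt _ _ _)

theorem app_zero (c : ℕ) : app c 0 = 0 := by simp [app, sel]

theorem bits_eq : ∀ v < 64, v =
    (if v.testBit 0 then 1 else 0) ^^^ (if v.testBit 1 then 2 else 0) ^^^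
    (if v.testBit 2 then 4 else 0) ^^^ (if v.testBit 3 then 8 else 0) ^^^
    (if v.testBit 4 then 16 else 0) ^^^ (if v.testBit 5 then 32 else 0) := by
  decide

theorem field_mk {f : ℕ → ℕ} (hf : ∀ v < 64, f v < 64) :
    (mk f >>> (6 * 0)) &&& 63 = f 1 ∧ (mk f >>> (6 * 1)) &&& 63 = f 2 ∧
    (mk f >>> (6 * 2)) &&& 63 = f 4 ∧ (mk f >>> (6 * 3)) &&& 63 = f 8 ∧
    (mk f >>> (6 * 4)) &&& 63 = f 16 ∧ (mk f >>> (6 * 5)) &&& 63 = f 32 := by
  have h1 := hf 1 (by norm_num)
  have h2 := hf 2 (by norm_num)
  have h3 := hf 4 (by norm_num)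
  have h4 := hf 8 (by norm_num)
  have h5 := hf 16 (by norm_num)
  have h6 := hf 32 (by norm_num)
  simp only [show (63 : ℕ) = 2 ^ 6 - 1 by norm_num, Nat.and_two_pow_sub_one_eq_mod,
    Nat.shiftRight_eq_div_pow, mk]
  norm_num
  refine ⟨?_, ?_, ?_, ?_, ?_, ?_⟩ <;> omega

theorem app_mk {f : ℕ → ℕ} (hf : ∀ v < 64, f v < 64) (h0 : f 0 = 0)
    (hadd : ∀ v < 64, ∀ w < 64, f (v ^^^ w) = f v ^^^ f w) {v : ℕ} (hv : v < 64) :
    app (mk f) v = f v := by
  obtain ⟨e0, e1, e2, e3, e4, e5⟩ := field_mk hf
  have hs : ∀ (b : Bool) (k : ℕ), k < 2 ^ 6 → (if b then k else 0) < 2 ^ 6 := by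
    intro b k hk; cases b
    · norm_num
    · simpa using hk
  have hi : ∀ (b : Bool) (k : ℕ), (if b then f k else 0) = f (if b then k else 0) := by
    intro b k; cases b <;> simp [h0]
  conv_rhs => rw [bits_eq v hv]
  simp only [app, sel, e0, e1, e2, e3, e4, e5, hi]
  have l0 := hs (v.testBit 0) 1 (by norm_num)
  have l1 := hs (v.testBit 1) 2 (by norm_num)
  have l2 := hs (v.testBit 2) 4 (by norm_num)
  have l3 := hs (v.testBit 3) 8 (by norm_num)
  have l4 := hs (v.testBit 4) 16 (by norm_num)
  have l5 := hs (v.testBit 5) 32 (by norm_num)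
  rw [hadd _ (Nat.xor_lt_two_pow (Nat.xor_lt_two_pow (Nat.xor_lt_two_pow (Nat.xor_lt_two_pow l0 l1) l2) l3) l4) _ l5,
    hadd _ (Nat.xor_lt_two_pow (Nat.xor_lt_two_pow (Nat.xor_lt_two_pow l0 l1) l2) l3) _ l4,
    hadd _ (Nat.xor_lt_two_pow (Nat.xor_lt_two_pow l0 l1) l2) _ l3,
    hadd _ (Nat.xor_lt_two_pow l0 l1) _ l2, hadd _ l0 _ l1]

theorem mk_lt {f : ℕ → ℕ} (hf : ∀ v < 64, f v < 64) : mk f < 2 ^ 36 := by
  have h1 := hf 1 (by norm_num)
  have h2 := hf 2 (by norm_num)
  have h3 := hf 4 (by norm_num)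
  have h4 := hf 8 (by norm_num)
  have h5 := hf 16 (by norm_num)
  have h6 := hf 32 (by norm_num)
  simp only [mk]
  norm_num
  omega

theorem app_mulC (a b : ℕ) {v : ℕ} (hv : v < 64) : app (mulC a b) v = app a (app b v) :=
  app_mk (f := fun v => app a (app b v)) (fun _ _ => app_lt _ _) (by rw [app_zero, app_zero])
    (fun _ _ _ _ => by simp only [app_xor]) hv

theorem app_idC {v : ℕ} (hv : v < 64) : app idC v = v :=
  app_mk (f := id) (fun _ h => h) rfl (fun _ _ _ _ => rfl) hv

theorem mk_congr {f g : ℕ → ℕ} (h : ∀ v < 64, f v = g v) : mk f = mk g := by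
  simp only [mk, h 1 (by norm_num), h 2 (by norm_num), h 4 (by norm_num), h 8 (by norm_num),
    h 16 (by norm_num), h 32 (by norm_num)]

/-- membership in a set of vectors coded by a mask -/
def inU (U v : ℕ) : Bool := U.testBit v

/-- congruence of vectors -/
def eqU (U v w : ℕ) : Bool := inU U (v ^^^ w)

/-- adjoining a vector -/
def extU (U w : ℕ) : ℕ :=
  (List.range 64).foldl (fun m v => if inU U v || eqU U v w then m ||| (1 <<< v) else m) 0

theorem testBit_fold (p : ℕ → Bool) : ∀ (l : List ℕ) (m x : ℕ),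
    ((l.foldl (fun m v => if p v then m ||| (1 <<< v) else m) m).testBit x = true ↔
      m.testBit x = true ∨ (x ∈ l ∧ p x = true))
  | [], m, x => by simp
  | v :: l, m, x => by
    rw [List.foldl_cons, testBit_fold p l]
    by_cases hp : p v = true
    · rw [if_pos hp, Nat.testBit_or, Bool.or_eq_true, Nat.testBit_shiftLeft]
      constructor
      · rintro ((h | h) | ⟨h1, h2⟩)
        · exact Or.inl h
        · simp only [Bool.and_eq_true, decide_eq_true_eq, Nat.testBit_one_eq_true_iff_self_eq_zero] at h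
          obtain rfl : x = v := by omega
          exact Or.inr ⟨List.mem_cons_self .., hp⟩
        · exact Or.inr ⟨List.mem_cons_of_mem _ h1, h2⟩
      · rintro (h | ⟨h1, h2⟩)
        · exact Or.inl (Or.inl h)
        · rcases List.mem_cons.1 h1 with rfl | h1
          · refine Or.inl (Or.inr ?_)
            simp
          · exact Or.inr ⟨h1, h2⟩
    · rw [if_neg hp]
      constructor
      · rintro (h | ⟨h1, h2⟩)
        · exact Or.inl h
        · exact Or.inr ⟨List.mem_cons_of_mem _ h1, h2⟩
      · rintro (h | ⟨h1, h2⟩)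
        · exact Or.inl h
        · rcases List.mem_cons.1 h1 with rfl | h1
          · exact absurd h2 hp
          · exact Or.inr ⟨h1, h2⟩

theorem inU_extU {U w v : ℕ} (hv : v < 64) :
    inU (extU U w) v = true ↔ inU U v = true ∨ eqU U v w = true := by
  rw [extU]
  unfold inU
  rw [testBit_fold (fun v => U.testBit v || eqU U v w)]
  simp [hv]

/-- `c` is trivial modulo `U` -/
def trivU (U c : ℕ) : Bool := (List.range 6).all fun j => eqU U (app c (2 ^ j)) (2 ^ j)

/-- representatives of the non-trivial classes -/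
def reps (U : ℕ) : List ℕ :=
  (List.range 64).foldl (fun l v => if inU U v || l.any (fun w => eqU U v w) then l else v :: l) []

/-- all maps trivial modulo `V` are trivial modulo `U` -/
def keepU (L : List ℕ) (U V : ℕ) : Bool := L.all fun c => !trivU V c || trivU U c

/-- every class is represented -/
def coverU (U : ℕ) (R : List ℕ) : Bool :=
  (List.range 64).all fun v => inU U v || R.any fun w => eqU U v w

/-- pairwise distinct classes -/
def distU (U : ℕ) : List ℕ → Bool
  | [] => true
  | v :: l => (l.all fun w => !eqU U v w) && distU U l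

/-- the stabiliser of a class -/
def stabU (L : List ℕ) (U w : ℕ) : List ℕ := L.filter fun c => eqU U (app c w) w

/-- the recursion: a fixed class is factored out, otherwise two orbits and a recursion over all
centralizers -/
def good : ℕ → List ℕ → ℕ → Bool → Bool
  | 0, _, _, _ => false
  | fuel + 1, L, U, syl =>
    match reps U with
    | [] => coverU U []
    | a :: R =>
      match (a :: R).find? (fun w => L.all fun c => eqU U (app c w) w) with
      | some w => L.all (fun c => eqU U (app c w) w) && !inU U w && Nat.blt w 64 &&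
          good fuel L (extU U w) (syl && keepU L U (extU U w))
      | none => syl && Nat.ble 7 R.length.succ &&
          ((a :: R).all fun v => Nat.blt v 64 && !inU U v) &&
          distU U (a :: R) &&
          (R.any fun c => L.all fun g => !eqU U (app g a) c) &&
          coverU U (a :: R) &&
          (a :: R).all fun w =>
            good fuel (stabU L U w) (extU U w)
              (keepU (stabU L U w) U (extU U w))

end CfsgLib.M24Quot
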