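import Cfsg.Agent.Lib.M24Quot.Gauge
import Cfsg.Agent.Lib.StrongTwoClasses.Main

/-!
Subgroups of the automiser containing the centralizers of their involutions.
-/

set_option autoImplicit false
set_option maxRecDepth 100000
set_option linter.unusedSectionVars false
set_option linter.style.haveILetI false

namespace CfsgLib.M24Quot

open Subgroup

variable {X Y : Subgroup P64}

/-- An involution not conjugate to one of `Y` lies in `Y`. -/
theorem mem_of_not_conj (hYX : Y ≤ X)
    (hC : ∀ y ∈ Y, y * y = 1 → y ≠ 1 → ∀ σ ∈ X, σ * y = y * σ → σ ∈ Y)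
    {w v : P64} (hw : w ∈ Y) (hw2 : w * w = 1) (hw1 : w ≠ 1) (hv : v ∈ X) (hv2 : v * v = 1)
    (hnc : ∀ g ∈ X, g * w * g⁻¹ ≠ v) : v ∈ Y := by
  have hn : ¬ Odd (orderOf (w * v)) := by
    intro ho
    obtain ⟨g, hg⟩ := CfsgLib.StrongTwoClasses.exists_conj_of_odd_mul
      (a := (⟨w, hYX hw⟩ : X)) (q := ⟨v, hv⟩) (Subtype.ext hw2) (Subtype.ext hv2)
      (by rw [← orderOf_coe]; exact ho)
    exact hnc g g.2 (congrArg Subtype.val hg)
  rw [Nat.not_odd_iff_even] at hn
  obtain ⟨k, hk⟩ := hn
  have hpos := orderOf_pos (w * v)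
  set r := w * v with hr
  set c := r ^ k with hcdef
  have hc2 : c * c = 1 := by rw [hcdef, ← pow_add, ← hk, pow_orderOf_eq_one]
  have hc1 : c ≠ 1 := fun h => by
    have := orderOf_le_of_pow_eq_one (by omega : 0 < k) (by rw [← hcdef]; exact h)
    omega
  have hwi : w⁻¹ = w := inv_eq_of_mul_eq_one_right hw2
  have hvi : v⁻¹ = v := inv_eq_of_mul_eq_one_right hv2
  have hci : c⁻¹ = c := inv_eq_of_mul_eq_one_right hc2
  have hcw : w * c * w⁻¹ = c := by
    rw [hcdef, ← conj_pow, show w * r * w⁻¹ = r⁻¹ by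
      rw [hr, mul_inv_rev, hwi, hvi, ← mul_assoc w w v, hw2, one_mul], inv_pow, ← hcdef, hci]
  have hcv : v * c * v⁻¹ = c := by
    rw [hcdef, ← conj_pow, show v * r * v⁻¹ = r⁻¹ by
      rw [hr, mul_inv_rev, hwi, hvi, mul_assoc, mul_assoc, hv2, mul_one], inv_pow, ← hcdef, hci]
  have hcX : c ∈ X := pow_mem (mul_mem (hYX hw) hv) k
  have hcY : c ∈ Y := hC w hw hw2 hw1 c hcX (mul_inv_eq_iff_eq_mul.1 hcw).symm
  exact hC c hcY hc2 hc1 v hv (mul_inv_eq_iff_eq_mul.1 hcv)

/-- The centralizer of a conjugate. -/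
theorem cent_conj {m y : P64} (hm : m ∈ Y) (hYX : Y ≤ X)
    (h : ∀ σ ∈ X, σ * y = y * σ → σ ∈ Y) {σ : P64} (hσ : σ ∈ X)
    (hc : σ * (m * y * m⁻¹) = m * y * m⁻¹ * σ) : σ ∈ Y := by
  have h1 : m⁻¹ * σ * m ∈ Y := by
    refine h _ (mul_mem (mul_mem (inv_mem (hYX hm)) hσ) (hYX hm)) ?_
    calc m⁻¹ * σ * m * y = m⁻¹ * (σ * (m * y * m⁻¹)) * m := by group
      _ = m⁻¹ * (m * y * m⁻¹ * σ) * m := by rw [hc]
      _ = y * (m⁻¹ * σ * m) := by group
  have := mul_mem (mul_mem hm h1) (inv_mem hm)
  simpa [mul_assoc] using this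

/-- A strongly embedded subgroup of order 168 with 21 involutions, all conjugate to one with
centralizer of order eight in it, is the whole group. -/
theorem le_of_count (hYX : Y ≤ X) (hY : Nat.card Y = 168)
    (hinv : Nat.card {y : Y // y * y = 1 ∧ y ≠ 1} = 21)
    (h21 : ∀ x ∈ Y, ∀ y ∈ Y, orderOf x = 3 → orderOf y = 7 → x * y ≠ y * x)
    {z : P64} (hz : z ∈ Y) (hz2 : z * z = 1) (hz1 : z ≠ 1)
    (hconj : ∀ v ∈ X, v * v = 1 → v ≠ 1 → ∃ g ∈ X, g * z * g⁻¹ = v)
    (hC : ∀ y ∈ Y, y * y = 1 → y ≠ 1 → ∀ σ ∈ X, σ * y = y * σ → σ ∈ Y)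
    (hCz : Nat.card {σ : X // (σ : P64) * z = z * σ} = 8) : X ≤ Y := by
  classical
  haveI : Fact (Nat.Prime 2) := ⟨Nat.prime_two⟩
  let Xs : Finset P64 := Finset.univ.filter fun σ => σ ∈ X
  let Is : Finset P64 := Finset.univ.filter fun v => v ∈ X ∧ v * v = 1 ∧ v ≠ 1
  have mXs : ∀ σ, σ ∈ Xs ↔ σ ∈ X := fun σ => by simp [Xs]
  have mIs : ∀ v, v ∈ Is ↔ v ∈ X ∧ v * v = 1 ∧ v ≠ 1 := fun v => by simp [Is]
  have hzX := hYX hz
  have hzi : z⁻¹ = z := inv_eq_of_mul_eq_one_right hz2
  have hfz : ∀ σ : P64, σ * z * σ⁻¹ * (σ * z * σ⁻¹) = 1 := fun σ => by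
    rw [show σ * z * σ⁻¹ * (σ * z * σ⁻¹) = σ * (z * z) * σ⁻¹ by group, hz2]; group
  have hXI : Xs.card = Is.card * 8 := by
    rw [Finset.card_eq_sum_card_fiberwise (f := fun σ => σ * z * σ⁻¹) (t := Is)]
    · rw [Finset.sum_const_nat]
      intro v hv
      obtain ⟨hvX, hv2, hv1⟩ := (mIs v).1 hv
      obtain ⟨g, hg, hgv⟩ := hconj v hvX hv2 hv1
      rw [← hCz, Nat.card_eq_fintype_card, ← Finset.card_univ]
      refine Finset.card_bij (fun σ hσ => ⟨⟨g⁻¹ * σ, ?_⟩, ?_⟩) (fun _ _ => Finset.mem_univ _)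
        ?_ ?_
      · simp only [Finset.mem_filter, mXs] at hσ
        exact mul_mem (inv_mem hg) hσ.1
      · simp only [Finset.mem_filter, mXs] at hσ
        show g⁻¹ * σ * z = z * (g⁻¹ * σ)
        have h := hσ.2.trans hgv.symm
        calc g⁻¹ * σ * z = g⁻¹ * (σ * z * σ⁻¹) * σ := by group
          _ = z * (g⁻¹ * σ) := by rw [h]; group
      · intro σ _ τ _ h
        simpa using h
      · rintro ⟨⟨τ, hτ⟩, hτz⟩ -
        refine ⟨g * τ, ?_, by simp⟩
        simp only [Finset.mem_filter, mXs]
        refine ⟨mul_mem hg hτ, ?_⟩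
        rw [← hgv]
        calc g * τ * z * (g * τ)⁻¹ = g * (τ * z * τ⁻¹) * g⁻¹ := by group
          _ = g * z * g⁻¹ := by rw [show τ * z = z * τ from hτz]; group
    · intro σ hσ
      simp only [Finset.mem_coe, mXs] at hσ
      simp only [Finset.mem_coe, mIs]
      refine ⟨mul_mem (mul_mem hσ hzX) (inv_mem hσ), hfz σ, fun h => hz1 ?_⟩
      rw [mul_inv_eq_one] at h
      simpa using h
  by_contra hne
  obtain ⟨σ₀, hσ₀, hσ₀Y⟩ : ∃ σ ∈ X, σ ∉ Y := by
    by_contra h; push Not at h; exact hne h
  let q : P64 → P64 ⧸ Y := fun σ => QuotientGroup.mk σ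
  let Q : Finset (P64 ⧸ Y) := Xs.image q
  have hmk : ∀ σ τ : P64, q σ = q τ ↔ σ⁻¹ * τ ∈ Y := fun σ τ => QuotientGroup.eq
  have hfib : ∀ c ∈ Q, (Xs.filter fun σ => q σ = c).card = 168 := by
    intro c hc
    obtain ⟨σ, hσ, rfl⟩ := Finset.mem_image.1 hc
    rw [mXs] at hσ
    rw [← hY, Nat.card_eq_fintype_card, ← Finset.card_univ]
    refine Finset.card_bij (fun τ hτ => ⟨σ⁻¹ * τ, ?_⟩) (fun _ _ => Finset.mem_univ _) ?_ ?_
    · simp only [Finset.mem_filter, mXs] at hτ
      exact (hmk σ τ).1 hτ.2.symm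
    · intro a _ b _ h
      simpa using h
    · rintro ⟨y, hy⟩ -
      refine ⟨σ * y, ?_, by simp⟩
      simp only [Finset.mem_filter, mXs]
      exact ⟨mul_mem hσ (hYX hy), ((hmk σ _).2 (by simpa using hy)).symm⟩
  have hXQ : Xs.card = Q.card * 168 := by
    rw [Finset.card_eq_sum_card_fiberwise (f := q) (t := Q)
      (fun σ hσ => Finset.mem_image_of_mem q hσ), Finset.sum_const_nat hfib]
  -- the fibres of the involutions
  have hIfib : ∀ c ∈ Q, (Is.filter fun v => q v = c).card ≤ 21 ∧
      (c ≠ q 1 → (Is.filter fun v => q v = c).card ≤ 20) := by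
    intro c hc
    by_cases hc1 : c = q 1
    · refine ⟨le_of_eq ?_, fun h => absurd hc1 h⟩
      rw [← hinv, Nat.card_eq_fintype_card, ← Finset.card_univ]
      refine Finset.card_bij (fun v hv => ⟨⟨v, ?_⟩, ?_⟩) (fun _ _ => Finset.mem_univ _) ?_ ?_
      · simp only [Finset.mem_filter, hc1] at hv
        simpa using (hmk 1 v).1 hv.2.symm
      · simp only [Finset.mem_filter, mIs] at hv
        exact ⟨Subtype.ext hv.1.2.1, fun h => hv.1.2.2 (congrArg Subtype.val h)⟩
      · intro a _ b _ h
        simpa using h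
      · rintro ⟨⟨y, hy⟩, hy2, hy1⟩ -
        refine ⟨y, ?_, rfl⟩
        simp only [Finset.mem_filter, mIs, hc1]
        exact ⟨⟨hYX hy, congrArg Subtype.val hy2, fun h => hy1 (Subtype.ext h)⟩,
          ((hmk 1 y).2 (by simpa using hy)).symm⟩
    · suffices h : (Is.filter fun v => q v = c).card ≤ 20 from ⟨h.trans (by norm_num), fun _ => h⟩
      rcases (Is.filter fun v => q v = c).eq_empty_or_nonempty with h | ⟨v, hv⟩
      · simp [h]
      simp only [Finset.mem_filter, mIs] at hv
      obtain ⟨⟨hvX, hv2, hv1⟩, hvc⟩ := hv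
      have hvY : v ∉ Y := fun h => hc1 (by rw [← hvc]; exact (hmk v 1).2 (by simpa using inv_mem h))
      have hvi : v⁻¹ = v := inv_eq_of_mul_eq_one_right hv2
      set K := Y ⊓ Y.map (MulAut.conj v).toMonoidHom with hK
      have hKv : ∀ y ∈ K, v * y * v⁻¹ ∈ K := by
        intro y hy
        obtain ⟨hy1, y', hy', e⟩ := hy
        have e' : v * y * v⁻¹ = y' := by
          rw [← e]; simp [hvi, ← mul_assoc, hv2]; simp [mul_assoc, hv2]
        refine ⟨e'.symm ▸ hy', ⟨y, hy1, ?_⟩⟩
        rfl
      let pv : Equiv.Perm K :=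
        { toFun := fun y => ⟨v * y * v⁻¹, hKv y y.2⟩
          invFun := fun y => ⟨v * y * v⁻¹, hKv y y.2⟩
          left_inv := fun y => Subtype.ext (by
            show v * (v * y * v⁻¹) * v⁻¹ = y
            calc v * (v * y * v⁻¹) * v⁻¹ = (v * v) * y * (v * v)⁻¹ := by group
              _ = y := by rw [hv2]; group)
          right_inv := fun y => Subtype.ext (by
            show v * (v * y * v⁻¹) * v⁻¹ = y
            calc v * (v * y * v⁻¹) * v⁻¹ = (v * v) * y * (v * v)⁻¹ := by group
              _ = y := by rw [hv2]; group) }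
      have hKodd : ¬ 2 ∣ Nat.card K := by
        intro h2
        let T := {y : K // y * y = 1 ∧ y ≠ 1}
        have hT : ¬ 2 ∣ Nat.card T := by
          let iv : Equiv.Perm K := Equiv.inv K
          have hiv : iv ^ 2 = 1 := Equiv.ext fun y => by simp [iv, sq]
          have hmod := Equiv.Perm.card_fixedPoints_modEq (p := 2) (n := 1) (f := iv.toFun)
            (funext fun y => by show (y⁻¹)⁻¹ = y; exact inv_inv y)
          intro hT2
          rw [← Nat.card_eq_fintype_card, ← Nat.card_eq_fintype_card] at hmod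
          have hsplit : Nat.card ↥(Function.fixedPoints iv.toFun) = Nat.card T + 1 := by
            rw [← Finite.card_option]
            refine Nat.card_congr
              { toFun := fun y => if h : y.1 = 1 then none else some ⟨y.1, ?_, h⟩
                invFun := fun t => t.elim ⟨1, by simp [Function.IsFixedPt, iv]⟩ fun t => ⟨t.1, ?_⟩
                left_inv := fun y => ?_
                right_inv := fun t => ?_ }
            · have := y.2
              simp only [Function.mem_fixedPoints, Function.IsFixedPt, iv] at this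
              change y.1⁻¹ = y.1 at this
              nth_rewrite 2 [← this]
              exact mul_inv_cancel _
            · show t.1⁻¹ = t.1
              exact inv_eq_of_mul_eq_one_right t.2.1
            · by_cases h : y.1 = 1
              · simp only [dif_pos h, Option.elim]; exact Subtype.ext h.symm
              · simp only [dif_neg h, Option.elim]
            · cases t with
              | none => simp
              | some t => simp [t.2.2]
          rw [hsplit, Nat.ModEq] at hmod
          omega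
        let pT : Equiv.Perm T := pv.subtypeEquiv fun y => by
          have h1 : ∀ y : K, pv y * pv y = 1 ↔ y * y = 1 := fun y => by
            constructor <;> intro h <;> apply Subtype.ext
            · have := congrArg Subtype.val h
              change v * y * v⁻¹ * (v * y * v⁻¹) = 1 at this
              have e : v * ((y : P64) * y) * v⁻¹ = 1 := by rw [← this]; group
              rw [mul_inv_eq_one] at e
              simpa using e
            · have := congrArg Subtype.val h
              change v * y * v⁻¹ * (v * y * v⁻¹) = 1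
              rw [show v * (y : P64) * v⁻¹ * (v * y * v⁻¹) = v * ((y : P64) * y) * v⁻¹ by group,
                show (y : P64) * y = 1 from this]
              group
          have h2 : pv y = 1 ↔ y = 1 := by
            constructor
            · intro h
              have := congrArg Subtype.val h
              change v * y * v⁻¹ = 1 at this
              rw [mul_inv_eq_one] at this
              exact Subtype.ext (by simpa using this)
            · rintro rfl; exact Subtype.ext (by show v * 1 * v⁻¹ = 1; group)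
          rw [h1, ne_eq, ne_eq, h2]
        obtain ⟨y, hy⟩ := Equiv.Perm.exists_fixed_point_of_prime (p := 2) (n := 1) (σ := pT)
          (by rwa [← Nat.card_eq_fintype_card]) (by
            refine Equiv.ext fun y => Subtype.ext (Subtype.ext ?_)
            show v * (v * (y.1 : P64) * v⁻¹) * v⁻¹ = y.1
            calc v * (v * (y.1 : P64) * v⁻¹) * v⁻¹ = (v * v) * y.1 * (v * v)⁻¹ := by group
              _ = _ := by rw [hv2]; group)
        have hy' : v * (y.1 : P64) * v⁻¹ = y.1 := congrArg (fun t : T => ((t.1 : K) : P64)) hy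
        exact hvY (hC _ y.1.2.1 (congrArg Subtype.val y.2.1) (fun h => y.2.2 (Subtype.ext h)) v hvX
          (mul_inv_eq_iff_eq_mul.1 hy'))
      have hK168 : Nat.card K ∣ 168 := hY ▸ card_dvd_of_le inf_le_left
      have hK21 : Nat.card K ≤ 21 := by
        have hd : Nat.card K ∣ 21 := by
          refine (Nat.Coprime.dvd_of_dvd_mul_left ?_ (show Nat.card K ∣ 8 * 21 from hK168))
          exact Nat.Coprime.pow_right 3 ((Nat.prime_two.coprime_iff_not_dvd.2 hKodd).symm)
        exact Nat.le_of_dvd (by norm_num) hd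
      let φ : P64 → P64 := fun u => v * u
      have hmem : ∀ u ∈ Is.filter (fun u => q u = c), φ u ∈ K ∧ v * φ u * v⁻¹ = (φ u)⁻¹ := by
        intro u hu
        simp only [Finset.mem_filter, mIs] at hu
        obtain ⟨⟨-, hu2, -⟩, huc⟩ := hu
        have h1 : v * u ∈ Y := by
          have := (hmk v u).1 (hvc.trans huc.symm)
          rwa [hvi] at this
        have h2 : v * (v * u) * v⁻¹ = (v * u)⁻¹ := by
          rw [mul_inv_rev, hvi, inv_eq_of_mul_eq_one_right hu2, ← mul_assoc, hv2, one_mul]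
        refine ⟨mem_inf.2 ⟨h1, (v * u)⁻¹, inv_mem h1, ?_⟩, h2⟩
        show v * (v * u)⁻¹ * v⁻¹ = v * u
        rw [← h2]
        calc v * (v * (v * u) * v⁻¹) * v⁻¹ = (v * v) * (v * u) * (v * v)⁻¹ := by group
          _ = v * u := by rw [hv2]; group
      let Ks : Finset P64 := Finset.univ.filter fun y => y ∈ K ∧ v * y * v⁻¹ = y⁻¹
      have hle : (Is.filter fun u => q u = c).card ≤ Ks.card :=
        Finset.card_le_card_of_injOn φ (fun u hu => by simpa [Ks] using hmem u hu)
          (fun u _ u' _ h => mul_left_cancel h)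
      have hKs : Ks.card ≤ Nat.card K := by
        rw [Nat.card_eq_fintype_card, Fintype.card_subtype]
        exact Finset.card_le_card fun y hy => by simp [Ks] at hy ⊢; exact hy.1
      by_contra hgt
      have h1 : Nat.card K = 21 := by omega
      have hall : ∀ y ∈ K, v * y * v⁻¹ = y⁻¹ := by
        intro y hy
        have he : Ks = Finset.univ.filter fun y => y ∈ K := by
          refine Finset.eq_of_subset_of_card_le (fun y hy => by simp [Ks] at hy ⊢; exact hy.1) ?_
          have : (Finset.univ.filter fun y : P64 => y ∈ K).card = Nat.card K := by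
            rw [Nat.card_eq_fintype_card, Fintype.card_subtype]
          omega
        have : y ∈ Ks := by rw [he]; simpa using hy
        simpa [Ks] using (Finset.mem_filter.1 this).2.2
      obtain ⟨x, hx⟩ := exists_prime_orderOf_dvd_card' (G := K) 3 (hp := ⟨by norm_num⟩) (by rw [h1]; norm_num)
      obtain ⟨y, hy⟩ := exists_prime_orderOf_dvd_card' (G := K) 7 (hp := ⟨by norm_num⟩) (by rw [h1]; norm_num)
      refine h21 _ x.2.1 _ y.2.1 (by rw [orderOf_coe]; exact hx) (by rw [orderOf_coe]; exact hy) ?_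
      have e1 := hall _ x.2
      have e2 := hall _ y.2
      have e3 := hall _ (mul_mem x.2 y.2)
      rw [show v * ((x : P64) * y) * v⁻¹ = (v * x * v⁻¹) * (v * y * v⁻¹) by group, e1, e2,
        ← mul_inv_rev] at e3
      exact (inv_injective e3).symm
  have hI : Is.card = Q.card * 21 := by omega
  have h1Q : q 1 ∈ Q := Finset.mem_image_of_mem q ((mXs 1).2 (one_mem X))
  have hsum : Is.card = ∑ c ∈ Q, (Is.filter fun v => q v = c).card :=
    Finset.card_eq_sum_card_fiberwise fun v hv => Finset.mem_image_of_mem q ((mXs v).2 ((mIs v).1 hv).1)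
  have hlt : ∑ c ∈ Q, (Is.filter fun v => q v = c).card < ∑ _c ∈ Q, 21 := by
    refine Finset.sum_lt_sum (fun c hc => (hIfib c hc).1) ⟨q σ₀, ?_, ?_⟩
    · exact Finset.mem_image_of_mem q ((mXs σ₀).2 hσ₀)
    · refine Nat.lt_succ_of_le ((hIfib _ (Finset.mem_image_of_mem q ((mXs σ₀).2 hσ₀))).2 ?_)
      exact fun h => hσ₀Y (by simpa using (hmk σ₀ 1).1 h)
  rw [Finset.sum_const, smul_eq_mul] at hlt
  omega

end CfsgLib.M24Quot
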