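import Cfsg.Agent.Lib.M24Quot.Code

/-!
Numerical data for the automiser of the abelian subgroup of order 64 of the quotient of a Sylow
2-subgroup of the Mathieu group of degree 24 by its centre, and the finite checks.
-/

set_option autoImplicit false
set_option maxRecDepth 100000

namespace CfsgLib.M24Quot

/-- the eight maps -/
def ddL : List ℕ := [
  34630287489, 35720807361, 34647065025, 35704029825, 26391646145, 27448609921,
  26374868353, 27465387713]

/-- unit vectors in terms of the generators -/
def cmbD : List (List (ℕ × ℕ)) := [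
  [(0, 0), (1, 0)], [(0, 0), (0, 1)],
  [(0, 1), (2, 1)], [(1, 1), (2, 1)],
  [(0, 0)], [(0, 0), (1, 0), (4, 0), (0, 1), (2, 1)]]

/-- contributions of a generator -/
def tabD0 : List ℕ := [
  0, 1090519104, 8657043712, 9747562816, 4429185536, 5519704640,
  13086229248, 14176748352, 38923142145, 40013661249, 47580185857, 48670704961,
  34762393089, 35852912193, 43419436801, 44509955905]

/-- contributions of a generator -/
def tabD1 : List ℕ := [
  0, 64, 768, 832, 4297081984, 4297082048,
  4297082752, 4297082816, 5371091328, 5371091392, 5371091584, 5371091648,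
  1074011392, 1074011456, 1074011648, 1074011712]

-- D: es (16, 18) F [1, 2, 3, 4, 5, 6, 7] ks [[3], [6]] p {0: 0, 1: 1, 2: 2, 3: 3, 4: 4, 5: 5, 6: 6, 7: 7}

/-- unit vectors in terms of the generators -/
def cmbA : List (List (ℕ × ℕ)) := [
  [(0, 1), (1, 1)], [(0, 0)],
  [(0, 0), (2, 0), (0, 1), (1, 1)], [(1, 0), (2, 0)],
  [(0, 1)], [(0, 2)]]

/-- contributions of a generator -/
def tabA0 : List ℕ := [
  0, 64, 3440768, 3440832, 256, 320,
  3441024, 3441088, 512, 576, 3441280, 3441344,
  768, 832, 3441536, 3441600, 263168, 263232,
  3179648, 3179712, 263424, 263488, 3179904, 3179968,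
  263680, 263744, 3180160, 3180224, 263936, 264000,
  3180416, 3180480, 268288, 268352, 3184768, 3184832,
  268544, 268608, 3185024, 3185088, 268800, 268864,
  3185280, 3185344, 269056, 269120, 3185536, 3185600,
  7168, 7232, 3447936, 3448000, 7424, 7488,
  3448192, 3448256, 7680, 7744, 3448448, 3448512,
  7936, 8000, 3448704, 3448768]

/-- contributions of a generator -/
def tabA1 : List ℕ := [
  0, 16777216, 67108864, 83886080, 134217728, 150994944,
  201326592, 218103808, 805310465, 822087681, 872419329, 889196545,
  939528193, 956305409, 1006637057, 1023414273]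

/-- contributions of a generator -/
def tabA2 : List ℕ := [
  0, 1073741824, 4294967296, 5368709120, 8589934592, 9663676416,
  12884901888, 13958643712, 17179869184, 18253611008, 21474836480, 22548578304,
  25769803776, 26843545600, 30064771072, 31138512896]

-- A: es (2, 16, 32) F [1, 2, 3] ks [[], [1], [3]] p {0: 0, 1: 2, 2: 3, 3: 1}

/-- unit vectors in terms of the generators -/
def cmbB : List (List (ℕ × ℕ)) := [
  [(0, 0), (1, 0), (0, 1), (6, 1)], [(0, 0)],
  [(0, 1)], [(6, 1)],
  [(0, 0), (0, 2)], [(6, 0), (0, 1), (0, 2)]]

/-- contributions of a generator -/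
def tabB0 : List ℕ := [
  0, 1090519104, 63384322228, 62327357684, 8657043724, 9747562828,
  54861496760, 53804532216, 4429185548, 5519704652, 67813507768, 66756543224,
  13086229248, 14176748352, 59290682292, 58233717748, 39996884020, 38939919476,
  32514245760, 33604764864, 48653927736, 47596963192, 23991420300, 25081939404,
  35836134968, 34779170424, 28353496716, 29444015820, 44493178676, 43436214132,
  19830671232, 20921190336, 27380418616, 26323454072, 37077649548, 38168168652,
  18857593140, 17800628596, 45734693248, 46825212352, 31809604148, 30752639604,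
  41506835072, 42597354176, 23286778680, 22229814136, 50163878796, 51254397900,
  65229818892, 66320337996, 8355056824, 7298092280, 56706993408, 57797512512,
  17012100532, 15955135988, 61069069824, 62159588928, 4194307764, 3137343220,
  52546244364, 53636763468, 12851351480, 11794386936]

/-- contributions of a generator -/
def tabB1 : List ℕ := [
  0, 1074008064, 12888096768, 13962104832, 19335290892, 20409298956,
  32217096204, 33291104268, 40813355020, 41887363084, 45107290124, 46181298188,
  55848419328, 56922427392, 60144451584, 61218459648]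

/-- contributions of a generator -/
def tabB2 : List ℕ := [
  0, 1090519040, 13086228480, 14176747520, 23991418880, 25081937920,
  28353495040, 29444014080, 37077647360, 38168166400, 50163875840, 51254394880,
  56706990080, 57797509120, 61069066240, 62159585280]

-- B: es (2, 4, 18) F [1, 6, 7] ks [[], [6], [7]] p {0: 0, 1: 6, 6: 7, 7: 1}

/-- elements of order three cycling the first four-group -/
def candA : List ℕ := [
  17988356225, 18005133505, 26645399937, 26662177217, 17988356737, 18005134017,
  26645400449, 26662177729, 19062361473, 19079138689, 26645663105, 26662440321,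
  19062362049, 19079139265, 26645663681, 26662440897]

/-- elements of order three cycling the second four-group -/
def candB : List ℕ := [
  58275209716, 2759668212, 62567080436, 15641473524, 3833146548, 59349220532,
  16714951860, 63641091252, 27908715576, 34485118072, 27704293176, 34549131128,
  27687250232, 34532620664, 27891673656, 34468608632]

/-- maps to the first representative -/
def gaugeA : List (ℕ × ℕ) := [
  (34630287489, 34630287489), (35720806529, 35720806529),
  (43287331265, 43287331265), (44377850305, 44377850305),
  (34630288321, 34630288321), (35720807361, 35720807361),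
  (43287331457, 43287331457), (44377850497, 44377850497),
  (34647334529, 34647334529), (35704299137, 35704299137),
  (43304377473, 44361342913), (44361342081, 43304378305),
  (34647334337, 34647334337), (35704298945, 35704298945),
  (43304378305, 44361342081), (44361342913, 43304377473)]

/-- maps to the second representative -/
def gaugeB : List (ℕ × ℕ) := [
  (34630287489, 34630287489), (34647334273, 34647334273),
  (35704299137, 35704299137), (35720807297, 35720807297),
  (34647334337, 34647334337), (34630287553, 34630287553),
  (35720807361, 35720807361), (35704299201, 35704299201),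
  (44377850241, 44377850241), (43287331201, 43287331201),
  (44377850497, 44377850497), (43287331457, 43287331457),
  (44377850561, 44377850561), (43287331521, 43287331521),
  (44377850305, 44377850305), (43287331265, 43287331265)]

/-- maps to the representative pair, or words leaving the normaliser -/
def gaugeC : List ((ℕ × ℕ) ⊕ List ℕ) := [
  Sum.inl (34630287489, 34630287489), Sum.inr [2, 3, 2, 1, 3, 2, 3, 0, 2, 3, 2, 3, 2],
  Sum.inr [2, 3, 2, 1, 3, 2, 3, 0, 2, 3, 2, 3, 2], Sum.inl (35720807297, 35720807297),
  Sum.inr [2, 3, 2, 1, 3, 2, 3, 0, 2, 3, 2, 3, 2], Sum.inl (34630287553, 34630287553),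
  Sum.inl (35720807361, 35720807361), Sum.inr [2, 3, 2, 1, 3, 2, 3, 0, 2, 3, 2, 3, 2],
  Sum.inr [2, 3, 2, 1, 3, 2, 3, 0, 2, 3, 2, 3, 2], Sum.inl (39059473025, 39059473025),
  Sum.inl (40149991809, 40149991809), Sum.inr [2, 3, 2, 1, 3, 2, 3, 0, 2, 3, 2, 3, 2],
  Sum.inl (40149991873, 40149991873), Sum.inr [2, 3, 2, 1, 3, 2, 3, 0, 2, 3, 2, 3, 2],
  Sum.inr [2, 3, 2, 1, 3, 2, 3, 0, 2, 3, 2, 3, 2], Sum.inl (39059473089, 39059473089)]

/-- the group D -/
def lstD : List ℕ := [
  34630287489, 34647065025, 26374868353, 27448609921, 26391646145, 27465387713,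
  35704029825, 35720807361]

/-- parent and generator of each element of D -/
def parD : List (ℕ × ℕ) := [
  (0, 0), (0, 0), (0, 1), (1, 1), (2, 0), (3, 0), (4, 1), (5, 1)]

/-- the group G1 -/
def lstG1 : List ℕ := [
  34630287489, 34647065025, 26374868353, 17988356225, 27448609921, 19078875585,
  26391646145, 39664503681, 18005134017, 64829309569, 52077579393, 27465387713,
  39681280705, 19062098817, 65919828929, 53151321473, 35704029825, 40755022273,
  65903050881, 53168099009, 64846086593, 52094357441, 35720807361, 40738244737]

/-- parent and generator of each element of G1 -/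
def parG1 : List (ℕ × ℕ) := [
  (0, 0), (0, 0), (0, 1), (0, 2), (1, 1), (1, 2), (2, 0), (2, 2),
  (3, 0), (3, 1), (3, 2), (4, 0), (4, 2), (5, 0), (5, 1), (5, 2),
  (6, 1), (6, 2), (8, 1), (8, 2), (9, 0), (10, 0), (11, 1), (11, 2)]

/-- the group G2 -/
def lstG2 : List ℕ := [
  34630287489, 34647065025, 26374868353, 58275209716, 27448609921, 53962432693,
  26391646145, 2776182772, 58610755700, 16714951860, 54314756213, 27465387713,
  8143859445, 11347275189, 35704029825, 2440636020, 63624045236, 11028506229,
  63959590964, 16379405876, 7791535669, 68255590453, 35720807361, 67936822261]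

/-- parent and generator of each element of G2 -/
def parG2 : List (ℕ × ℕ) := [
  (0, 0), (0, 0), (0, 1), (0, 2), (1, 1), (1, 2), (2, 0), (2, 2),
  (3, 0), (3, 1), (3, 2), (4, 0), (4, 2), (5, 1), (6, 1), (7, 0),
  (7, 1), (7, 2), (8, 1), (9, 0), (9, 2), (10, 1), (11, 1), (12, 1)]

/-- the group L0 -/
def lstL0 : List ℕ := [
  34630287489, 34647065025, 26374868353, 17988356225, 58275209716, 27448609921,
  19078875585, 53962432693, 26391646145, 39664503681, 2776182772, 18005134017,
  64829309569, 52077579393, 11565345512, 58610755700, 16714951860, 18911194228,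
  54314756213, 27465387713, 39681280705, 8143859445, 19062098817, 65919828929,
  53151321473, 16916245416, 11347275189, 17753549877, 35704029825, 40755022273,
  54717393628, 2440636020, 63624045236, 40386031476, 11028506229, 65903050881,
  53168099009, 2960763049, 64846086593, 36932493800, 52094357441, 49952665564,
  11162690664, 42283393192, 53604345960, 2574885993, 63959590964, 40050484724,
  16379405876, 39379349364, 7791535669, 18575648500, 46430471796, 42786670644,
  27163453160, 68255590453, 40117576949, 35720807361, 40738244737, 58996648861,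
  67936822261, 40302128949, 8345217513, 46732504797, 16513590312, 52597696616,
  7925785641, 39429697333, 17568999413, 49566762549, 37351901237, 26156804072,
  64362227868, 54247631196, 42417630620, 65752114780, 58543663453, 17904512116,
  47168669812, 41914254900, 35754452444, 18709832949, 46598300649, 49801716393,
  52379641897, 37335150440, 27834542440, 50221150057, 37049986205, 50422426716,
  35687343196, 37536525405, 42686050088, 26827893096, 46984179497, 52933257192,
  68305833832, 63523275816, 65819224028, 27297703145, 39178020596, 34283769844,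
  21311835316, 17703183860, 34882021085, 33545568756, 20439417524, 8177355868,
  65533994525, 24953504232, 20573601960, 8512899420, 39110928373, 30054862581,
  25540742581, 63925931816, 68675037661, 64594503197, 19028601909, 50455955573,
  36630480501, 35821577437, 53520476201, 47185488925, 35603473437, 42887392284,
  51926607592, 67903177832, 64812607197, 26291054057, 34814896092, 29165666485,
  24819319797, 2725809181, 64544122460, 3212347741, 63892465948, 68188498205,
  34479350876, 16949741852, 29987737564, 21244710300, 16882633756, 27683580201,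
  26676930857, 51993765353, 58761695017, 53727478825, 64879666652, 53134599401,
  34395481117, 66020533469, 25356159720, 20976257960, 29652191964, 21177600156,
  33411318761, 29031416489, 54415347561, 11464641629, 25607834781, 34350862045,
  33864321949, 11649190173, 58107380841, 25423284701, 34065631401, 29719284201]

/-- parent and generator of each element of L0 -/
def parL0 : List (ℕ × ℕ) := [
  (0, 0), (0, 0), (0, 1), (0, 2), (0, 3), (1, 1), (1, 2), (1, 3),
  (2, 0), (2, 2), (2, 3), (3, 0), (3, 1), (3, 2), (3, 3), (4, 0),
  (4, 1), (4, 2), (4, 3), (5, 0), (5, 2), (5, 3), (6, 0), (6, 1),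
  (6, 2), (6, 3), (7, 1), (7, 2), (8, 1), (8, 2), (9, 3), (10, 0),
  (10, 1), (10, 2), (10, 3), (11, 1), (11, 2), (11, 3), (12, 0), (12, 3),
  (13, 0), (13, 3), (14, 0), (14, 1), (14, 2), (14, 3), (15, 1), (15, 2),
  (16, 0), (16, 2), (16, 3), (17, 0), (17, 1), (17, 2), (17, 3), (18, 1),
  (18, 2), (19, 1), (19, 2), (20, 3), (21, 1), (21, 2), (22, 3), (24, 3),
  (25, 0), (25, 2), (25, 3), (26, 2), (27, 0), (27, 1), (27, 2), (27, 3),
  (29, 3), (30, 0), (30, 1), (30, 2), (30, 3), (32, 2), (33, 1), (33, 2),
  (33, 3), (34, 2), (35, 3), (37, 1), (37, 2), (39, 0), (39, 2), (39, 3),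
  (40, 3), (41, 0), (41, 2), (41, 3), (43, 0), (43, 2), (43, 3), (44, 0),
  (44, 1), (44, 2), (44, 3), (45, 2), (46, 2), (47, 1), (47, 2), (48, 2),
  (49, 3), (51, 1), (51, 2), (51, 3), (53, 3), (54, 1), (54, 2), (54, 3),
  (55, 2), (56, 1), (56, 2), (56, 3), (58, 3), (59, 2), (60, 2), (61, 1),
  (61, 2), (61, 3), (62, 2), (63, 0), (63, 2), (63, 3), (65, 0), (65, 2),
  (65, 3), (66, 2), (67, 3), (68, 1), (68, 2), (68, 3), (70, 3), (71, 3),
  (72, 0), (72, 3), (74, 2), (75, 2), (80, 1), (80, 2), (81, 3), (82, 2),
  (83, 2), (84, 0), (84, 1), (84, 2), (84, 3), (87, 2), (88, 2), (91, 2),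
  (95, 1), (95, 2), (98, 1), (98, 2), (99, 1), (99, 2), (100, 3), (103, 3),
  (104, 1), (104, 2), (110, 3), (117, 2), (122, 2), (128, 2), (141, 3), (145, 2)]

/-- a map of the first group -/
def dd (k : ℕ) : ℕ := ddL.getD k 0

/-- the multiplication table -/
def mtL : List (List ℕ) := [[0, 1, 2, 3, 4, 5, 6, 7], [1, 0, 3, 2, 5, 4, 7, 6],
  [2, 3, 0, 1, 7, 6, 5, 4], [3, 2, 1, 0, 6, 7, 4, 5], [4, 5, 6, 7, 1, 0, 3, 2],
  [5, 4, 7, 6, 0, 1, 2, 3], [6, 7, 4, 5, 2, 3, 0, 1], [7, 6, 5, 4, 3, 2, 1, 0]]

/-- the product of indices -/
def mt (k l : ℕ) : ℕ := (mtL.getD k []).getD l 0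

/-- the map of the first four-group cycled by `candA` -/
def sA : ℕ := 17988356225

/-- the representative for the second four-group -/
def sB : ℕ := 58275209716

/-- membership of a code in a list -/
def memC (c : ℕ) (L : List ℕ) : Bool := L.any fun d => Nat.beq d c

/-- moved part of a vector -/
def dlt (c v : ℕ) : ℕ := app c v ^^^ v

/-- fixed vectors -/
def fixB (c v : ℕ) : Bool := Nat.beq (app c v) v

/-- trivial on the factors of the series of an involution -/
def chB (a c : ℕ) : Bool :=
  (List.range 64).all fun v => fixB c (dlt a v) && fixB a (dlt c v) &&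
    (!fixB a v || (List.range 64).any fun u => Nat.beq (dlt a u) (dlt c v))

/-- the generators of the image of an involution -/
def wGen (k : ℕ) : ℕ × ℕ :=
  ([(0, 0), (1, 12), (1, 4), (1, 8), (0, 0), (0, 0), (12, 52), (12, 53)]).getD k (0, 0)

/-- the image of an index, from the images of the two generators -/
def phi (p q k : ℕ) : ℕ :=
  let r := mt p q
  let z := mt r r
  ([0, z, p, mt p z, mt q p, r, q, mt q z]).getD k 0

/-- xor of a list of values -/
def xors (l : List ℕ) : ℕ := l.foldr (fun a b => a ^^^ b) 0

/-- contribution of a generator to a map -/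
def part (cmb : List (List (ℕ × ℕ))) (p : ℕ → ℕ) (i y : ℕ) : ℕ :=
  mk fun v => xors (((cmb.getD (Nat.log2 v) []).filter fun t => Nat.beq t.2 i).map
    fun t => app (dd (p t.1)) y)

/-- the tables of contributions are complete -/
def tabOK (cmb : List (List (ℕ × ℕ))) (p : ℕ → ℕ) (i : ℕ) (ks : List ℕ) (tab : List ℕ) : Bool :=
  (List.range 64).all fun y => (ks.any fun k => !fixB (dd k) y) || memC (part cmb p i y) tab

/-- the unit vectors are the stated combinations -/
def cmbOK (cmb : List (List (ℕ × ℕ))) (es : List ℕ) : Bool :=
  (List.range 6).all fun j => Nat.beq (2 ^ j)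
    (xors ((cmb.getD j []).map fun t => app (dd t.1) (es.getD t.2 0))) &&
    (cmb.getD j []).all fun t => Nat.blt t.1 8 && Nat.blt t.2 es.length

/-- the permutations of indices of the two three-cycles -/
def cycA (k : ℕ) : ℕ := [0, 2, 3, 1, 4, 5, 6, 7].getD k 0

/-- the permutations of indices of the two three-cycles -/
def cycB (k : ℕ) : ℕ := [0, 6, 2, 3, 4, 5, 7, 1].getD k 0

/-- a map with a non-trivial kernel, or of exponent four -/
def testD (c : ℕ) : Bool :=
  Nat.beq (mulC (mulC c c) (mulC c c)) idC ||
    (List.range 64).any fun v => !Nat.beq v 0 && Nat.beq (app c v) 0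

/-- the order is three and `a` inverts -/
def testC (a c : ℕ) : Bool :=
  Nat.beq (mulC c (mulC c c)) idC && Nat.beq (mulC (mulC (mulC a c) a) c) idC

/-- a partial test -/
def preC (u w c : ℕ) : Bool :=
  Nat.beq (app c (app c (app c u))) u && Nat.beq (app c (app c (app c w))) w

/-- a pair of mutually inverse maps normalising the first group -/
def gaugeOK (g : ℕ × ℕ) : Bool :=
  Nat.beq (mulC g.1 g.2) idC && Nat.beq (mulC g.2 g.1) idC &&
    (List.range 8).all fun k => (List.range 8).any fun l =>
      Nat.beq (mulC g.1 (dd k)) (mulC (dd l) g.1)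

/-- a map sending `t` to `h` -/
def gaugeTo (t : ℕ) (h : ℕ) (g : ℕ × ℕ) : Bool :=
  gaugeOK g && Nat.beq (mulC g.1 t) (mulC h g.1)

/-- a word in four maps -/
def wordC (gs : List ℕ) (w : List ℕ) : ℕ := w.foldl (fun a i => mulC a (gs.getD i idC)) idC

/-- either a map to the representative pair or a refuting word -/
def caseC (h : ℕ) : (ℕ × ℕ) ⊕ List ℕ → Bool
  | Sum.inl g => gaugeTo sB h g && lstG1.any fun l => Nat.beq (mulC g.1 sA) (mulC l g.1)
  | Sum.inr w => Nat.beq (mulC (wordC [dd 2, dd 6, sA, h] w) (dd 1))
      (mulC (dd 1) (wordC [dd 2, dd 6, sA, h] w)) && !memC (wordC [dd 2, dd 6, sA, h] w) ddL &&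
      w.all fun i => Nat.blt i 4

/-- a list closed under right multiplication by the generators, each element being a word -/
def grpOK (gs L : List ℕ) (par : List (ℕ × ℕ)) : Bool :=
  Nat.beq (L.getD 0 0) idC && Nat.beq L.length par.length && Nat.blt 0 L.length &&
    ((List.range L.length).all fun i => Nat.beq i 0 ||
      (Nat.blt (par.getD i (0, 0)).1 i && Nat.blt (par.getD i (0, 0)).2 gs.length &&
        Nat.beq (L.getD i 0) (mulC (L.getD (par.getD i (0, 0)).1 0) (gs.getD (par.getD i (0, 0)).2 0)))) &&
    L.all fun x => gs.all fun g => memC (mulC x g) L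

/-- an involution -/
def invB (c : ℕ) : Bool := !Nat.beq c idC && Nat.beq (mulC c c) idC

/-- conjugate to one of the given maps -/
def conjB (L : List ℕ) (ts : List ℕ) (y : ℕ) : Bool :=
  L.any fun m => ts.any fun t => Nat.beq (mulC y m) (mulC m t)

/-- order three -/
def ord3 (c : ℕ) : Bool := !Nat.beq c idC && Nat.beq (mulC c (mulC c c)) idC

/-- order seven -/
def ord7 (c : ℕ) : Bool :=
  !Nat.beq c idC && Nat.beq (mulC c (mulC (mulC c (mulC c c)) (mulC c (mulC c c)))) idC

end CfsgLib.M24Quot
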