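import Cfsg.Agent.Lib.M24Quot.Checks
import Cfsg.Agent.Lib.LocalEven.M24SylTwoQuot
import Cfsg.Agent.Lib.StrongTwoClasses.Tools
import Cfsg.Agent.Lib.Involutions.Isolated

/-!
Coordinates on the abelian subgroup of order 64 of a Sylow 2-subgroup isomorphic to the quotient of
a Sylow 2-subgroup of the Mathieu group of degree 24 by its centre.
-/

set_option autoImplicit false
set_option maxRecDepth 100000
set_option linter.unusedSectionVars false

namespace CfsgLib.M24Quot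

open CfsgLib.LocalEven.M24Syl CfsgLib.Spor in
theorem act_ok : ((List.range 8).all fun k => (List.range 64).all fun m =>
    eqC (compP (rP k) (aP m)) (compP (aP (app (dd k) m)) (rP k))) = true := by
  decide +kernel

/-! ## The table -/

theorem mk_app_canon {c : ℕ} (f : ℕ → ℕ) (hf : ∀ v < 64, app c v = f v) :
    mulC c idC = mk f :=
  mk_congr fun v hv => by rw [app_idC hv, hf v hv]

theorem dd_facts {k : ℕ} (hk : k < 8) : mulC (dd k) idC = dd k ∧
    (∀ l < 8, mt k l < 8 ∧ mulC (dd k) (dd l) = dd (mt k l) ∧ (dd k = dd l → k = l)) ∧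
    ∃ l < 8, mt k l = 0 ∧ mt l k = 0 := by
  have h := dd_ok.1
  simp only [Bool.and_eq_true, List.all_eq_true, List.mem_range, List.any_eq_true, Bool.or_eq_true,
    Bool.not_eq_true', Nat.beq_eq, Nat.blt_eq] at h
  obtain ⟨⟨h1, h2⟩, l, hl, h3⟩ := h k hk
  refine ⟨h1, fun l hl => ⟨(h2 l hl).1.1, (h2 l hl).1.2, fun e => ?_⟩, l, hl, h3⟩
  rcases (h2 l hl).2 with h4 | h4
  · rw [e, Nat.beq_refl] at h4; exact Bool.noConfusion h4
  · exact h4

theorem mt_lt {k l : ℕ} (hk : k < 8) (hl : l < 8) : mt k l < 8 := ((dd_facts hk).2.1 l hl).1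

theorem dd_app_mul {k l v : ℕ} (hk : k < 8) (hl : l < 8) (hv : v < 64) :
    app (dd k) (app (dd l) v) = app (dd (mt k l)) v := by
  rw [← ((dd_facts hk).2.1 l hl).2.1, app_mulC _ _ hv]

theorem dd_zero : dd 0 = idC := Nat.beq_eq.mp dd_ok.2.1

theorem app_dd_zero {v : ℕ} (hv : v < 64) : app (dd 0) v = v := by rw [dd_zero, app_idC hv]

theorem dd_eq {k l : ℕ} (hk : k < 8) (hl : l < 8)
    (h : ∀ v < 64, app (dd k) v = app (dd l) v) : k = l := by
  refine ((dd_facts hk).2.1 l hl).2.2 ?_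
  rw [← (dd_facts hk).1, ← (dd_facts hl).1]
  exact mk_congr fun v hv => by rw [app_idC hv, h v hv]

/-! ## Frames -/

open Subgroup CfsgLib.StrongTwoClasses

universe u

variable {G : Type u} [Group G] [Finite G]

/-- Coordinates on the abelian subgroup of order 64. -/
structure Fr (A : Subgroup G) (S : Sylow 2 G) (E : ℕ → G) : Prop where
  le : A ≤ (S : Subgroup G)
  e_add : ∀ v < 64, ∀ w < 64, E (v ^^^ w) = E v * E w
  e_inj : ∀ v < 64, ∀ w < 64, E v = E w → v = w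
  e_range : ∀ x, x ∈ A ↔ ∃ v < 64, E v = x
  act : ∀ s ∈ (S : Subgroup G), ∃ k < 8,
    (∀ v < 64, s * E v * s⁻¹ = E (app (dd k) v)) ∧ (k = 0 ↔ s ∈ A)
  surj : ∀ k < 8, ∃ s ∈ (S : Subgroup G), ∀ v < 64, s * E v * s⁻¹ = E (app (dd k) v)
  uniq : ∀ B : Subgroup G, B ≤ (S : Subgroup G) → IsMulCommutative B → Nat.card B = 64 → B = A

theorem exists_fr (S : Sylow 2 G) (e : ↥(S : Subgroup G) ≃* CfsgLib.LocalEven.M24Syl.Q)
    (A : Subgroup G) (hA : A ≤ (S : Subgroup G)) (hAc : IsMulCommutative ↥A)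
    (hA64 : Nat.card ↥A = 64)
    (huniq : ∀ B : Subgroup G, B ≤ (S : Subgroup G) → IsMulCommutative ↥B → Nat.card ↥B = 64 →
      B = A) : ∃ E, Fr A S E := by
  classical
  obtain ⟨A₀, a, r, ha, hr, hA₀, hA₀c, hA₀e, rA, hcov⟩ :=
    CfsgLib.LocalEven.M24Syl.exists_space
  have hxor : ∀ {i j : ℕ}, i < 64 → j < 64 → i ^^^ j < 64 := fun {i j} hi hj =>
    Nat.xor_lt_two_pow (n := 6) hi hj
  have am : ∀ i < 64, ∀ j < 64, a i * a j = a (i ^^^ j) := by
    have h := CfsgLib.LocalEven.M24Syl.space_ok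
    simp only [Bool.and_eq_true, List.all_eq_true, List.mem_range, Bool.or_eq_true, Nat.beq_eq,
      Bool.not_eq_true'] at h
    exact fun i hi j hj => ((ha i hi).mul (ha j hj)).eq_of_eqC (ha _ (hxor hi hj)) (h.1.1.1 i hi j hj)
  have hra : ∀ k < 8, ∀ m < 64, r k * a m = a (app (dd k) m) * r k := by
    have h := act_ok
    simp only [List.all_eq_true, List.mem_range] at h
    exact fun k hk m hm => ((hr k hk).mul (ha m hm)).eq_of_eqC
      ((ha _ (app_lt _ _)).mul (hr k hk)) (h k hk m hm)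
  have hmap : ∀ x : ↥(S : Subgroup G), (x : G) ∈ A ↔ e x ∈ A₀ := by
    have h1 : (A.subgroupOf (S : Subgroup G)).map e.toMonoidHom = A₀ := by
      refine CfsgLib.LocalEven.M24Syl.abelian_eq ha hr hA₀ hA₀c (fun x hx y hy =>
        congrArg Subtype.val (hA₀e.1.is_comm.comm (⟨x, hx⟩ : ↥A₀) ⟨y, hy⟩)) rA hcov ⟨⟨?_⟩⟩ ?_
      · rintro ⟨_, x, hx, rfl⟩ ⟨_, y, hy, rfl⟩
        refine Subtype.ext ?_
        have h : x * y = y * x := Subtype.ext (congrArg Subtype.val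
          (hAc.is_comm.comm (⟨_, mem_subgroupOf.1 hx⟩ : ↥A) ⟨_, mem_subgroupOf.1 hy⟩) :)
        exact (map_mul e x y).symm.trans ((congrArg e h).trans (map_mul e y x))
      · exact (card_map_of_injective (f := e.toMonoidHom) e.injective).trans
          ((Nat.card_congr (subgroupOfEquivOfLe hA).toEquiv).trans hA64)
    intro x
    rw [← h1]
    exact ⟨fun h => ⟨x, mem_subgroupOf.2 h, rfl⟩, fun ⟨y, hy, hxy⟩ => by
      rw [← e.injective hxy]; exact mem_subgroupOf.1 hy⟩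
  have ainj : ∀ i < 64, ∀ j < 64, a i = a j → i = j := by
    have hb : Function.Bijective (fun m : Fin 64 => (⟨a m, (hA₀ _).2 ⟨m, m.2, rfl⟩⟩ : ↥A₀)) := by
      rw [Nat.bijective_iff_surjective_and_card]
      exact ⟨fun ⟨x, hx⟩ => let ⟨m, hm, h⟩ := (hA₀ x).1 hx; ⟨⟨m, hm⟩, Subtype.ext h⟩,
        by rw [hA₀c, Nat.card_fin]⟩
    exact fun i hi j hj h => congrArg Fin.val
      (hb.1 (Subtype.ext h : (⟨a (⟨i, hi⟩ : Fin 64), _⟩ : ↥A₀) = ⟨a (⟨j, hj⟩ : Fin 64), _⟩))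
  refine ⟨fun v => (e.symm (a v) : G), hA, fun v hv w hw => ?_, fun v hv w hw h =>
    ainj v hv w hw (e.symm.injective (Subtype.ext h)), fun x => ⟨fun hx => ?_, ?_⟩,
    fun s hs => ?_, fun k hk => ?_, huniq⟩
  · rw [← am v hv w hw, map_mul]; rfl
  · obtain ⟨m, hm, h⟩ := (hA₀ _).1 ((hmap ⟨x, hA hx⟩).1 hx)
    exact ⟨m, hm, by rw [h, MulEquiv.symm_apply_apply]⟩
  · rintro ⟨v, hv, rfl⟩
    rw [hmap, MulEquiv.apply_symm_apply]
    exact (hA₀ _).2 ⟨v, hv, rfl⟩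
  · obtain ⟨k, hk, m, hm, h⟩ := hcov (e ⟨s, hs⟩)
    refine ⟨k, hk, fun v hv => ?_, ?_⟩
    · have h1 : e ⟨s, hs⟩ * a v * (e ⟨s, hs⟩)⁻¹ = a (app (dd k) v) := by
        rw [← h, mul_inv_eq_iff_eq_mul, ← mul_assoc, ← hra k hk v hv, mul_assoc, am m hm v hv,
          Nat.xor_comm, ← am v hv m hm, mul_assoc]
      have h2 := congrArg (fun x => (e.symm x : G)) h1
      simpa using h2
    · rw [← rA k hk, show s ∈ A ↔ r k * a m ∈ A₀ by rw [h]; exact hmap ⟨s, hs⟩,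
        mul_mem_cancel_right ((hA₀ _).2 ⟨m, hm, rfl⟩)]
  · refine ⟨e.symm (r k), Subtype.coe_prop _, fun v hv => ?_⟩
    have h1 : r k * a v * (r k)⁻¹ = a (app (dd k) v) := by
      rw [mul_inv_eq_iff_eq_mul, hra k hk v hv]
    have h2 := congrArg (fun x => (e.symm x : G)) h1
    simpa using h2

namespace Fr

variable {A : Subgroup G} {S : Sylow 2 G} {E : ℕ → G} (f : Fr A S E)
include f

theorem e_zero : E 0 = 1 := by
  have h := f.e_add 0 (by norm_num) 0 (by norm_num)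
  simpa using h

theorem e_mem {v : ℕ} (hv : v < 64) : E v ∈ A := (f.e_range _).2 ⟨v, hv, rfl⟩

theorem comm {a b : G} (ha : a ∈ A) (hb : b ∈ A) : a * b = b * a := by
  obtain ⟨v, hv, rfl⟩ := (f.e_range _).1 ha
  obtain ⟨w, hw, rfl⟩ := (f.e_range _).1 hb
  rw [← f.e_add v hv w hw, ← f.e_add w hw v hv, Nat.xor_comm]

theorem sq {a : G} (ha : a ∈ A) : a * a = 1 := by
  obtain ⟨v, hv, rfl⟩ := (f.e_range _).1 ha
  rw [← f.e_add v hv v hv, Nat.xor_self, f.e_zero]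

theorem inv_eq {a : G} (ha : a ∈ A) : a⁻¹ = a := inv_eq_of_mul_eq_one_right (f.sq ha)

theorem isPGroup : IsPGroup 2 A := fun x => ⟨1, Subtype.ext (by simp [pow_two, f.sq x.2])⟩

theorem card_eq : Nat.card A = 64 := by
  rw [← Nat.card_fin 64]
  refine (Nat.card_eq_of_bijective (fun v : Fin 64 => (⟨E v, f.e_mem v.2⟩ : A)) ⟨?_, ?_⟩).symm
  · exact fun v w h => Fin.ext (f.e_inj v v.2 w w.2 (congrArg Subtype.val h))
  · rintro ⟨x, hx⟩
    obtain ⟨v, hv, rfl⟩ := (f.e_range _).1 hx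
    exact ⟨⟨v, hv⟩, rfl⟩

theorem isMulCommutative : IsMulCommutative A :=
  ⟨⟨fun x y => Subtype.ext (f.comm x.2 y.2)⟩⟩

theorem conj_mem {s a : G} (hs : s ∈ (S : Subgroup G)) (ha : a ∈ A) : s * a * s⁻¹ ∈ A := by
  obtain ⟨v, hv, rfl⟩ := (f.e_range _).1 ha
  obtain ⟨k, hk, h, -⟩ := f.act s hs
  rw [h v hv]; exact f.e_mem (app_lt _ _)

theorem index_unique {k l : ℕ} (hk : k < 8) (hl : l < 8) {s : G}
    (h : ∀ v < 64, s * E v * s⁻¹ = E (app (dd k) v))
    (h' : ∀ v < 64, s * E v * s⁻¹ = E (app (dd l) v)) : k = l :=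
  dd_eq hk hl fun v hv => f.e_inj _ (app_lt _ _) _ (app_lt _ _) ((h v hv).symm.trans (h' v hv))

theorem index_mul {k l : ℕ} (hk : k < 8) (hl : l < 8) {s t : G}
    (h : ∀ v < 64, s * E v * s⁻¹ = E (app (dd k) v))
    (h' : ∀ v < 64, t * E v * t⁻¹ = E (app (dd l) v)) :
    ∀ v < 64, s * t * E v * (s * t)⁻¹ = E (app (dd (mt k l)) v) := by
  intro v hv
  rw [← dd_app_mul hk hl hv, ← h _ (app_lt _ _), ← h' v hv]
  group

/-- The frame conjugated by an element. -/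
theorem conj (g : G) :
    Fr (A.map (MulAut.conj g).toMonoidHom) (g • S) (fun v => g * E v * g⁻¹) := by
  have hmS : ∀ x, x ∈ ((g • S : Sylow 2 G) : Subgroup G) ↔ g⁻¹ * x * g ∈ (S : Subgroup G) :=
    fun x => CfsgLib.Involutions.mem_smul_sylow_iff'
  have hmA : ∀ x, x ∈ A.map (MulAut.conj g).toMonoidHom ↔ g⁻¹ * x * g ∈ A := by
    intro x
    constructor
    · rintro ⟨a, ha, rfl⟩
      simpa [mul_assoc] using ha
    · exact fun h => ⟨_, h, by simp [mul_assoc]⟩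
  refine ⟨fun x hx => (hmS x).2 (f.le ((hmA x).1 hx)), fun v hv w hw => ?_,
    fun v hv w hw h => f.e_inj v hv w hw (mul_left_cancel (mul_right_cancel h)),
    fun x => ?_, fun s hs => ?_, fun k hk => ?_, fun B hB hBc hB64 => ?_⟩
  · rw [f.e_add v hv w hw]; group
  · rw [hmA, f.e_range]
    refine ⟨fun ⟨v, hv, h⟩ => ⟨v, hv, ?_⟩, fun ⟨v, hv, h⟩ => ⟨v, hv, ?_⟩⟩
    · rw [h]; group
    · rw [← h]; group
  · obtain ⟨k, hk, h, h0⟩ := f.act _ ((hmS s).1 hs)
    refine ⟨k, hk, fun v hv => ?_, h0.trans (hmA s).symm⟩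
    rw [← h v hv]; group
  · obtain ⟨s, hs, h⟩ := f.surj k hk
    refine ⟨g * s * g⁻¹, (hmS _).2 (by simpa [mul_assoc] using hs), fun v hv => ?_⟩
    rw [← h v hv]; group
  · have hle : B.map (MulAut.conj g⁻¹).toMonoidHom ≤ (S : Subgroup G) := by
      rintro _ ⟨b, hb, rfl⟩
      simpa [mul_assoc] using (hmS b).1 (hB hb)
    have hc : IsMulCommutative ↥(B.map (MulAut.conj g⁻¹).toMonoidHom) := by
      refine ⟨⟨?_⟩⟩
      rintro ⟨_, x, hx, rfl⟩ ⟨_, y, hy, rfl⟩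
      refine Subtype.ext ?_
      have h : x * y = y * x :=
        congrArg Subtype.val (hBc.is_comm.comm (⟨x, hx⟩ : ↥B) ⟨y, hy⟩)
      show MulAut.conj g⁻¹ x * MulAut.conj g⁻¹ y = MulAut.conj g⁻¹ y * MulAut.conj g⁻¹ x
      rw [← map_mul, h, map_mul]
    have he := f.uniq _ hle hc
      ((card_map_of_injective (MulAut.conj g⁻¹).injective).trans hB64)
    rw [← he, map_map]
    ext x
    simp [mul_assoc]

omit f in
theorem congr {A' : Subgroup G} (h : A' = A) (f : Fr A S E) : Fr A' S E := h ▸ f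

/-- A 2-subgroup containing `A` lies in a Sylow subgroup with a frame for `A`. -/
theorem exists_ge {T : Subgroup G} (hT : IsPGroup 2 T) (hAT : A ≤ T) :
    ∃ S' E', Fr A S' E' ∧ T ≤ (S' : Subgroup G) := by
  haveI : Fact (Nat.Prime 2) := ⟨Nat.prime_two⟩
  obtain ⟨S', hS'⟩ := hT.exists_le_sylow
  obtain ⟨g, rfl⟩ := MulAction.exists_smul_eq G S S'
  have f' := f.conj g
  have hA' : A = A.map (MulAut.conj g).toMonoidHom :=
    f'.uniq A (hAT.trans hS') f.isMulCommutative f.card_eq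
  exact ⟨g • S, _, f'.congr hA', hS'⟩

theorem le_normalizer {T : Subgroup G} (hT : IsPGroup 2 T) (hAT : A ≤ T) :
    T ≤ normalizer (A : Set G) := by
  obtain ⟨S', E', f', hT'⟩ := f.exists_ge hT hAT
  exact fun t ht => mem_normalizer_of_forall fun a ha => f'.conj_mem (hT' ht) ha

theorem uniq_of {T : Subgroup G} (hT : IsPGroup 2 T) (hAT : A ≤ T) {B : Subgroup G}
    (hB : B ≤ T) (hBc : IsMulCommutative B) (hB64 : Nat.card B = 64) : B = A := by
  obtain ⟨S', E', f', hT'⟩ := f.exists_ge hT hAT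
  exact f'.uniq B (hB.trans hT') hBc hB64

end Fr

end CfsgLib.M24Quot
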