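import Cfsg.Agent.Lib.M24Quot.Data

/-!
The search for the first three-cycle.
-/

set_option autoImplicit false
set_option maxRecDepth 100000

namespace CfsgLib.M24Quot

theorem srchA : (tabA0.all fun a => tabA1.all fun b => tabA2.all fun c =>
    !preC 32 2 (a ^^^ b ^^^ c) || !testC (dd 6) (a ^^^ b ^^^ c) ||
      memC (mulC (a ^^^ b ^^^ c) idC) candA) = true := by
  decide +kernel

end CfsgLib.M24Quot
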