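import Cfsg.Agent.Lib.M24Quot.Centre
import Cfsg.Agent.Lib.M24Quot.SearchA
import Cfsg.Agent.Lib.M24Quot.SearchB

/-!
Fusion of the involutions of the first group and the elements of order three it produces.
-/

set_option autoImplicit false
set_option maxRecDepth 100000
set_option linter.unusedSectionVars false
set_option linter.style.haveILetI false

namespace CfsgLib.M24Quot

open Subgroup

theorem mulC_congr {a a' b b' : ℕ} (ha : ∀ v < 64, app a v = app a' v)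
    (hb : ∀ v < 64, app b v = app b' v) : mulC a b = mulC a' b' :=
  mk_congr fun v hv => by rw [hb v hv, ha _ (app_lt _ _)]

/-- The eight permutations. -/
structure Dd (X : Subgroup P64) (d : ℕ → P64) : Prop where
  mem : ∀ k < 8, d k ∈ X
  code_eq : ∀ k < 8, code (d k) = dd k
  mul : ∀ k < 8, ∀ l < 8, d k * d l = d (mt k l)
  inj : ∀ k < 8, ∀ l < 8, d k = d l → k = l
  zero : d 0 = 1
  isD : ∀ σ ∈ X, IsD σ → ∃ k < 8, σ = d k

namespace Au

variable {X : Subgroup P64} (a : Au X)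
include a

theorem exists_dd : ∃ d : ℕ → P64, Dd X d := by
  classical
  choose d hd hde using a.mem
  refine ⟨fun k => if h : k < 8 then d k h else 1, ?_⟩
  have e : ∀ k, ∀ h : k < 8, (if h : k < 8 then d k h else 1) = d k h := fun k h => dif_pos h
  refine ⟨fun k h => ?_, fun k h => ?_, fun k hk l hl => ?_, fun k hk l hl he => ?_, ?_,
    fun σ hσ ⟨k, hk, he⟩ => ⟨k, hk, ?_⟩⟩
  · rw [e k h]; exact hd k h
  · rw [e k h]; exact hde k h
  · have hm := (dd_mul hk hl).1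
    rw [e k hk, e l hl, e _ hm]
    exact a.ext (mul_mem (hd k hk) (hd l hl)) (hd _ hm) (by
      rw [hde, a.code_mul (hd k hk) (hd l hl), hde, hde, (dd_mul hk hl).2.1])
  · rw [e k hk, e l hl] at he
    exact (dd_mul hk hl).2.2 (by rw [← hde k hk, ← hde l hl, he])
  · rw [e 0 (by norm_num)]
    exact a.ext (hd 0 _) (one_mem X) (by rw [hde, code_one, dd_zero'])
  · rw [e k hk]; exact a.ext hσ (hd k hk) (by rw [hde, he])

theorem code_comm {σ τ : P64} (hσ : σ ∈ X) (hτ : τ ∈ X) (h : σ * τ = τ * σ) :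
    mulC (code σ) (code τ) = mulC (code τ) (code σ) := by
  rw [← a.code_mul hσ hτ, ← a.code_mul hτ hσ, h]

theorem eq_d_of_comm {d : ℕ → P64} (hd : Dd X d) {σ : P64} (hσ : σ ∈ X)
    (h : σ * d 1 = d 1 * σ) : ∃ k < 8, σ = d k := by
  refine hd.isD σ hσ (a.isD_of_comm hσ ?_)
  have := a.code_comm hσ (hd.mem 1 (by norm_num)) h
  rwa [hd.code_eq 1 (by norm_num)] at this

end Au

theorem dd_comm_facts : ([2, 6].all fun b =>
    Nat.beq (mt b b) 0 && Nat.beq (mt 1 b) (mt b 1) && Nat.beq (mt (mt b 1) b) 1 &&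
    ((List.range 8).all fun l => !Nat.beq (mt b l) (mt l b) ||
      (Nat.beq (mt l l) 0 && [0, 1, b, mt 1 b].any (Nat.beq l))) &&
    [0, 1, b, mt 1 b].all (fun l => Nat.blt l 8 && Nat.beq (mt b l) (mt l b)) &&
    ((List.range 8).any fun e => Nat.beq (mt e e) 0 && Nat.beq (mt (mt e b) e) (mt 1 b) &&
      Nat.beq (mt (mt e (mt 1 b)) e) b)) = true ∧
    ((List.range 8).all fun i => !Nat.beq (mt i i) 0 || [0, 1].any (Nat.beq i) ||
      (((List.range 8).all fun l => !Nat.beq (mt i l) (mt l i) ||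
        [0, 1, i, mt 1 i].any (Nat.beq l)) &&
      (List.range 8).any fun e => Nat.beq (mt e e) 0 && Nat.beq (mt (mt e 1) e) 1 &&
        Nat.beq (mt (mt e i) e) (mt 1 i))) = true := by
  decide +kernel

namespace Au

variable {X : Subgroup P64} (a : Au X)
include a

/-- The centralizer of an involution not conjugate to the central one. -/
theorem cent_of_not_fused {d : ℕ → P64} (hd : Dd X d) {b : ℕ} (hb : b = 2 ∨ b = 6)
    (hnf : ∀ g ∈ X, g * d b * g⁻¹ ≠ d 1) {σ : P64} (hσ : σ ∈ X) (hc : σ * d b = d b * σ) :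
    ∃ k < 8, σ = d k := by
  classical
  haveI : Fact (Nat.Prime 2) := ⟨Nat.prime_two⟩
  have hb8 : b < 8 := by rcases hb with rfl | rfl <;> norm_num
  have hbm : b ∈ [2, 6] := by simpa using hb
  have hf := dd_comm_facts
  simp only [List.all_eq_true, List.mem_range, List.any_eq_true, Bool.and_eq_true, Bool.or_eq_true,
    Bool.not_eq_true', Nat.beq_eq, Nat.blt_eq] at hf
  obtain ⟨hf1, hf2⟩ := hf
  obtain ⟨⟨⟨⟨⟨hbb, hb1⟩, -⟩, hb4⟩, hb5⟩, e, he, ⟨hee, heb⟩, -⟩ := hf1 b hbm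
  have hch := chain_ok
  simp only [List.all_eq_true, List.mem_range, Bool.and_eq_true, Bool.or_eq_true,
    Bool.not_eq_true', Nat.beq_eq] at hch
  obtain ⟨N, hNX, hN2, hN, hNc⟩ := a.exists_chainGroup hb8 hbb
  set P := N ⊓ centralizer ({d b} : Set P64) with hP
  have hDP : ∀ l ∈ [0, 1, b, mt 1 b], d l ∈ P := by
    intro l hl
    obtain ⟨hl8, hlb⟩ := hb5 l hl
    refine mem_inf.2 ⟨(hN _).2 ⟨hd.mem l hl8, ?_⟩, mem_centralizer_singleton_iff.2 ?_⟩
    · rw [hd.code_eq l hl8]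
      refine Ch.of_chB ?_
      rcases (hch b (by rcases hb with rfl | rfl <;> simp)).2 l hl8 with h | h
      · rw [hlb, Nat.beq_refl] at h; exact Bool.noConfusion h
      · exact h
    · rw [hd.mul l hl8 b hb8, hd.mul b hb8 l hl8, hlb]
  obtain ⟨g, hg, hgP⟩ := a.exists_conj (hN2.to_le (inf_le_left : P ≤ N)) (inf_le_left.trans hNX)
  have hgd : ∀ t ∈ P, ∃ k < 8, g⁻¹ * t * g = d k := fun t ht =>
    hd.isD _ (mul_mem (mul_mem (inv_mem hg) (hNX ht.1)) hg) (hgP t ht)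
  obtain ⟨i, hi, hgi⟩ := hgd _ (hDP b (by simp))
  have hsq : d b * d b = 1 := by rw [hd.mul b hb8 b hb8, hbb, hd.zero]
  have hii : mt i i = 0 := hd.inj _ (dd_mul hi hi).1 _ (by norm_num) (by
    rw [← hd.mul i hi i hi, ← hgi, hd.zero,
      show g⁻¹ * d b * g * (g⁻¹ * d b * g) = g⁻¹ * (d b * d b) * g by group, hsq]; group)
  have hdbg : d b = g * d i * g⁻¹ := by rw [← hgi]; group
  have hi01 : i ≠ 0 ∧ i ≠ 1 := by
    refine ⟨fun h => ?_, fun h => hnf g⁻¹ (inv_mem hg) (by rw [hdbg, h]; group)⟩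
    have : d b = d 0 := by rw [hdbg, h, hd.zero]; group
    have := hd.inj b hb8 0 (by norm_num) this
    rcases hb with rfl | rfl <;> omega
  obtain ⟨hicent, -⟩ := (hf2 i hi).resolve_left (by
    rintro (h | ⟨y, hy, h⟩)
    · rw [hii, Nat.beq_refl] at h; exact Bool.noConfusion h
    · simp only [List.mem_cons, List.not_mem_nil, or_false] at hy
      rcases hy with rfl | rfl
      exacts [hi01.1 h, hi01.2 h])
  have hPle : (P : Set P64) ⊆ ([0, 1, b, mt 1 b].map d).toFinset := by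
    have h1 : (P : Set P64) ⊆ ([0, 1, i, mt 1 i].map fun k => g * d k * g⁻¹).toFinset := by
      intro t ht
      obtain ⟨k, hk, e⟩ := hgd t ht
      have hcomm : mt i k = mt k i := hd.inj _ (dd_mul hi hk).1 _ (dd_mul hk hi).1 (by
        rw [← hd.mul i hi k hk, ← hd.mul k hk i hi, ← hgi, ← e]
        calc g⁻¹ * d b * g * (g⁻¹ * t * g) = g⁻¹ * (d b * t) * g := by group
          _ = g⁻¹ * (t * d b) * g := by rw [mem_centralizer_singleton_iff.1 ht.2]
          _ = _ := by group)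
      obtain ⟨y, hy, hky⟩ := (hicent k hk).resolve_left (by
        rw [hcomm, Nat.beq_refl]; simp)
      simp only [Finset.mem_coe, List.mem_toFinset, List.mem_map]
      exact ⟨k, hky ▸ hy, by rw [← e]; group⟩
    have h2 : (([0, 1, b, mt 1 b].map d).toFinset : Set P64) ⊆ (P : Set P64) := by
      intro t ht
      simp only [Finset.mem_coe, List.mem_toFinset, List.mem_map] at ht
      obtain ⟨l, hl, rfl⟩ := ht
      exact hDP l hl
    have hnd : ([0, 1, b, mt 1 b].map d).Nodup := by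
      refine (List.nodup_map_iff_inj_on (by rcases hb with rfl | rfl <;> decide)).2 ?_
      exact fun x hx y hy h => hd.inj x (hb5 x hx).1 y (hb5 y hy).1 h
    have h3 := List.toFinset_card_le ([0, 1, i, mt 1 i].map fun k => g * d k * g⁻¹)
    have h4 := List.toFinset_card_of_nodup hnd
    simp only [List.length_map, List.length_cons, List.length_nil] at h3 h4
    refine subset_of_eq (Set.eq_of_subset_of_ncard_le h2 ?_ (Set.toFinite _)).symm
    rw [Set.ncard_coe_finset, h4]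
    exact le_trans (Set.ncard_le_ncard h1) (by rw [Set.ncard_coe_finset]; exact h3)
  have hd1P : σ * d 1 * σ⁻¹ ∈ P := by
    have h1 := hDP 1 (by simp)
    refine mem_inf.2 ⟨hNc σ hσ ?_ _ h1.1, mem_centralizer_singleton_iff.2 ?_⟩
    · have := a.code_comm hσ (hd.mem b hb8) hc
      rwa [hd.code_eq b hb8] at this
    · have h2 := mem_centralizer_singleton_iff.1 h1.2
      have h3 : σ⁻¹ * d b = d b * σ⁻¹ := by
        rw [eq_mul_inv_iff_mul_eq, mul_assoc, ← hc, inv_mul_cancel_left]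
      calc σ * d 1 * σ⁻¹ * d b = σ * d 1 * (σ⁻¹ * d b) := by group
        _ = σ * (d 1 * d b) * σ⁻¹ := by rw [h3]; group
        _ = σ * d b * d 1 * σ⁻¹ := by rw [h2]; group
        _ = _ := by rw [hc]; group
  have := hPle hd1P
  simp only [Finset.mem_coe, List.mem_toFinset, List.map_cons, List.map_nil, List.mem_cons,
    List.not_mem_nil, or_false] at this
  rcases this with h | h | h | h
  · exfalso
    rw [hd.zero, mul_inv_eq_one] at h
    have := hd.inj 1 (by norm_num) 0 (by norm_num) (by rw [hd.zero]; simpa using h)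
    omega
  · exact a.eq_d_of_comm hd hσ (mul_inv_eq_iff_eq_mul.1 h)
  · exact absurd (by rw [← h]; group) (hnf σ⁻¹ (inv_mem hσ))
  · exfalso
    refine hnf (σ⁻¹ * d e) (mul_mem (inv_mem hσ) (hd.mem e he)) ?_
    have hei : (d e)⁻¹ = d e := inv_eq_of_mul_eq_one_right (by rw [hd.mul e he e he, hee, hd.zero])
    calc σ⁻¹ * d e * d b * (σ⁻¹ * d e)⁻¹ = σ⁻¹ * (d e * d b * (d e)⁻¹) * σ := by group
      _ = σ⁻¹ * d (mt 1 b) * σ := by
        rw [hei, hd.mul e he b hb8, hd.mul _ (dd_mul he hb8).1 e he, heb]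
      _ = d 1 := by rw [← h]; group

/-- An element of order three from a fusion. -/
theorem exists_three {d : ℕ → P64} (hd : Dd X d) {b c : ℕ} (hbc : b = 2 ∧ c = 6 ∨ b = 6 ∧ c = 2)
    {g : P64} (hg : g ∈ X) (hfus : g * d b * g⁻¹ = d 1) :
    ∃ h ∈ X, h * d 1 = d b * h ∧ h * d b = d (mt b 1) * h ∧ h * h * h = 1 ∧
      d c * h * d c * h = 1 := by
  have hb : b = 2 ∨ b = 6 := by rcases hbc with ⟨rfl, -⟩ | ⟨rfl, -⟩ <;> simp
  have hb8 : b < 8 := by rcases hb with rfl | rfl <;> norm_num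
  have hc8 : c < 8 := by rcases hbc with ⟨-, rfl⟩ | ⟨-, rfl⟩ <;> norm_num
  have hf := dd_comm_facts
  simp only [List.all_eq_true, List.mem_range, List.any_eq_true, Bool.and_eq_true, Bool.or_eq_true,
    Bool.not_eq_true', Nat.beq_eq, Nat.blt_eq] at hf
  obtain ⟨hf1, hf2⟩ := hf
  obtain ⟨⟨⟨⟨⟨hbb, hb1⟩, -⟩, hb4⟩, -⟩, -⟩ := hf1 b (by simpa using hb)
  have h31 : mt b 1 < 8 := (dd_mul hb8 (by norm_num)).1
  have hsym : mt (mt c 1) c = 1 ∧ mt (mt c b) c = mt b 1 ∧ mt (mt c (mt b 1)) c = b ∧ mt c c = 0 := by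
    rcases hbc with ⟨rfl, rfl⟩ | ⟨rfl, rfl⟩ <;> decide
  have sq : ∀ k < 8, mt k k = 0 → d k * d k = 1 := fun k hk h => by
    rw [hd.mul k hk k hk, h, hd.zero]
  -- the image of the central involution
  have hd11 : d 1 * d 1 = 1 := sq 1 (by norm_num) rfl
  obtain ⟨i, hi, hgi⟩ : ∃ i < 8, g * d 1 * g⁻¹ = d i := by
    refine a.eq_d_of_comm hd (mul_mem (mul_mem hg (hd.mem 1 (by norm_num))) (inv_mem hg)) ?_
    have : g * d 1 * g⁻¹ * (g * d b * g⁻¹) = g * d b * g⁻¹ * (g * d 1 * g⁻¹) := by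
      calc g * d 1 * g⁻¹ * (g * d b * g⁻¹) = g * (d 1 * d b) * g⁻¹ := by group
        _ = g * (d b * d 1) * g⁻¹ := by
          rw [hd.mul 1 (by norm_num) b hb8, hd.mul b hb8 1 (by norm_num), hb1]
        _ = _ := by group
    rwa [hfus] at this
  have hii : mt i i = 0 := hd.inj _ (dd_mul hi hi).1 _ (by norm_num) (by
    rw [← hd.mul i hi i hi, ← hgi, hd.zero,
      show g * d 1 * g⁻¹ * (g * d 1 * g⁻¹) = g * (d 1 * d 1) * g⁻¹ by group, hd11]; group)
  obtain ⟨-, e, he, ⟨hee, he1⟩, hei⟩ := (hf2 i hi).resolve_left (by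
    rintro (h | ⟨y, hy, h⟩)
    · rw [hii, Nat.beq_refl] at h; exact Bool.noConfusion h
    · simp only [List.mem_cons, List.not_mem_nil, or_false] at hy
      rcases hy with rfl | rfl <;> rw [h] at hgi
      · rw [hd.zero, mul_inv_eq_one] at hgi
        have := hd.inj 1 (by norm_num) 0 (by norm_num) (by rw [hd.zero]; simpa using hgi)
        omega
      · have : d 1 = d b := mul_left_cancel (mul_right_cancel (hgi.trans hfus.symm))
        have := hd.inj 1 (by norm_num) b hb8 this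
        rcases hb with rfl | rfl <;> omega)
  set q := g⁻¹ * d e * g with hq
  have hqX : q ∈ X := mul_mem (mul_mem (inv_mem hg) (hd.mem e he)) hg
  have hq2 : q * q = 1 := by
    rw [hq, show g⁻¹ * d e * g * (g⁻¹ * d e * g) = g⁻¹ * (d e * d e) * g by group, sq e he hee]
    group
  have conjd : ∀ k < 8, ∀ l < 8, d l * d k * d l = d (mt (mt l k) l) := fun k hk l hl => by
    rw [hd.mul l hl k hk, hd.mul _ (dd_mul hl hk).1 l hl]
  have hqb : q * d b * q = d b := by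
    calc q * d b * q = g⁻¹ * (d e * (g * d b * g⁻¹) * d e) * g := by rw [hq]; group
      _ = g⁻¹ * d 1 * g := by rw [hfus, conjd 1 (by norm_num) e he, he1]
      _ = d b := by rw [← hfus]; group
  have hq1 : q * d 1 * q = d (mt b 1) := by
    calc q * d 1 * q = g⁻¹ * (d e * (g * d 1 * g⁻¹) * d e) * g := by rw [hq]; group
      _ = g⁻¹ * (d 1 * d i) * g := by
        rw [hgi, conjd i hi e he, hei, ← hd.mul 1 (by norm_num) i hi]
      _ = g⁻¹ * (g * d b * g⁻¹ * (g * d 1 * g⁻¹)) * g := by rw [hgi, hfus]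
      _ = d b * d 1 := by group
      _ = _ := hd.mul b hb8 1 (by norm_num)
  set h₀ := d c * q with hh₀
  have hc2 : d c * d c = 1 := sq c hc8 hsym.2.2.2
  have hh0X : h₀ ∈ X := mul_mem (hd.mem c hc8) hqX
  have hinv : h₀⁻¹ = q * d c := by
    rw [hh₀, mul_inv_rev, inv_eq_of_mul_eq_one_right hq2, inv_eq_of_mul_eq_one_right hc2]
  have a1 : h₀ * d b * h₀⁻¹ = d (mt b 1) := by
    calc h₀ * d b * h₀⁻¹ = d c * (q * d b * q) * d c := by rw [hinv, hh₀]; group
      _ = _ := by rw [hqb, conjd b hb8 c hc8, hsym.2.1]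
  have a2 : h₀ * d 1 * h₀⁻¹ = d b := by
    calc h₀ * d 1 * h₀⁻¹ = d c * (q * d 1 * q) * d c := by rw [hinv, hh₀]; group
      _ = _ := by rw [hq1, conjd _ h31 c hc8, hsym.2.2.1]
  have a3 : h₀ * d (mt b 1) * h₀⁻¹ = d 1 := by
    have : mt (mt b 1) b = 1 := by rcases hb with rfl | rfl <;> rfl
    rw [← hd.mul b hb8 1 (by norm_num)]
    calc h₀ * (d b * d 1) * h₀⁻¹ = (h₀ * d b * h₀⁻¹) * (h₀ * d 1 * h₀⁻¹) := by group
      _ = _ := by rw [a1, a2, hd.mul _ h31 b hb8, this]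
  have c1 : h₀ ^ 3 * d 1 * (h₀ ^ 3)⁻¹ = d 1 := by
    calc h₀ ^ 3 * d 1 * (h₀ ^ 3)⁻¹ = h₀ * (h₀ * (h₀ * d 1 * h₀⁻¹) * h₀⁻¹) * h₀⁻¹ := by
          simp only [pow_succ, pow_zero, one_mul]; group
      _ = _ := by rw [a2, a1, a3]
  have cb : h₀ ^ 3 * d b * (h₀ ^ 3)⁻¹ = d b := by
    calc h₀ ^ 3 * d b * (h₀ ^ 3)⁻¹ = h₀ * (h₀ * (h₀ * d b * h₀⁻¹) * h₀⁻¹) * h₀⁻¹ := by
          simp only [pow_succ, pow_zero, one_mul]; group
      _ = _ := by rw [a1, a3, a2]
  obtain ⟨l, hl, hhl⟩ := a.eq_d_of_comm hd (pow_mem hh0X 3) (mul_inv_eq_iff_eq_mul.1 c1)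
  have h6 : h₀ ^ 3 * h₀ ^ 3 = 1 := by
    have hlb : mt b l = mt l b := hd.inj _ (dd_mul hb8 hl).1 _ (dd_mul hl hb8).1 (by
      rw [← hd.mul b hb8 l hl, ← hd.mul l hl b hb8, ← hhl]
      exact (mul_inv_eq_iff_eq_mul.1 cb).symm)
    rw [hhl, sq l hl]
    rcases hb4 l hl with h | h
    · rw [hlb, Nat.beq_refl] at h; exact Bool.noConfusion h
    · exact h.1
  have h4 : ∀ y : P64, h₀ ^ 3 * y * (h₀ ^ 3)⁻¹ = y →
      h₀ ^ 4 * y * (h₀ ^ 4)⁻¹ = h₀ * y * h₀⁻¹ := by
    intro y hy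
    calc h₀ ^ 4 * y * (h₀ ^ 4)⁻¹ = h₀ * (h₀ ^ 3 * y * (h₀ ^ 3)⁻¹) * h₀⁻¹ := by group
      _ = _ := by rw [hy]
  refine ⟨h₀ ^ 4, pow_mem hh0X 4, mul_inv_eq_iff_eq_mul.1 ((h4 _ c1).trans a2),
    mul_inv_eq_iff_eq_mul.1 ((h4 _ cb).trans a1), ?_, ?_⟩
  · calc h₀ ^ 4 * h₀ ^ 4 * h₀ ^ 4 = (h₀ ^ 3 * h₀ ^ 3) * (h₀ ^ 3 * h₀ ^ 3) := by
          simp only [← pow_add]
      _ = 1 := by rw [h6, one_mul]
  · have hci : (d c)⁻¹ = d c := inv_eq_of_mul_eq_one_right hc2
    have : d c * h₀ ^ 4 * (d c)⁻¹ = (h₀ ^ 4)⁻¹ := by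
      rw [← conj_pow, ← inv_pow, hci]
      congr 1
      rw [hinv, hh₀, ← mul_assoc, hc2, one_mul]
    rw [hci] at this
    rw [this, inv_mul_cancel]

end Au

end CfsgLib.M24Quot
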