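import Cfsg.Agent.Lib.M24Quot.Fusion

/-!
The candidates for the elements of order three, the listed groups, and changes of coordinates.
-/

set_option autoImplicit false
set_option maxRecDepth 100000
set_option linter.unusedSectionVars false
set_option linter.style.haveILetI false

namespace CfsgLib.M24Quot

open Subgroup

theorem mulC_assoc (a b c : ℕ) : mulC (mulC a b) c = mulC a (mulC b c) :=
  mk_congr fun v hv => by rw [app_mulC _ _ (app_lt _ _), app_mulC _ _ hv]

theorem mulC_one (a : ℕ) {v : ℕ} (hv : v < 64) : app (mulC a idC) v = app a v := by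
  rw [app_mulC _ _ hv, app_idC hv]

/-- conjugates of the maps -/
theorem gaugeOK_spec {g : ℕ × ℕ} (h : gaugeOK g = true) :
    mulC g.1 g.2 = idC ∧ mulC g.2 g.1 = idC ∧
      ∀ k < 8, ∃ l < 8, mulC g.1 (dd k) = mulC (dd l) g.1 := by
  simpa only [gaugeOK, Bool.and_eq_true, List.all_eq_true, List.mem_range, List.any_eq_true,
    Nat.beq_eq, and_assoc] using h

theorem cycA_facts : cycA 0 = 0 ∧ cycA 1 = 2 ∧ cycA 2 = 3 ∧ cycA 3 = 1 ∧
    cycB 0 = 0 ∧ cycB 1 = 6 ∧ cycB 6 = 7 ∧ cycB 7 = 1 := by decide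

namespace Au

variable {X : Subgroup P64} (a : Au X)
include a

theorem fn_comm {σ τ : P64} {k l : ℕ} {d : ℕ → P64} (hd : Dd X d) (hk : k < 8) (hl : l < 8)
    (h : σ * d k = d l * τ) {v : ℕ} (hv : v < 64) :
    fn σ (app (dd k) v) = app (dd l) (fn τ v) := by
  have h1 : fn (σ * d k) v = fn (d l * τ) v := by rw [h]
  rw [fn_mul, fn_mul, a.lin _ (hd.mem k hk) v hv, a.lin _ (hd.mem l hl) _ (fn_lt _ _),
    hd.code_eq k hk, hd.code_eq l hl] at h1
  exact h1

/-- The candidates. -/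
theorem mem_cand {d : ℕ → P64} (hd : Dd X d) {h : P64} (hh : h ∈ X) {b c : ℕ}
    (h1 : h * d 1 = d b * h) (hb : h * d b = d (mt b 1) * h) (h3 : h * h * h = 1)
    (hc : d c * h * d c * h = 1) :
    (b = 2 ∧ c = 6 → memC (code h) candA = true) ∧
    (b = 6 ∧ c = 2 → memC (code h) candB = true) := by
  set f : ℕ → ℕ := fn h with hf
  have hadd : ∀ v < 64, ∀ w < 64, f (v ^^^ w) = f v ^^^ f w := fun v hv w hw =>
    (a.lin h hh).add hv hw
  have hf0 : f 0 = 0 := ((a.lin h hh) 0 (by norm_num)).trans (app_zero _)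
  have hf3 : ∀ v < 64, f (f (f v)) = v := fun v hv => by
    rw [hf, ← fn_mul, ← fn_mul, h3, fn_one hv]
  have e0 : h * d 0 = d 0 * h := by rw [hd.zero, one_mul, mul_one]
  -- the test of a candidate
  have test : ∀ (t : ℕ) (cc u w : ℕ), cc < 8 → d cc * h * d cc * h = 1 → u < 64 → w < 64 →
      (∀ v < 64, f v = app t v) →
      preC u w t = true ∧ testC (dd cc) t = true ∧ mulC t idC = code h := by
    intro t cc u w hcc hinv hu hw ht
    have hct : code h = mulC t idC := mk_congr fun v hv => by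
      rw [app_idC hv]; exact ht v hv
    refine ⟨?_, ?_, hct.symm⟩
    · have e : ∀ v < 64, app t (app t (app t v)) = v := fun v hv => by
        rw [← ht v hv, ← ht _ (fn_lt h _), ← ht _ (fn_lt h _)]
        exact hf3 v hv
      simp only [preC, Bool.and_eq_true, Nat.beq_eq]
      exact ⟨e u hu, e w hw⟩
    · have hth : ∀ v < 64, app t v = app (code h) v := fun v hv => by
        rw [← ht v hv]; exact (a.lin h hh) v hv
      simp only [testC, Bool.and_eq_true, Nat.beq_eq]
      refine ⟨?_, ?_⟩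
      · rw [← code_one, ← h3, mul_assoc, a.code_mul hh (mul_mem hh hh), a.code_mul hh hh]
        exact mulC_congr hth fun v hv => by rw [mulC_congr hth hth]
      · rw [← code_one, ← hinv,
          a.code_mul (mul_mem (mul_mem (hd.mem cc hcc) hh) (hd.mem cc hcc)) hh,
          a.code_mul (mul_mem (hd.mem cc hcc) hh) (hd.mem cc hcc),
          a.code_mul (hd.mem cc hcc) hh, hd.code_eq cc hcc]
        refine mulC_congr (fun v hv => ?_) hth
        rw [mulC_congr (b := dd cc) (fun v hv => ?_) (fun v _ => rfl)]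
        rw [mulC_congr (a := dd cc) (fun v _ => rfl) hth]
  obtain ⟨c0, c1, c2, c3, d0, d1, d6, d7⟩ := cycA_facts
  refine ⟨?_, ?_⟩
  · rintro ⟨rfl, rfl⟩
    obtain ⟨hcmb, hfix1, hfix2, hks, htab0, htab1, htab2⟩ := srchA_data
    have h2 : h * d 2 = d 3 * h := hb
    have h3' : h * d 3 = d 1 * h := by
      rw [show (3 : ℕ) = mt 2 1 from rfl, ← hd.mul 2 (by norm_num) 1 (by norm_num), ← mul_assoc,
        h2, mul_assoc, h1, ← mul_assoc, hd.mul 3 (by norm_num) 2 (by norm_num)]
      rfl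
    simp only [List.all_eq_true, Nat.blt_eq] at hks
    have hint : ∀ k < 4, ∀ v < 64, f (app (dd k) v) = app (dd (cycA k)) (f v) := by
      intro k hk v hv
      interval_cases k
      · rw [c0]; exact a.fn_comm hd (by norm_num) (by norm_num) e0 hv
      · rw [c1]; exact a.fn_comm hd (by norm_num) (by norm_num) h1 hv
      · rw [c2]; exact a.fn_comm hd (by norm_num) (by norm_num) h2 hv
      · rw [c3]; exact a.fn_comm hd (by norm_num) (by norm_num) h3' hv
    have hpart := eq_parts (es := [2, 16, 32]) (by intro e he; fin_cases he <;> norm_num) hcmb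
      (p := cycA) hf0 hadd (fun j hj t ht v hv => hint t.1 (by
        have hj' : j < cmbA.length := by simp only [cmbA, List.length_cons, List.length_nil]; omega
        rw [List.getD_eq_getElem _ _ hj'] at ht
        exact hks _ (List.getElem_mem hj') t ht) v hv)
    simp only [List.length_cons, List.length_nil, List.range_succ, List.range_zero,
      List.nil_append, List.map_append, List.map_cons, List.map_nil, List.cons_append,
      List.getD_cons_zero, List.getD_cons_succ, xors, List.foldr_cons, List.foldr_nil,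
      Nat.xor_zero] at hpart
    simp only [tabOK, List.all_eq_true, List.mem_range, Bool.or_eq_true, List.any_cons,
      List.any_nil, Bool.or_false, Bool.not_eq_true', memC, List.any_eq_true, Nat.beq_eq,
      fixB, Bool.false_eq_true, false_or] at htab0 htab1 htab2
    have hy : ∀ k e l, k < 4 → cycA k = l → e < 64 → app (dd k) e = e →
        app (dd l) (f e) = f e := fun k e l hk hl he hfix => by
      rw [← hl, ← hint k hk e he, hfix]
    obtain ⟨t₀, ht₀, et₀⟩ := htab0 (f 2) (fn_lt _ _)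
    obtain ⟨t₁, ht₁, et₁⟩ := (htab1 (f 16) (fn_lt _ _)).resolve_left (by
      rw [hy 3 16 1 (by norm_num) c3 (by norm_num) (Nat.beq_eq.mp hfix1), Nat.beq_refl]; simp)
    obtain ⟨t₂, ht₂, et₂⟩ := (htab2 (f 32) (fn_lt _ _)).resolve_left (by
      rw [hy 2 32 3 (by norm_num) c2 (by norm_num) (Nat.beq_eq.mp hfix2), Nat.beq_refl]; simp)
    rw [← et₀, ← et₁, ← et₂, ← Nat.xor_assoc] at hpart
    have hs := srchA
    simp only [List.all_eq_true, Bool.or_eq_true, Bool.not_eq_true'] at hs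
    obtain ⟨p1, p2, p3⟩ := test _ 6 32 2 (by norm_num) hc (by norm_num) (by norm_num) hpart
    rcases hs t₀ ht₀ t₁ ht₁ t₂ ht₂ with (h' | h') | h'
    · rw [p1] at h'; exact Bool.noConfusion h'
    · rw [p2] at h'; exact Bool.noConfusion h'
    · rwa [p3] at h'
  · rintro ⟨rfl, rfl⟩
    obtain ⟨hcmb, hfix1, hfix2, hks, htab0, htab1, htab2⟩ := srchB_data
    have h6 : h * d 6 = d 7 * h := hb
    have h7 : h * d 7 = d 1 * h := by
      rw [show (7 : ℕ) = mt 6 1 from rfl, ← hd.mul 6 (by norm_num) 1 (by norm_num), ← mul_assoc,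
        h6, mul_assoc, h1, ← mul_assoc, hd.mul 7 (by norm_num) 6 (by norm_num)]
      rfl
    simp only [List.all_eq_true, List.any_eq_true, List.mem_cons, List.not_mem_nil, or_false,
      Nat.beq_eq] at hks
    have hint : ∀ k, (k = 0 ∨ k = 1 ∨ k = 6 ∨ k = 7) → ∀ v < 64,
        f (app (dd k) v) = app (dd (cycB k)) (f v) := by
      intro k hk v hv
      rcases hk with rfl | rfl | rfl | rfl
      · rw [d0]; exact a.fn_comm hd (by norm_num) (by norm_num) e0 hv
      · rw [d1]; exact a.fn_comm hd (by norm_num) (by norm_num) h1 hv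
      · rw [d6]; exact a.fn_comm hd (by norm_num) (by norm_num) h6 hv
      · rw [d7]; exact a.fn_comm hd (by norm_num) (by norm_num) h7 hv
    have hpart := eq_parts (es := [2, 4, 18]) (by intro e he; fin_cases he <;> norm_num) hcmb
      (p := cycB) hf0 hadd (fun j hj t ht v hv => hint t.1 (by
        have hj' : j < cmbB.length := by simp only [cmbB, List.length_cons, List.length_nil]; omega
        rw [List.getD_eq_getElem _ _ hj'] at ht
        obtain ⟨y, hy, e⟩ := hks _ (List.getElem_mem hj') t ht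
        rw [e]; exact hy) v hv)
    simp only [List.length_cons, List.length_nil, List.range_succ, List.range_zero,
      List.nil_append, List.map_append, List.map_cons, List.map_nil, List.cons_append,
      List.getD_cons_zero, List.getD_cons_succ, xors, List.foldr_cons, List.foldr_nil,
      Nat.xor_zero] at hpart
    simp only [tabOK, List.all_eq_true, List.mem_range, Bool.or_eq_true, List.any_cons,
      List.any_nil, Bool.or_false, Bool.not_eq_true', memC, List.any_eq_true, Nat.beq_eq,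
      fixB, Bool.false_eq_true, false_or] at htab0 htab1 htab2
    have hy : ∀ k e l, (k = 0 ∨ k = 1 ∨ k = 6 ∨ k = 7) → cycB k = l → e < 64 →
        app (dd k) e = e → app (dd l) (f e) = f e := fun k e l hk hl he hfix => by
      rw [← hl, ← hint k hk e he, hfix]
    obtain ⟨t₀, ht₀, et₀⟩ := htab0 (f 2) (fn_lt _ _)
    obtain ⟨t₁, ht₁, et₁⟩ := (htab1 (f 4) (fn_lt _ _)).resolve_left (by
      rw [hy 1 4 6 (by norm_num) d1 (by norm_num) (Nat.beq_eq.mp hfix1), Nat.beq_refl]; simp)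
    obtain ⟨t₂, ht₂, et₂⟩ := (htab2 (f 18) (fn_lt _ _)).resolve_left (by
      rw [hy 6 18 7 (by norm_num) d6 (by norm_num) (Nat.beq_eq.mp hfix2), Nat.beq_refl]; simp)
    rw [← et₀, ← et₁, ← et₂, ← Nat.xor_assoc] at hpart
    have hs := srchB
    simp only [List.all_eq_true, Bool.or_eq_true, Bool.not_eq_true'] at hs
    obtain ⟨p1, p2, p3⟩ := test _ 2 18 2 (by norm_num) hc (by norm_num) (by norm_num) hpart
    rcases hs t₀ ht₀ t₁ ht₁ t₂ ht₂ with (h' | h') | h'
    · rw [p1] at h'; exact Bool.noConfusion h'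
    · rw [p2] at h'; exact Bool.noConfusion h'
    · rwa [p3] at h'

/-- The subgroup given by a list. -/
theorem exists_grp {gs L : List ℕ} {par : List (ℕ × ℕ)} (h : grpOK gs L par = true)
    (hgs : ∀ g ∈ gs, ∃ σ ∈ X, code σ = g) :
    ∃ Y : Subgroup P64, Y ≤ X ∧ (∀ σ, σ ∈ Y ↔ σ ∈ X ∧ code σ ∈ L) ∧
      ∀ c ∈ L, ∃ σ ∈ X, code σ = c := by
  simp only [grpOK, Bool.and_eq_true, Bool.or_eq_true, List.all_eq_true, List.mem_range,
    Nat.beq_eq, Nat.blt_eq, memC, List.any_eq_true] at h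
  obtain ⟨⟨⟨⟨hhead, -⟩, hpos⟩, hpar⟩, hclo⟩ := h
  have key : ∀ i, i < L.length → (∃ σ ∈ X, code σ = L.getD i 0) ∧
      ∀ x ∈ L, mulC x (L.getD i 0) ∈ L → mulC x (L.getD i 0) ∈ L := fun i hi => ⟨by
    induction i using Nat.strong_induction_on with
    | _ i ih =>
      rcases hpar i hi with rfl | ⟨⟨hlt, hg⟩, e⟩
      · exact ⟨1, one_mem X, by rw [code_one, hhead]⟩
      · obtain ⟨σ, hσ, eσ⟩ := ih _ hlt (lt_trans hlt hi)
        obtain ⟨τ, hτ, eτ⟩ := hgs _ (List.getElem_mem hg)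
        refine ⟨σ * τ, mul_mem hσ hτ, ?_⟩
        rw [a.code_mul hσ hτ, eσ, eτ, e, List.getD_eq_getElem _ _ hg], fun _ _ h => h⟩
  have real : ∀ c ∈ L, ∃ σ ∈ X, code σ = c := fun c hc => by
    obtain ⟨i, hi, rfl⟩ := List.mem_iff_getElem.1 hc
    obtain ⟨σ, hσ, e⟩ := (key i hi).1
    exact ⟨σ, hσ, by rw [e, List.getD_eq_getElem _ _ hi]⟩
  have mulL : ∀ i, i < L.length → ∀ x ∈ L, mulC x (L.getD i 0) ∈ L := by
    intro i
    induction i using Nat.strong_induction_on with
    | _ i ih =>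
      intro hi x hx
      rcases hpar i hi with rfl | ⟨⟨hlt, hg⟩, e⟩
      · obtain ⟨σ, hσ, rfl⟩ := real x hx
        rw [hhead, (a.lin σ hσ).canon]; exact hx
      · rw [e, ← mulC_assoc]
        obtain ⟨y, hy, e'⟩ := hclo _ (ih _ hlt (lt_trans hlt hi) x hx) _
          (List.getD_eq_getElem _ _ hg ▸ List.getElem_mem hg :
            gs.getD (par.getD i (0, 0)).2 0 ∈ gs)
        rw [← e']; exact hy
  let C : Submonoid P64 :=
    { carrier := {σ | σ ∈ X ∧ code σ ∈ L}
      one_mem' := ⟨one_mem X, by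
        rw [code_one, ← hhead, List.getD_eq_getElem _ _ hpos]; exact List.getElem_mem hpos⟩
      mul_mem' := fun {σ τ} h h' => ⟨mul_mem h.1 h'.1, by
        obtain ⟨i, hi, e⟩ := List.mem_iff_getElem.1 h'.2
        rw [a.code_mul h.1 h'.1, ← e, ← List.getD_eq_getElem (d := 0) _ hi]
        exact mulL i hi _ h.2⟩ }
  refine ⟨{ C with inv_mem' := fun {σ} h => ?_ }, fun σ h => h.1, fun σ => Iff.rfl, real⟩
  have h1 : σ⁻¹ = σ ^ (orderOf σ - 1) := inv_eq_of_mul_eq_one_right (by
    rw [← pow_succ', Nat.sub_add_cancel (orderOf_pos σ), pow_orderOf_eq_one])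
  show σ⁻¹ ∈ C
  rw [h1]; exact pow_mem (show σ ∈ C from h) _

/-- The automiser in new coordinates. -/
theorem exists_conjugate {g : ℕ × ℕ} (hg : gaugeOK g = true) :
    ∃ γ : P64, Lin γ ∧ Lin γ⁻¹ ∧ (∀ v < 64, fn γ v = app g.1 v) ∧
      (∀ v < 64, fn γ⁻¹ v = app g.2 v) ∧
      Au (X.comap (MulAut.conj γ).toMonoidHom) ∧
      ∀ σ ∈ X.comap (MulAut.conj γ).toMonoidHom,
        code (γ * σ * γ⁻¹) = mulC g.1 (mulC (code σ) g.2) := by
  classical
  obtain ⟨h1, h2, h3⟩ := gaugeOK_spec hg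
  obtain ⟨γ, hγ, -, hγf⟩ := exists_perm h1 h2
  obtain ⟨γi, hγi, -, hγif⟩ := exists_perm h2 h1
  have he : γ⁻¹ = γi := inv_eq_of_mul_eq_one_right (ext_fn fun v hv => by
    rw [fn_mul, fn_one hv, hγif v hv, hγf _ (app_lt _ _), ← app_mulC _ _ hv, h1, app_idC hv])
  have hγ' : Lin γ⁻¹ := by rw [he]; exact hγi
  have hγif' : ∀ v < 64, fn γ⁻¹ v = app g.2 v := by rw [he]; exact hγif
  obtain ⟨d, hd⟩ := a.exists_dd
  have hm : ∀ σ, σ ∈ X.comap (MulAut.conj γ).toMonoidHom ↔ γ * σ * γ⁻¹ ∈ X := fun σ => by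
    simp
  have hlin : ∀ σ, γ * σ * γ⁻¹ ∈ X → Lin σ := by
    intro σ hσ
    have : σ = γ⁻¹ * (γ * σ * γ⁻¹) * γ := by group
    rw [this]
    exact (hγ'.mul (a.lin _ hσ)).mul hγ
  choose p hp hpe using h3
  have hconj : ∀ k, ∀ h : k < 8, γ⁻¹ * d (p k h) * γ ∈ X.comap (MulAut.conj γ).toMonoidHom ∧
      code (γ⁻¹ * d (p k h) * γ) = dd k := by
    intro k h
    refine ⟨(hm _).2 (by simpa [mul_assoc] using hd.mem _ (hp k h)), ?_⟩
    rw [(hγ'.mul (a.lin _ (hd.mem _ (hp k h)))).code_mul hγ,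
      hγ'.code_mul (a.lin _ (hd.mem _ (hp k h))), hd.code_eq _ (hp k h),
      ← (show mulC (dd k) idC = dd k by
        rw [← hd.code_eq k h]; exact (a.lin _ (hd.mem k h)).canon)]
    refine mk_congr fun v hv => ?_
    have eγ : app (code γ) v = app g.1 v := by rw [← hγ v hv, hγf v hv]
    have eγi : ∀ w < 64, app (code γ⁻¹) w = app g.2 w := fun w hw => by
      rw [← hγ' w hw, he, hγif w hw]
    rw [app_mulC _ _ (app_lt _ _), eγ, ← app_mulC (dd (p k h)) g.1 hv, ← hpe k h,
      app_mulC _ _ hv, eγi _ (app_lt _ _), ← app_mulC _ _ (app_lt _ _), h2,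
      app_idC (app_lt _ _), app_idC hv]
  refine ⟨γ, hγ, hγ', hγf, hγif', ⟨fun σ hσ => hlin σ ((hm σ).1 hσ),
    fun k hk => ⟨_, (hconj k hk).1, (hconj k hk).2⟩, fun T hT hT2 hTD σ hσ => ?_⟩, fun σ hσ => ?_⟩
  · have hsurj : ∀ l < 8, ∃ k, ∃ h : k < 8, p k h = l := by
      let q : Fin 8 → Fin 8 := fun k => ⟨p k k.2, hp k k.2⟩
      have hinj : Function.Injective q := by
        intro k k' e
        have e' : p k k.2 = p k' k'.2 := congrArg Fin.val e
        have := (hconj k k.2).2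
        rw [e', (hconj k' k'.2).2] at this
        exact Fin.ext ((dd_mul k.2 k'.2).2.2 this.symm)
      intro l hl
      obtain ⟨k, hk⟩ := Finite.injective_iff_surjective.1 hinj ⟨l, hl⟩
      exact ⟨k, k.2, congrArg Fin.val hk⟩
    have hmax := a.max (T.map (MulAut.conj γ).toMonoidHom)
      (by rintro _ ⟨t, ht, rfl⟩; exact (hm t).1 (hT ht)) (hT2.map _)
      (fun τ hτ hτD => by
        obtain ⟨l, hl, rfl⟩ := hd.isD τ hτ hτD
        obtain ⟨k, hk, rfl⟩ := hsurj l hl
        exact ⟨_, hTD _ (hconj k hk).1 ⟨k, hk, (hconj k hk).2⟩, by simp [mul_assoc]⟩)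
      (γ * σ * γ⁻¹) ⟨σ, hσ, by simp⟩
    obtain ⟨l, hl, e⟩ := hd.isD _ ((hm σ).1 (hT hσ)) hmax
    obtain ⟨k, hk, rfl⟩ := hsurj l hl
    refine ⟨k, hk, ?_⟩
    rw [← (hconj k hk).2, ← e]
    group
  · have hs := hlin σ ((hm σ).1 hσ)
    rw [(hγ.mul hs).code_mul hγ', hγ.code_mul hs, mulC_assoc]
    refine mulC_congr (fun v hv => by rw [← hγf v hv, hγ v hv]) fun v hv => ?_
    rw [mulC_congr (a := code σ) (fun v _ => rfl) (b' := g.2) fun v hv => by
      rw [← hγ' v hv, he, hγif v hv]]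

end Au

end CfsgLib.M24Quot
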