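import Cfsg.Agent.Lib.M24Quot.Data

/-!
The recursion for the three small automisers.
-/

set_option autoImplicit false
set_option maxRecDepth 100000

namespace CfsgLib.M24Quot

theorem good_D : good 9 lstD 1 true = true := by decide +kernel

theorem good_G1 : good 9 lstG1 1 true = true := by decide +kernel

theorem good_G2 : good 9 lstG2 1 true = true := by decide +kernel

end CfsgLib.M24Quot
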