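import Cfsg.Agent.Lib.M24Quot.Rec
import Cfsg.Agent.Lib.M24Quot.Data

/-!
The recursion for the automiser of order 168.
-/

set_option autoImplicit false
set_option maxRecDepth 100000

namespace CfsgLib.M24Quot

theorem good0_L0 : good0 9 lstL0 [1, 2, 3, 4] 1 = true := by decide +kernel

end CfsgLib.M24Quot
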