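import Mathlib
import Cfsg.Agent.Lib.M24Quot.Code
import Cfsg.Agent.Lib.StrongTwoClasses.Quot
import Cfsg.Agent.Lib.Involutions.ZStar.Main

/-!
Soundness of the recursion: a closed elementary abelian 2-subgroup whose automiser satisfies the
decidable predicate is normal modulo the odd core.
-/

set_option autoImplicit false
set_option linter.unusedSectionVars false
set_option linter.style.haveILetI false

namespace CfsgLib.M24Quot

open Cfsg Subgroup CfsgLib.StrongTwoClasses CfsgLib.Base

universe u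

/-- The state of the recursion. -/
structure Sys {H : Type u} [Group H] (B : Subgroup H) (E : ℕ → H) (L : List ℕ) (U : ℕ) : Prop where
  e_add : ∀ v < 64, ∀ w < 64, E (v ^^^ w) = E v * E w
  e_one : ∀ v < 64, (E v = 1 ↔ inU U v = true)
  e_range : ∀ x, x ∈ B ↔ ∃ v < 64, E v = x
  closed : ClosedTwo B
  act : ∀ n ∈ normalizer (B : Set H), ∃ c ∈ L, ∀ v < 64, n * E v * n⁻¹ = E (app c v)

/-- The conclusion. -/
def Dec {H : Type u} [Group H] (B : Subgroup H) : Prop :=
  ∀ g : H, ∃ o ∈ oddCore H, ∃ n ∈ normalizer (B : Set H), g = o * n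

namespace Sys

variable {H : Type u} [Group H] {B : Subgroup H} {E : ℕ → H} {L : List ℕ} {U : ℕ}
  (s : Sys B E L U)
include s

theorem xor_lt {v w : ℕ} (hv : v < 64) (hw : w < 64) : v ^^^ w < 64 :=
  Nat.xor_lt_two_pow (n := 6) hv hw

theorem e_zero : E 0 = 1 := by
  have h := s.e_add 0 (by norm_num) 0 (by norm_num)
  simpa using h

theorem e_sq {v : ℕ} (hv : v < 64) : E v * E v = 1 := by
  rw [← s.e_add v hv v hv, Nat.xor_self, s.e_zero]

theorem e_inv {v : ℕ} (hv : v < 64) : (E v)⁻¹ = E v := inv_eq_of_mul_eq_one_right (s.e_sq hv)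

theorem e_eq {v w : ℕ} (hv : v < 64) (hw : w < 64) : E v = E w ↔ eqU U v w = true := by
  rw [eqU, ← s.e_one _ (s.xor_lt hv hw), s.e_add v hv w hw]
  constructor
  · intro h; rw [h]; exact s.e_sq hw
  · intro h; rw [eq_inv_of_mul_eq_one_left h, s.e_inv hw]

theorem e_mem {v : ℕ} (hv : v < 64) : E v ∈ B := (s.e_range _).2 ⟨v, hv, rfl⟩

theorem elem : IsElementaryAbelian 2 B := by
  refine ⟨⟨⟨fun x y => Subtype.ext ?_⟩⟩, fun x hx => ?_⟩
  · obtain ⟨v, hv, e⟩ := (s.e_range _).1 x.2
    obtain ⟨w, hw, e'⟩ := (s.e_range _).1 y.2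
    show (x : H) * y = y * x
    rw [← e, ← e', ← s.e_add v hv w hw, ← s.e_add w hw v hv, Nat.xor_comm]
  · obtain ⟨v, hv, e⟩ := (s.e_range _).1 hx
    rw [← e, pow_two, s.e_sq hv]

theorem isPGroup : IsPGroup 2 B := fun x => ⟨1, Subtype.ext (by simpa using s.elem.2 x x.2)⟩

theorem le_centralizer {v : ℕ} (hv : v < 64) : B ≤ centralizer ({E v} : Set H) := fun x hx => by
  obtain ⟨w, hw, rfl⟩ := (s.e_range _).1 hx
  rw [mem_centralizer_singleton_iff, ← s.e_add w hw v hv, ← s.e_add v hv w hw, Nat.xor_comm]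

theorem triv_fix {c : ℕ} (h : trivU U c = true) {v : ℕ} (hv : v < 64) : E (app c v) = E v := by
  simp only [trivU, List.all_eq_true, List.mem_range] at h
  have hb : ∀ (j : ℕ), j < 6 → ∀ b : Bool,
      E (app c (if b then 2 ^ j else 0)) = E (if b then 2 ^ j else 0) := by
    intro j hj b
    cases b
    · simp [app_zero]
    · simp only [if_true]
      exact (s.e_eq (app_lt _ _)
        (Nat.pow_lt_pow_right (by norm_num) hj)).2 (h j hj)
  have hl : ∀ (j : ℕ), j < 6 → ∀ b : Bool, (if b then 2 ^ j else 0) < 2 ^ 6 := fun j hj b => by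
    cases b
    · simp
    · simpa using Nat.pow_lt_pow_right (show 1 < 2 by norm_num) hj
  have step : ∀ x y, x < 2 ^ 6 → y < 2 ^ 6 → E (app c x) = E x → E (app c y) = E y →
      E (app c (x ^^^ y)) = E (x ^^^ y) := fun x y hx hy e e' => by
    rw [app_xor, s.e_add _ (app_lt _ _) _ (app_lt _ _), e, e', s.e_add x hx y hy]
  rw [bits_eq v hv]
  refine step _ _ ?_ (hl 5 (by norm_num) _) (step _ _ ?_ (hl 4 (by norm_num) _)
    (step _ _ ?_ (hl 3 (by norm_num) _) (step _ _ ?_ (hl 2 (by norm_num) _)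
    (step _ _ (hl 0 (by norm_num) _) (hl 1 (by norm_num) _) (hb 0 (by norm_num) _)
    (hb 1 (by norm_num) _)) (hb 2 (by norm_num) _)) (hb 3 (by norm_num) _))
    (hb 4 (by norm_num) _)) (hb 5 (by norm_num) _)
  all_goals repeat' first
    | exact hl 0 (by norm_num) _
    | exact hl 1 (by norm_num) _
    | exact hl 2 (by norm_num) _
    | exact hl 3 (by norm_num) _
    | exact hl 4 (by norm_num) _
    | exact hl 5 (by norm_num) _
    | apply Nat.xor_lt_two_pow

variable [Finite H]

/-- Fusion in `B` is controlled by its normalizer. -/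
theorem fusion {a : H} (ha : a ∈ B) {g : H} (hg : g * a * g⁻¹ ∈ B) :
    ∃ n ∈ normalizer (B : Set H), n * a * n⁻¹ = g * a * g⁻¹ := by
  haveI : Fact (Nat.Prime 2) := ⟨Nat.prime_two⟩
  haveI := s.elem.1
  set a' := g * a * g⁻¹ with ha'
  have hBc : ∀ {x : H}, x ∈ B → B ≤ centralizer ({x} : Set H) := fun {x} hx y hy =>
    mem_centralizer_singleton_iff.2
      (congrArg Subtype.val (mul_comm' (⟨y, hy⟩ : B) ⟨x, hx⟩))
  obtain ⟨T, hBT, hTC, hT, hTmax⟩ := exists_twoGroup_ge s.isPGroup (hBc hg)
  have hV : IsPGroup 2 ↥(B.map (MulAut.conj g).toMonoidHom) := s.isPGroup.map _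
  have hVC : B.map (MulAut.conj g).toMonoidHom ≤ centralizer ({a'} : Set H) := by
    rintro _ ⟨e, he, rfl⟩
    rw [mem_centralizer_singleton_iff, ha']
    simp only [MulEquiv.coe_toMonoidHom, MulAut.conj_apply]
    calc g * e * g⁻¹ * (g * a * g⁻¹) = g * (e * a) * g⁻¹ := by group
      _ = g * (a * e) * g⁻¹ := by rw [mem_centralizer_singleton_iff.1 (hBc ha he)]
      _ = g * a * g⁻¹ * (g * e * g⁻¹) := by group
  obtain ⟨k, hk, hkT⟩ := CfsgLib.Transfer.exists_conj_le_of_isPGroup hT hTC hTmax hV hVC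
  refine ⟨k⁻¹ * g, mem_normalizer_of_forall fun e he => ?_, ?_⟩
  · refine s.closed T hT hBT e he _ ?_
    have := hkT _ ⟨e, he, rfl⟩
    simp only [MulEquiv.coe_toMonoidHom, MulAut.conj_apply] at this
    convert this using 1
    group
  · calc k⁻¹ * g * a * (k⁻¹ * g)⁻¹ = k⁻¹ * (a' * k) := by rw [ha']; group
      _ = a' := by rw [← mem_centralizer_singleton_iff.1 hk, inv_mul_cancel_left]

/-- The step to the centralizer of `E w` modulo `E w`. -/
theorem loc_step {w : ℕ} (hw : w < 64) (L' : List ℕ)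
    (hL' : ∀ c ∈ L, eqU U (app c w) w = true → c ∈ L')
    (syl : Bool) (hsyl : syl = true →
      keepU L' U (extU U w) = true ∧ ¬ 2 ∣ B.relIndex (centralizer (B : Set H)))
    (rec : ∀ (K : Type u) [Group K] [Finite K] (B' : Subgroup K) (E' : ℕ → K),
      Sys B' E' L' (extU U w) →
        (syl = true → ¬ 2 ∣ B'.relIndex (centralizer (B' : Set K))) → Dec B') :
    ∀ g ∈ centralizer ({E w} : Set H), ∃ o ∈ centralizerPPrimeCore 2 (E w),
      ∃ n ∈ normalizer (B : Set H) ⊓ centralizer ({E w} : Set H), g = o * n := by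
  haveI : Fact (Nat.Prime 2) := ⟨Nat.prime_two⟩
  set z := E w with hz
  set C := centralizer ({z} : Set H) with hC
  have hBC : B ≤ C := s.le_centralizer hw
  have hzB : z ∈ B := s.e_mem hw
  obtain ⟨K, _, _, f, hf, hker⟩ := exists_quot z (s.e_sq hw)
  set B₁ := B.subgroupOf C with hB₁
  set B' := B₁.map f with hB'
  let E' : ℕ → K := fun v => if h : v < 64 then f ⟨E v, hBC (s.e_mem h)⟩ else 1
  have hE' : ∀ v, ∀ h : v < 64, E' v = f ⟨E v, hBC (s.e_mem h)⟩ := fun v h => dif_pos h
  have memB : ∀ x : C, f x ∈ B' ↔ (x : H) ∈ B := by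
    intro x
    refine ⟨?_, fun h => ⟨x, mem_subgroupOf.2 h, rfl⟩⟩
    rintro ⟨y, hy, e⟩
    have hy' : (y : H) ∈ B := mem_subgroupOf.1 hy
    rcases eq_or_of_map_eq f hker e.symm with e' | e'
    · rw [← e']; exact hy'
    · have : (x : H) = (y : H) * z := by
        rw [e', mul_assoc, s.e_sq hw, mul_one]
      rw [this]; exact mul_mem hy' hzB
  have hrange : ∀ x, x ∈ B' ↔ ∃ v < 64, E' v = x := by
    intro x
    constructor
    · rintro ⟨y, hy, rfl⟩
      obtain ⟨v, hv, e⟩ := (s.e_range _).1 (mem_subgroupOf.1 hy)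
      exact ⟨v, hv, by rw [hE' v hv]; exact congrArg f (Subtype.ext e)⟩
    · rintro ⟨v, hv, rfl⟩
      rw [hE' v hv, memB]; exact s.e_mem hv
  have hnorm : ∀ x : C, f x ∈ normalizer (B' : Set K) → (x : H) ∈ normalizer (B : Set H) := by
    intro x hx
    refine mem_normalizer_of_forall fun e he => ?_
    have h1 : f (x * ⟨e, hBC he⟩ * x⁻¹) ∈ B' := by
      rw [map_mul, map_mul, map_inv]
      exact (mem_normalizer_iff.1 hx _).1 ((memB ⟨e, hBC he⟩).2 he)
    exact (memB _).1 h1
  have hact : ∀ x : C, (x : H) ∈ normalizer (B : Set H) →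
      ∃ c ∈ L', (∀ v < 64, (x : H) * E v * (x : H)⁻¹ = E (app c v)) := by
    intro x hx
    obtain ⟨c, hc, hcv⟩ := s.act _ hx
    refine ⟨c, hL' c hc ?_, hcv⟩
    rw [← s.e_eq (app_lt _ _) hw, ← hcv w hw, ← hz, mul_inv_eq_iff_eq_mul]
    exact mem_centralizer_singleton_iff.1 x.2
  have s' : Sys B' E' L' (extU U w) := by
    refine ⟨fun v hv v' hv' => ?_, fun v hv => ?_, hrange, ?_, ?_⟩
    · rw [hE' v hv, hE' v' hv', hE' _ (s.xor_lt hv hv'), ← map_mul]
      exact congrArg f (Subtype.ext (s.e_add v hv v' hv'))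
    · rw [hE' v hv, hker, inU_extU hv, s.e_one v hv]
      exact or_congr_right (s.e_eq hv hw)
    · intro P hP hBP x hx y hy
      obtain ⟨x, rfl⟩ := hf x
      obtain ⟨y, rfl⟩ := hf y
      set P' := (P.comap f).map C.subtype with hP'
      have hP'2 : IsPGroup 2 P' :=
        (hP.comap_of_ker_isPGroup f (isPGroup_ker f hker (s.e_sq hw))).map _
      have hBP' : B ≤ P' := fun e he =>
        ⟨⟨e, hBC he⟩, hBP ((memB _).2 he), rfl⟩
      rw [← map_inv, ← map_mul, ← map_mul] at hy ⊢
      exact (memB _).2 (s.closed P' hP'2 hBP' x ((memB x).1 hx) y ⟨y * x * y⁻¹, hy, rfl⟩)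
    · intro n hn
      obtain ⟨x, rfl⟩ := hf n
      obtain ⟨c, hc, hcv⟩ := hact x (hnorm x hn)
      refine ⟨c, hc, fun v hv => ?_⟩
      rw [hE' v hv, hE' _ (app_lt _ _), ← map_inv, ← map_mul, ← map_mul]
      exact congrArg f (Subtype.ext (hcv v hv))
  have hs' : syl = true → ¬ 2 ∣ B'.relIndex (centralizer (B' : Set K)) := by
    intro hsy
    obtain ⟨hkeep, hrel⟩ := hsyl hsy
    simp only [keepU, List.all_eq_true, Bool.or_eq_true, Bool.not_eq_true'] at hkeep
    have hCB : (centralizer (B' : Set K)).comap f ≤ (centralizer (B : Set H)).subgroupOf C := by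
      intro x hx
      have hx' : f x ∈ centralizer (B' : Set K) := hx
      have hxn : f x ∈ normalizer (B' : Set K) := mem_normalizer_of_forall fun e he => by
        rw [← mem_centralizer_iff.1 hx' e he]; simpa using he
      obtain ⟨c, hc, hcv⟩ := hact x (hnorm x hxn)
      have ht : trivU (extU U w) c = true := by
        simp only [trivU, List.all_eq_true, List.mem_range]
        intro j hj
        have h2 : (2 : ℕ) ^ j < 64 := Nat.pow_lt_pow_right (n := 6) (by norm_num) hj
        rw [← s'.e_eq (app_lt _ _) h2, hE' _ (app_lt _ _), hE' _ h2]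
        have e1 : f ⟨E (app c (2 ^ j)), hBC (s.e_mem (app_lt _ _))⟩ =
            f x * f ⟨E (2 ^ j), hBC (s.e_mem h2)⟩ * (f x)⁻¹ := by
          rw [← map_inv, ← map_mul, ← map_mul]
          exact congrArg f (Subtype.ext (hcv _ h2).symm)
        rw [e1, ← mem_centralizer_iff.1 hx' _ ((memB _).2 (s.e_mem h2)), mul_inv_cancel_right]
      have ht' := (hkeep c hc).resolve_left (by rw [ht]; simp)
      refine mem_subgroupOf.2 (mem_centralizer_iff.2 fun e he => ?_)
      obtain ⟨v, hv, rfl⟩ := (s.e_range _).1 he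
      have := hcv v hv
      rw [s.triv_fix ht' hv, mul_inv_eq_iff_eq_mul] at this
      exact this.symm
    have hBeq : B'.comap f = B₁ := by
      ext x; exact (memB x).trans mem_subgroupOf.symm
    have h1 : B'.relIndex (centralizer (B' : Set K)) =
        B₁.relIndex ((centralizer (B' : Set K)).comap f) := by
      rw [← hBeq, relIndex_comap, map_comap_eq_self_of_surjective hf]
    have h2 : B₁.relIndex ((centralizer (B' : Set K)).comap f) ∣
        B₁.relIndex ((centralizer (B : Set H)).subgroupOf C) := by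
      haveI := s.elem.1
      refine Dvd.intro _ (relIndex_mul_relIndex _ _ _ ?_ hCB)
      intro x hx
      show f x ∈ centralizer (B' : Set K)
      refine mem_centralizer_iff.2 ?_
      rintro _ ⟨y, hy, rfl⟩
      rw [← map_mul, ← map_mul]
      refine congrArg f (Subtype.ext ?_)
      simp only [Subgroup.coe_mul]
      exact (congrArg Subtype.val
        (mul_comm' (⟨y, mem_subgroupOf.1 hy⟩ : B) ⟨x, mem_subgroupOf.1 hx⟩))
    have h3 : B₁.relIndex ((centralizer (B : Set H)).subgroupOf C) =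
        B.relIndex (centralizer (B : Set H)) :=
      relIndex_subgroupOf (centralizer_le (Set.singleton_subset_iff.2 hzB))
    rw [h1]
    exact fun h => hrel (h3 ▸ h.trans h2)
  intro g hg
  obtain ⟨o', ho', n', hn', he⟩ := rec K B' E' s' hs' (f ⟨g, hg⟩)
  obtain ⟨x, rfl⟩ := hf n'
  obtain ⟨o₁, rfl⟩ := hf o'
  obtain ⟨o, ho, hoe⟩ := exists_core_lift f hf (isPGroup_ker f hker (s.e_sq hw))
    (ker_le_center f hker) ho'
  have hxN : (x : H) ∈ normalizer (B : Set H) := hnorm x hn'
  have hfe : f (o * x) = f ⟨g, hg⟩ := by rw [map_mul, hoe, he]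
  refine ⟨o, ⟨o, ho, rfl⟩, ?_⟩
  rcases eq_or_of_map_eq f hker hfe with e | e
  · exact ⟨x, ⟨hxN, x.2⟩, by simpa using e⟩
  · refine ⟨(x : H) * z, ⟨mul_mem hxN (le_normalizer hzB), mul_mem x.2 (hBC hzB)⟩, ?_⟩
    simpa [mul_assoc] using e

theorem dec_of_loc {a : ℕ} {R : List ℕ} (hsy : ¬ 2 ∣ B.relIndex (centralizer (B : Set H)))
    (hlen : 7 ≤ R.length.succ) (hrep : ∀ w ∈ a :: R, w < 64 ∧ inU U w = false)
    (hdist : distU U (a :: R) = true)
    (htwo : ∃ c ∈ R, ∀ g ∈ L, eqU U (app g a) c = false) (hcov : coverU U (a :: R) = true)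
    (hloc : ∀ w ∈ a :: R, ∀ g ∈ centralizer ({E w} : Set H),
      ∃ o ∈ centralizerPPrimeCore 2 (E w),
        ∃ n ∈ normalizer (B : Set H) ⊓ centralizer ({E w} : Set H), g = o * n) : Dec B := by
  haveI : Fact (Nat.Prime 2) := ⟨Nat.prime_two⟩
  have hH : Hyp B := by
    refine ⟨s.elem, s.closed, hsy, fun b hb hb1 => ?_⟩
    obtain ⟨v, hv, rfl⟩ := (s.e_range _).1 hb
    simp only [coverU, List.all_eq_true, List.mem_range, Bool.or_eq_true,
      List.any_eq_true] at hcov
    rcases hcov v hv with h1 | ⟨w, hw, h1⟩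
    · exact absurd ((s.e_one v hv).2 h1) hb1
    · rw [(s.e_eq hv (hrep w hw).1).2 h1]; exact hloc w hw
  have hne : ∀ w ∈ a :: R, E w ≠ 1 := fun w hw e => by
    have := (s.e_one w (hrep w hw).1).1 e
    rw [(hrep w hw).2] at this
    exact Bool.noConfusion this
  have h8 : 8 ≤ Nat.card B := by
    classical
    have hnd : ((a :: R).map E).Nodup := by
      have key : ∀ l : List ℕ, (∀ w ∈ l, w < 64) → distU U l = true → (l.map E).Nodup := by
        intro l
        induction l with
        | nil => intros; simp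
        | cons v l ihl =>
          intro hl hd
          simp only [distU, Bool.and_eq_true, List.all_eq_true, Bool.not_eq_true'] at hd
          rw [List.map_cons, List.nodup_cons]
          refine ⟨fun hm => ?_, ihl (fun w hw => hl w (List.mem_cons_of_mem _ hw)) hd.2⟩
          obtain ⟨w, hw, e⟩ := List.mem_map.1 hm
          have := (s.e_eq (hl v (List.mem_cons_self ..))
            (hl w (List.mem_cons_of_mem _ hw))).1 e.symm
          rw [hd.1 w hw] at this
          exact Bool.noConfusion this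
      exact key _ (fun w hw => (hrep w hw).1) hdist
    have hnd' : (1 :: (a :: R).map E).Nodup := by
      rw [List.nodup_cons]
      refine ⟨fun hm => ?_, hnd⟩
      obtain ⟨w, hw, e⟩ := List.mem_map.1 hm
      exact hne w hw e
    have h1 := List.toFinset_card_of_nodup hnd'
    have h2 : ((1 :: (a :: R).map E).toFinset : Set H) ⊆ (B : Set H) := by
      intro x hx
      simp only [Finset.mem_coe, List.mem_toFinset, List.mem_cons] at hx
      rcases hx with rfl | hx
      · exact one_mem B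
      · obtain ⟨w, hw, rfl⟩ := List.mem_map.1 (show x ∈ (a :: R).map E from hx)
        exact s.e_mem (hrep w hw).1
    have h3 := Set.ncard_le_ncard h2
    rw [Set.ncard_coe_finset, h1, ← Nat.card_coe_set_eq] at h3
    simp only [List.length_cons, List.length_map] at h3
    exact le_trans (by omega) h3
  have htwo' : ∃ x ∈ B, ∃ y ∈ B, x ≠ 1 ∧ y ≠ 1 ∧ ∀ g : H, g * x * g⁻¹ ≠ y := by
    obtain ⟨c, hc, hcL⟩ := htwo
    have ha := (hrep a (List.mem_cons_self ..)).1
    have hc' := (hrep c (List.mem_cons_of_mem _ hc)).1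
    refine ⟨E a, s.e_mem ha, E c, s.e_mem hc', hne a (List.mem_cons_self ..),
      hne c (List.mem_cons_of_mem _ hc), fun g e => ?_⟩
    obtain ⟨n, hn, en⟩ := s.fusion (s.e_mem ha) (g := g) (e ▸ s.e_mem hc')
    obtain ⟨γ, hγ, hγv⟩ := s.act n hn
    rw [hγv a ha, e, s.e_eq (app_lt _ _) hc'] at en
    rw [hcL γ hγ] at en
    exact Bool.noConfusion en
  have hN := hH.normal_sup_oddCore h8 htwo'
  intro g
  exact exists_mul_of_conj_le s.isPGroup (odd_card_oddCore H)
    (by rw [normalizer_eq_top_iff.2 (pPrimeCore_normal 2 H)]; exact le_top)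
    (fun a' ha' => hN.conj_mem a' (mem_sup_left ha') g)

/-- The property of the centralizers is inherited along the normalizer. -/
theorem loc_conj {q w : ℕ} (hq : q < 64)
    (h : ∀ g ∈ centralizer ({E q} : Set H), ∃ o ∈ centralizerPPrimeCore 2 (E q),
      ∃ n ∈ normalizer (B : Set H) ⊓ centralizer ({E q} : Set H), g = o * n)
    {m : H} (hm : m ∈ normalizer (B : Set H)) (hmw : m * E q * m⁻¹ = E w) :
    ∀ g ∈ centralizer ({E w} : Set H), ∃ o ∈ centralizerPPrimeCore 2 (E w),
      ∃ n ∈ normalizer (B : Set H) ⊓ centralizer ({E w} : Set H), g = o * n := by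
  intro g hg
  have hg' : m⁻¹ * g * m ∈ centralizer ({E q} : Set H) := by
    rw [mem_centralizer_singleton_iff] at hg ⊢
    calc m⁻¹ * g * m * E q = m⁻¹ * (g * (m * E q * m⁻¹)) * m := by group
      _ = m⁻¹ * (m * E q * m⁻¹ * g) * m := by rw [hmw, hg]
      _ = E q * (m⁻¹ * g * m) := by group
  obtain ⟨o, ho, n, hn, e⟩ := h _ hg'
  refine ⟨m * o * m⁻¹, hmw ▸ conj_mem_core ho, m * n * m⁻¹,
    mem_inf.2 ⟨mul_mem (mul_mem hm hn.1) (inv_mem hm), ?_⟩, ?_⟩
  · rw [mem_centralizer_singleton_iff, ← hmw]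
    calc m * n * m⁻¹ * (m * E q * m⁻¹) = m * (n * E q) * m⁻¹ := by group
      _ = m * (E q * n) * m⁻¹ := by rw [mem_centralizer_singleton_iff.1 hn.2]
      _ = m * E q * m⁻¹ * (m * n * m⁻¹) := by group
  · calc g = m * (m⁻¹ * g * m) * m⁻¹ := by group
      _ = m * (o * n) * m⁻¹ := by rw [e]
      _ = _ := by group

end Sys

/-- Soundness of the recursion. -/
theorem dec_of_good : ∀ (fuel : ℕ) (L : List ℕ) (U : ℕ) (syl : Bool),
    good fuel L U syl = true → ∀ (H : Type u) [Group H] [Finite H] (B : Subgroup H) (E : ℕ → H),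
      Sys B E L U → (syl = true → ¬ 2 ∣ B.relIndex (centralizer (B : Set H))) → Dec B := by
  intro fuel
  induction fuel with
  | zero => intro L U syl h; simp [good] at h
  | succ fuel ih =>
    intro L U syl h H _ _ B E s hs
    haveI : Fact (Nat.Prime 2) := ⟨Nat.prime_two⟩
    unfold good at h
    split at h
    · intro g
      refine ⟨1, one_mem _, g, mem_normalizer_of_forall fun a ha => ?_, (one_mul g).symm⟩
      obtain ⟨v, hv, rfl⟩ := (s.e_range _).1 ha
      simp only [coverU, List.all_eq_true, List.mem_range, List.any_nil, Bool.or_false] at h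
      rw [(s.e_one v hv).2 (h v hv), mul_one, mul_inv_cancel]
      exact one_mem B
    · rename_i a R hreps
      split at h
      · rename_i w hfind
        simp only [Bool.and_eq_true, List.all_eq_true, Bool.not_eq_true', Nat.blt_eq] at h
        obtain ⟨⟨⟨hfix, hwU⟩, hw⟩, hgood⟩ := h
        have hw1 : E w ≠ 1 := fun e => by rw [(s.e_one w hw).1 e] at hwU; simp at hwU
        have hord : orderOf (E w) = 2 :=
          orderOf_eq_prime (by rw [pow_two, s.e_sq hw]) hw1
        obtain ⟨P, hP⟩ := s.isPGroup.exists_le_sylow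
        have hiso : IsIsolatedInvolution (E w) := by
          refine CfsgLib.Involutions.isolated_of_sylow P hord fun g hg => ?_
          obtain ⟨n, hn, e⟩ := s.fusion (s.e_mem hw) (s.closed P P.2 hP _ (s.e_mem hw) g hg)
          obtain ⟨c, hc, hcv⟩ := s.act n hn
          rw [← e, hcv w hw, s.e_eq (app_lt _ _) hw]
          exact hfix c hc
        have hloc := s.loc_step hw L (fun c hc _ => hc) (syl && keepU L U (extU U w))
          (fun hsy => by
            simp only [Bool.and_eq_true] at hsy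
            exact ⟨hsy.2, hs hsy.1⟩)
          (fun K _ _ B' E' s' hs' => ih L _ _ hgood K B' E' s' hs')
        set θ := centralizerPPrimeCore 2 (E w) with hθ
        haveI hOn : (oddCore H).Normal := pPrimeCore_normal 2 H
        set M := oddCore H ⊔ θ with hM
        have hθM : θ ≤ oddCore H := by
          haveI hMn : M.Normal := by
            rw [← normalizer_eq_top_iff, eq_top_iff]
            intro g _
            obtain ⟨o, ho, c, hc, rfl⟩ :=
              CfsgLib.Involutions.ZStar.exists_mul_centralizer hiso g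
            refine mul_mem (le_normalizer (mem_sup_left ho)) ?_
            refine (CfsgLib.Coprime.le_normalizer_sup_sup (A := zpowers c)
              ?_ ?_) (mem_zpowers c)
            · rw [normalizer_eq_top_iff.2 hOn]; exact le_top
            · exact zpowers_le.2 (centralizer_le_normalizer_core (E w) hc)
          refine le_sup_right.trans (le_oddCore (N := M) ?_)
          rw [hM, sup_comm]
          refine ((odd_card_core (E w)).mul (odd_card_oddCore H)).of_dvd_nat
            (CfsgLib.Coprime.card_sup_dvd ?_)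
          rw [normalizer_eq_top_iff.2 hOn]; exact le_top
        intro g
        obtain ⟨o, ho, c, hc, rfl⟩ := CfsgLib.Involutions.ZStar.exists_mul_centralizer hiso g
        obtain ⟨o', ho', n, hn, rfl⟩ := hloc c hc
        exact ⟨o * o', mul_mem ho (hθM ho'), n, hn.1, (mul_assoc _ _ _).symm⟩
      · simp only [Bool.and_eq_true, List.all_eq_true, Bool.not_eq_true', List.any_eq_true,
          Nat.ble_eq, Nat.blt_eq] at h
        obtain ⟨⟨⟨⟨⟨⟨hsy, hlen⟩, hrep⟩, hdist⟩, htwo⟩, hcov⟩, hall⟩ := h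
        have hloc : ∀ w ∈ a :: R, ∀ g ∈ centralizer ({E w} : Set H),
            ∃ o ∈ centralizerPPrimeCore 2 (E w),
              ∃ n ∈ normalizer (B : Set H) ⊓ centralizer ({E w} : Set H), g = o * n := by
          intro w hw
          refine s.loc_step (hrep w hw).1 (stabU L U w)
            (fun c hc he => List.mem_filter.2 ⟨hc, he⟩) _
            (fun hk => ⟨hk, hs hsy⟩)
            (fun K _ _ B' E' s' hs' => ih _ _ _ (hall w hw) K B' E' s' hs')
        exact s.dec_of_loc (a := a) (R := R) (hs hsy) hlen hrep hdist htwo hcov hloc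

/-- The recursion, started with representatives of the orbits. -/
def good0 (fuel : ℕ) (L Q : List ℕ) (U : ℕ) : Bool :=
  match reps U with
  | [] => false
  | a :: R => Nat.ble 7 R.length.succ && ((a :: R).all fun v => Nat.blt v 64 && !inU U v) &&
      distU U (a :: R) && (R.any fun c => L.all fun g => !eqU U (app g a) c) &&
      coverU U (a :: R) &&
      ((a :: R).all fun w => Q.any fun q => L.any fun g => eqU U (app g q) w) &&
      Q.all fun q => Nat.blt q 64 &&
        good fuel (stabU L U q) (extU U q) (keepU (stabU L U q) U (extU U q))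

theorem dec_of_good0 {fuel : ℕ} {L Q : List ℕ} {U : ℕ} (h : good0 fuel L Q U = true) {H : Type u}
    [Group H] [Finite H] {B : Subgroup H} {E : ℕ → H} (s : Sys B E L U)
    (surj : ∀ c ∈ L, ∃ n ∈ normalizer (B : Set H), ∀ v < 64, n * E v * n⁻¹ = E (app c v))
    (hsy : ¬ 2 ∣ B.relIndex (centralizer (B : Set H))) : Dec B := by
  unfold good0 at h
  split at h
  · simp at h
  · rename_i a R hreps
    simp only [Bool.and_eq_true, List.all_eq_true, Bool.not_eq_true', List.any_eq_true,
      Nat.ble_eq, Nat.blt_eq] at h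
    obtain ⟨⟨⟨⟨⟨⟨hlen, hrep⟩, hdist⟩, htwo⟩, hcov⟩, horb⟩, hall⟩ := h
    refine s.dec_of_loc (a := a) (R := R) hsy hlen hrep hdist htwo hcov fun w hw => ?_
    obtain ⟨q, hq, g, hg, e⟩ := horb w hw
    obtain ⟨m, hm, hmv⟩ := surj g hg
    refine s.loc_conj (hall q hq).1 ?_ hm (w := w) ?_
    · exact s.loc_step (hall q hq).1 (stabU L U q)
        (fun c hc he => List.mem_filter.2 ⟨hc, he⟩) _ (fun hk => ⟨hk, hsy⟩)
        (fun K _ _ B' E' s' hs' => dec_of_good _ _ _ _ (hall q hq).2 K B' E' s' hs')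
    · rw [hmv q (hall q hq).1]; exact (s.e_eq (app_lt _ _) (hrep w hw).1).2 e

end CfsgLib.M24Quot
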