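import Cfsg.Agent.Lib.M24Quot.Closed
import Cfsg.Agent.Lib.M24Quot.Automiser
import Cfsg.Agent.Lib.M24Quot.Rec
import Cfsg.Agent.Lib.M24Quot.Good
import Cfsg.Agent.Lib.M24Quot.GoodL0

/-!
The abelian subgroup of order 64 is normal modulo the odd core.
-/

set_option autoImplicit false
set_option maxRecDepth 100000
set_option linter.unusedSectionVars false
set_option linter.style.haveILetI false

namespace CfsgLib.M24Quot

open Cfsg Subgroup CfsgLib.StrongTwoClasses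

universe u

variable {G : Type u} [Group G] [Finite G]

namespace Fr

variable {A : Subgroup G} {S : Sylow 2 G} {E : ℕ → G} (f : Fr A S E)
include f

theorem exists_action : ∃ ψ : ↥(normalizer (A : Set G)) →* P64,
    ∀ n : ↥(normalizer (A : Set G)), ∀ v < 64, (n : G) * E v * (n : G)⁻¹ = E (fn (ψ n) v) := by
  classical
  have hb : Function.Bijective (fun v : Fin 64 => (⟨E v, f.e_mem v.2⟩ : A)) :=
    ⟨fun v w h => Fin.ext (f.e_inj v v.2 w w.2 (congrArg Subtype.val h)), fun ⟨x, hx⟩ =>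
      let ⟨v, hv, e⟩ := (f.e_range x).1 hx; ⟨⟨v, hv⟩, Subtype.ext e⟩⟩
  let e : Fin 64 ≃ A := Equiv.ofBijective _ hb
  let c : ↥(normalizer (A : Set G)) → Equiv.Perm A := fun n =>
    { toFun := fun x => ⟨n * x * (n : G)⁻¹, (mem_normalizer_iff.1 n.2 x).1 x.2⟩
      invFun := fun x => ⟨(n : G)⁻¹ * x * n, by
        have := (mem_normalizer_iff.1 (inv_mem n.2) x).1 x.2
        rwa [inv_inv] at this⟩
      left_inv := fun x => Subtype.ext (by simp [mul_assoc])
      right_inv := fun x => Subtype.ext (by simp [mul_assoc]) }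
  let ψ : ↥(normalizer (A : Set G)) →* P64 :=
    MonoidHom.mk' (fun n => (e.trans (c n)).trans e.symm) (fun n m => by
      refine Equiv.ext fun v => ?_
      show e.symm (c (n * m) (e v)) = e.symm (c n (e (e.symm (c m (e v)))))
      rw [Equiv.apply_symm_apply]
      congr 1
      refine Subtype.ext ?_
      show (n * m : G) * (e v : G) * (n * m : G)⁻¹ = n * (m * (e v : G) * (m : G)⁻¹) * (n : G)⁻¹
      group)
  refine ⟨ψ, fun n v hv => ?_⟩
  have h1 : (e (ψ n ⟨v, hv⟩) : G) = n * (e ⟨v, hv⟩ : G) * (n : G)⁻¹ := by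
    show (e (e.symm (c n (e ⟨v, hv⟩))) : G) = _
    rw [Equiv.apply_symm_apply]; rfl
  have h2 : fn (ψ n) v = ((ψ n ⟨v, hv⟩ : Fin 64) : ℕ) := by
    unfold fn; simp [Nat.mod_eq_of_lt hv]
  rw [h2]
  exact h1.symm

theorem au {ψ : ↥(normalizer (A : Set G)) →* P64}
    (hψ : ∀ n : ↥(normalizer (A : Set G)), ∀ v < 64, (n : G) * E v * (n : G)⁻¹ = E (fn (ψ n) v)) :
    Au ψ.range := by
  haveI : Fact (Nat.Prime 2) := ⟨Nat.prime_two⟩
  have hlin : ∀ n, Lin (ψ n) := by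
    intro n v hv
    refine (app_mk (fun w _ => fn_lt _ w) ?_ (fun w hw w' hw' => ?_) hv).symm
    · refine f.e_inj _ (fn_lt _ _) 0 (by norm_num) ?_
      rw [← hψ n 0 (by norm_num), f.e_zero]; group
    · have hx : w ^^^ w' < 64 := Nat.xor_lt_two_pow (n := 6) hw hw'
      refine f.e_inj _ (fn_lt _ _) _ (Nat.xor_lt_two_pow (n := 6) (fn_lt _ _) (fn_lt _ _)) ?_
      rw [f.e_add _ (fn_lt _ _) _ (fn_lt _ _), ← hψ n _ hx, ← hψ n w hw, ← hψ n w' hw',
        f.e_add w hw w' hw']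
      group
  have hSN : (S : Subgroup G) ≤ normalizer (A : Set G) := fun s hs =>
    mem_normalizer_of_forall fun x hx => f.conj_mem hs hx
  have hSD : ∀ n : ↥(normalizer (A : Set G)), (n : G) ∈ (S : Subgroup G) → IsD (ψ n) := by
    intro n hn
    obtain ⟨k, hk, h, -⟩ := f.act _ hn
    refine ⟨k, hk, ?_⟩
    rw [← (dd_facts hk).1]
    refine mk_congr fun v hv => ?_
    rw [app_idC hv]
    exact f.e_inj _ (fn_lt _ _) _ (app_lt _ _) ((hψ n v hv).symm.trans (h v hv))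
  refine ⟨?_, fun k hk => ?_, fun T hT hT2 hTD σ hσ => ?_⟩
  · rintro _ ⟨n, rfl⟩; exact hlin n
  · obtain ⟨s, hs, h⟩ := f.surj k hk
    refine ⟨ψ ⟨s, hSN hs⟩, ⟨_, rfl⟩, ?_⟩
    rw [← (dd_facts hk).1]
    refine mk_congr fun v hv => ?_
    rw [app_idC hv]
    exact f.e_inj _ (fn_lt _ _) _ (app_lt _ _) ((hψ ⟨s, hSN hs⟩ v hv).symm.trans (h v hv))
  · let P' := (S.subtype hSN).mapSurjective ψ.rangeRestrict_surjective
    have hle : (P' : Subgroup ψ.range) ≤ T.subgroupOf ψ.range := by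
      intro x hx
      rw [Sylow.coe_mapSurjective] at hx
      obtain ⟨n, hn, rfl⟩ := hx
      exact hTD _ ⟨n, rfl⟩ (hSD n (mem_subgroupOf.1 hn))
    have heq := P'.3 (hT2.comap_subtype (K := ψ.range)) hle
    obtain ⟨n, rfl⟩ := hT hσ
    have hmem : ψ.rangeRestrict n ∈ (P' : Subgroup ψ.range) := heq ▸ (show ψ n ∈ T from hσ)
    rw [Sylow.coe_mapSurjective] at hmem
    obtain ⟨m, hm, e⟩ := hmem
    have e' : ψ m = ψ n := congrArg Subtype.val e
    exact e' ▸ hSD m (mem_subgroupOf.1 hm)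

theorem not_dvd_relIndex : ¬ 2 ∣ A.relIndex (centralizer (A : Set G)) := by
  haveI : Fact (Nat.Prime 2) := ⟨Nat.prime_two⟩
  have hAC : A ≤ centralizer (A : Set G) := fun x hx =>
    mem_centralizer_iff.2 fun y hy => f.comm hy hx
  obtain ⟨T, hAT, hTC, hT, hmax⟩ := exists_twoGroup_ge f.isPGroup hAC
  obtain ⟨S', E', f', hTS⟩ := f.exists_ge hT hAT
  suffices T ≤ A by rw [le_antisymm this hAT] at hmax; exact hmax
  intro t ht
  obtain ⟨l, hl, h, h0⟩ := f'.act t (hTS ht)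
  refine h0.1 (dd_eq hl (by norm_num) fun v hv => ?_)
  rw [app_dd_zero hv]
  refine f'.e_inj _ (app_lt _ _) v hv ?_
  rw [← h v hv, ← mem_centralizer_iff.1 (hTC ht) _ (f'.e_mem hv), mul_inv_cancel_right]

theorem normal (hO : oddCore G = ⊥) : A.Normal := by
  obtain ⟨ψ, hψ⟩ := f.exists_action
  have a := f.au hψ
  obtain ⟨g, g1, g2, L, hL, hX, hLX⟩ := a.out
  set E' : ℕ → G := fun v => E (app g.1 v) with hE'
  have hg21 : ∀ v < 64, app g.2 (app g.1 v) = v := fun v hv => by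
    rw [← app_mulC _ _ hv, g2, app_idC hv]
  have hg12 : ∀ v < 64, app g.1 (app g.2 v) = v := fun v hv => by
    rw [← app_mulC _ _ hv, g1, app_idC hv]
  have hconj : ∀ (n : ↥(normalizer (A : Set G))) (c : ℕ), code (ψ n) = mulC g.1 (mulC c g.2) →
      ∀ v < 64, (n : G) * E' v * (n : G)⁻¹ = E' (app c v) := by
    intro n c hc v hv
    show (n : G) * E (app g.1 v) * (n : G)⁻¹ = E (app g.1 (app c v))
    rw [hψ n _ (app_lt _ _), (a.lin _ ⟨n, rfl⟩) _ (app_lt _ _), hc, app_mulC _ _ (app_lt _ _),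
      app_mulC _ _ (app_lt _ _), hg21 v hv]
  have s : Sys A E' L 1 := by
    refine ⟨fun v hv w hw => ?_, fun v hv => ?_, fun x => ?_, f.closed, fun n hn => ?_⟩
    · show E (app g.1 (v ^^^ w)) = _
      rw [app_xor, f.e_add _ (app_lt _ _) _ (app_lt _ _)]
    · rw [inU, Nat.testBit_one_eq_true_iff_self_eq_zero]
      refine ⟨fun h => ?_, fun h => ?_⟩
      · have := f.e_inj _ (app_lt g.1 v) 0 (by norm_num) (by rw [f.e_zero]; exact h)
        rw [← hg21 v hv, this, app_zero]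
      · rw [h]; show E (app g.1 0) = 1; rw [app_zero, f.e_zero]
    · rw [f.e_range]
      refine ⟨fun ⟨v, hv, e⟩ => ⟨app g.2 v, app_lt _ _, ?_⟩, fun ⟨v, hv, e⟩ => ⟨_, app_lt _ _, e⟩⟩
      show E (app g.1 (app g.2 v)) = x
      rw [hg12 v hv, e]
    · obtain ⟨c, hc, e⟩ := hX (ψ ⟨n, hn⟩) ⟨_, rfl⟩
      exact ⟨c, hc, hconj ⟨n, hn⟩ c e⟩
  have surj : ∀ c ∈ L, ∃ n ∈ normalizer (A : Set G), ∀ v < 64,
      n * E' v * n⁻¹ = E' (app c v) := by
    intro c hc
    obtain ⟨_, ⟨n, rfl⟩, e⟩ := hLX c hc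
    exact ⟨n, n.2, hconj n c e⟩
  have hdec : Dec A := by
    rcases hL with rfl | rfl | rfl | rfl
    · exact dec_of_good _ _ _ _ good_D G A E' s fun _ => f.not_dvd_relIndex
    · exact dec_of_good _ _ _ _ good_G1 G A E' s fun _ => f.not_dvd_relIndex
    · exact dec_of_good _ _ _ _ good_G2 G A E' s fun _ => f.not_dvd_relIndex
    · exact dec_of_good0 good0_L0 s surj f.not_dvd_relIndex
  refine ⟨fun x hx g => ?_⟩
  obtain ⟨o, ho, n, hn, rfl⟩ := hdec g
  rw [hO, mem_bot] at ho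
  subst ho
  rw [one_mul]
  exact (mem_normalizer_iff.1 hn x).1 hx

end Fr

end CfsgLib.M24Quot
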