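import Cfsg.Agent.Lib.M24Quot.Checks
import Cfsg.Agent.Lib.StrongTwoClasses.Tools

/-!
Permutations of the 64 vectors given by codes, and groups of them containing the first group as a
maximal 2-subgroup.
-/

set_option autoImplicit false
set_option linter.unusedSectionVars false
set_option linter.style.haveILetI false
set_option maxRecDepth 100000

namespace CfsgLib.M24Quot

open Subgroup

/-- permutations of the vectors -/
abbrev P64 : Type := Equiv.Perm (Fin 64)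

/-- a permutation as a function of numbers -/
def fn (σ : P64) (v : ℕ) : ℕ := (σ ⟨v % 64, Nat.mod_lt _ (by norm_num)⟩ : Fin 64)

/-- the code of a permutation -/
def code (σ : P64) : ℕ := mk (fn σ)

/-- linearity -/
def Lin (σ : P64) : Prop := ∀ v < 64, fn σ v = app (code σ) v

theorem fn_lt (σ : P64) (v : ℕ) : fn σ v < 64 := Fin.is_lt _

theorem fn_mul (σ τ : P64) (v : ℕ) : fn (σ * τ) v = fn σ (fn τ v) := by
  unfold fn
  rw [Equiv.Perm.mul_apply]
  congr 2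
  exact Fin.ext (Nat.mod_eq_of_lt (Fin.is_lt _)).symm

theorem fn_one {v : ℕ} (hv : v < 64) : fn 1 v = v := Nat.mod_eq_of_lt hv

theorem ext_fn {σ τ : P64} (h : ∀ v < 64, fn σ v = fn τ v) : σ = τ := by
  refine Equiv.ext fun v => Fin.ext ?_
  have := h v v.2
  unfold fn at this
  simpa [Nat.mod_eq_of_lt v.2] using this

theorem code_one : code 1 = idC := mk_congr fun _ hv => fn_one hv

theorem lin_one : Lin 1 := fun v hv => by rw [code_one, app_idC hv, fn_one hv]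

theorem Lin.code_mul {σ τ : P64} (hσ : Lin σ) (hτ : Lin τ) :
    code (σ * τ) = mulC (code σ) (code τ) :=
  mk_congr fun v hv => by rw [fn_mul, hσ _ (fn_lt _ _), hτ v hv]

theorem Lin.mul {σ τ : P64} (hσ : Lin σ) (hτ : Lin τ) : Lin (σ * τ) := fun v hv => by
  rw [hσ.code_mul hτ, app_mulC _ _ hv, fn_mul, hσ _ (fn_lt _ _), hτ v hv]

theorem Lin.ext {σ τ : P64} (hσ : Lin σ) (hτ : Lin τ) (h : code σ = code τ) : σ = τ :=
  ext_fn fun v hv => by rw [hσ v hv, hτ v hv, h]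

theorem Lin.canon {σ : P64} (hσ : Lin σ) : mulC (code σ) idC = code σ :=
  mk_congr fun v hv => by rw [app_idC hv, hσ v hv]

theorem Lin.add {σ : P64} (hσ : Lin σ) {v w : ℕ} (hv : v < 64) (hw : w < 64) :
    fn σ (v ^^^ w) = fn σ v ^^^ fn σ w := by
  rw [hσ v hv, hσ w hw, hσ _ (Nat.xor_lt_two_pow (n := 6) hv hw), app_xor]

theorem exists_perm {c ci : ℕ} (h1 : mulC c ci = idC) (h2 : mulC ci c = idC) :
    ∃ σ : P64, Lin σ ∧ code σ = mulC c idC ∧ ∀ v < 64, fn σ v = app c v := by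
  refine ⟨⟨fun v => ⟨app c v, app_lt _ _⟩, fun v => ⟨app ci v, app_lt _ _⟩, fun v => Fin.ext ?_,
    fun v => Fin.ext ?_⟩, ?_⟩
  · show app ci (app c v) = v
    rw [← app_mulC ci c v.2, h2, app_idC v.2]
  · show app c (app ci v) = v
    rw [← app_mulC c ci v.2, h1, app_idC v.2]
  have e : ∀ v < 64, app c (v % 64) = app c v := fun v hv => by rw [Nat.mod_eq_of_lt hv]
  have hc : mk (fun v => app c (v % 64)) = mulC c idC :=
    mk_congr fun v hv => by rw [e v hv, app_idC hv]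
  refine ⟨fun v hv => ?_, hc, e⟩
  refine (e v hv).trans ?_
  show app c v = app (mk fun v => app c (v % 64)) v
  rw [hc, app_mulC _ _ hv, app_idC hv]

/-- one of the eight maps -/
def IsD (σ : P64) : Prop := ∃ k < 8, code σ = dd k

/-- The hypotheses on the automiser. -/
structure Au (X : Subgroup P64) : Prop where
  lin : ∀ σ ∈ X, Lin σ
  mem : ∀ k < 8, ∃ σ ∈ X, code σ = dd k
  max : ∀ T ≤ X, IsPGroup 2 T → (∀ σ ∈ X, IsD σ → σ ∈ T) → ∀ σ ∈ T, IsD σ

theorem mt_pow_four : ((List.range 8).all fun k => Nat.beq (mt (mt k k) (mt k k)) 0) = true := by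
  decide +kernel

theorem dd_zero' : dd 0 = idC := Nat.beq_eq.mp dd_ok.2.1

theorem dd_mul {k l : ℕ} (hk : k < 8) (hl : l < 8) :
    mt k l < 8 ∧ mulC (dd k) (dd l) = dd (mt k l) ∧ (dd k = dd l → k = l) := by
  have h := dd_ok.1
  simp only [Bool.and_eq_true, List.all_eq_true, List.mem_range, List.any_eq_true, Bool.or_eq_true,
    Bool.not_eq_true', Nat.beq_eq, Nat.blt_eq] at h
  obtain ⟨⟨-, h2⟩, -⟩ := h k hk
  refine ⟨(h2 l hl).1.1, (h2 l hl).1.2, fun e => ?_⟩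
  rcases (h2 l hl).2 with h4 | h4
  · rw [e, Nat.beq_refl] at h4; exact Bool.noConfusion h4
  · exact h4

namespace Au

variable {X : Subgroup P64} (a : Au X)
include a

theorem code_mul {σ τ : P64} (hσ : σ ∈ X) (hτ : τ ∈ X) :
    code (σ * τ) = mulC (code σ) (code τ) := (a.lin σ hσ).code_mul (a.lin τ hτ)

theorem ext {σ τ : P64} (hσ : σ ∈ X) (hτ : τ ∈ X) (h : code σ = code τ) : σ = τ :=
  (a.lin σ hσ).ext (a.lin τ hτ) h

theorem isD_mul {σ τ : P64} (hσ : σ ∈ X) (hτ : τ ∈ X) (h : IsD σ) (h' : IsD τ) :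
    IsD (σ * τ) := by
  obtain ⟨k, hk, e⟩ := h
  obtain ⟨l, hl, e'⟩ := h'
  exact ⟨mt k l, (dd_mul hk hl).1, by rw [a.code_mul hσ hτ, e, e', (dd_mul hk hl).2.1]⟩

theorem isD_pow_four {σ : P64} (hσ : σ ∈ X) (h : IsD σ) : σ ^ 4 = 1 := by
  obtain ⟨k, hk, e⟩ := h
  have h2 := (dd_mul hk hk).1
  have h4 := mt_pow_four
  simp only [List.all_eq_true, List.mem_range, Nat.beq_eq] at h4
  have e2 : code (σ * σ) = dd (mt k k) := by rw [a.code_mul hσ hσ, e, (dd_mul hk hk).2.1]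
  refine a.ext (pow_mem hσ 4) (one_mem X) ?_
  rw [show σ ^ 4 = σ * σ * (σ * σ) by simp only [pow_succ, pow_zero, one_mul, mul_assoc],
    a.code_mul (mul_mem hσ hσ) (mul_mem hσ hσ), e2, (dd_mul h2 h2).2.1, h4 k hk, dd_zero',
    code_one]

theorem exists_DX : ∃ D : Subgroup P64, D ≤ X ∧ IsPGroup 2 D ∧ (∀ σ, σ ∈ D ↔ σ ∈ X ∧ IsD σ) ∧
    ¬ 2 ∣ D.relIndex X := by
  let C : Submonoid P64 :=
    { carrier := {σ | σ ∈ X ∧ IsD σ}
      one_mem' := ⟨one_mem X, 0, by norm_num, by rw [code_one, dd_zero']⟩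
      mul_mem' := fun h h' => ⟨mul_mem h.1 h'.1, a.isD_mul h.1 h'.1 h.2 h'.2⟩ }
  let D : Subgroup P64 :=
    { C with
      inv_mem' := fun {σ} h => by
        have h1 : σ⁻¹ = σ ^ 3 := inv_eq_of_mul_eq_one_right (by
          rw [← pow_succ', a.isD_pow_four h.1 h.2])
        show σ⁻¹ ∈ C
        rw [h1]; exact pow_mem (show σ ∈ C from h) 3 }
  have hD : ∀ σ, σ ∈ D ↔ σ ∈ X ∧ IsD σ := fun _ => Iff.rfl
  have hDX : D ≤ X := fun σ h => ((hD σ).1 h).1
  have hD2 : IsPGroup 2 D := fun σ => ⟨2, Subtype.ext (by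
    rw [SubmonoidClass.coe_pow]; exact a.isD_pow_four ((hD σ).1 σ.2).1 ((hD σ).1 σ.2).2)⟩
  refine ⟨D, hDX, hD2, hD, ?_⟩
  obtain ⟨T, hDT, hTX, hT, hmax⟩ := CfsgLib.StrongTwoClasses.exists_twoGroup_ge hD2 hDX
  have : T ≤ D := fun σ hσ => (hD σ).2
    ⟨hTX hσ, a.max T hTX hT (fun τ hτ h => hDT ((hD τ).2 ⟨hτ, h⟩)) σ hσ⟩
  rwa [le_antisymm hDT this]

theorem exists_conj {T : Subgroup P64} (hT : IsPGroup 2 T) (hTX : T ≤ X) :
    ∃ g ∈ X, ∀ t ∈ T, IsD (g⁻¹ * t * g) := by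
  haveI : Fact (Nat.Prime 2) := ⟨Nat.prime_two⟩
  obtain ⟨D, hDX, hD2, hD, hmax⟩ := a.exists_DX
  obtain ⟨g, hg, hgT⟩ := CfsgLib.Transfer.exists_conj_le_of_isPGroup hD2 hDX hmax hT hTX
  exact ⟨g, hg, fun t ht => ((hD _).1 (hgT t ht)).2⟩

end Au

end CfsgLib.M24Quot
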